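import Mathlib
import Groth.Prelude.Def_MoreMor

set_option autoImplicit false
set_option backward.isDefEq.respectTransparency false
set_option backward.defeqAttrib.useBackward true
set_option linter.style.haveILetI false

/-!
# Geometric points in fibres of locally quasi-finite morphisms and fibre integrals
-/

open AlgebraicGeometry CategoryTheory Limits

universe u

namespace Groth.Agent.EtaleSplit

/-- Residue field extensions of locally quasi-finite morphisms are finite. -/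
theorem finite_residueFieldMap {X Y : Scheme.{u}} (f : X ⟶ Y) (x : X) (hx : f.QuasiFiniteAt x) :
    (f.residueFieldMap x).hom.Finite := by
  have h1 : ((X.residue x).hom.comp (f.stalkMap x).hom).QuasiFinite :=
    (RingHom.QuasiFinite.of_finite (RingHom.Finite.of_surjective _ (X.residue_surjective x))).comp hx
  rw [← CommRingCat.hom_comp, ← Scheme.residue_residueFieldMap, CommRingCat.hom_comp] at h1
  have h2 := RingHom.QuasiFinite.of_comp h1
  algebraize [(f.residueFieldMap x).hom]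
  exact (Module.Finite.of_quasiFinite : Module.Finite (Y.residueField (f x)) (X.residueField x))

variable (Ω : Type u) [Field Ω]

/-- The `Ω`-valued point `q` lies at `v`. -/
noncomputable abbrev pt {X : Scheme.{u}} {Ω : Type u} [Field Ω] (p : Spec (.of Ω) ⟶ X) : X :=
  p (IsLocalRing.closedPoint Ω)

theorem pt_eq {X : Scheme.{u}} {Ω : Type u} [Field Ω] (p : Spec (.of Ω) ⟶ X)
    (z : Spec (CommRingCat.of Ω)) : p z = pt p :=
  congrArg p (Subsingleton.elim z _)

theorem pt_comp {X Y : Scheme.{u}} {Ω : Type u} [Field Ω] (p : Spec (.of Ω) ⟶ X) (f : X ⟶ Y) :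
    pt (p ≫ f) = f (pt p) := rfl

variable {Ω}

/-- The geometric points of the source over a given geometric point of the target. -/
abbrev GPts {X Y : Scheme.{u}} (f : X ⟶ Y) (q : Spec (.of Ω) ⟶ Y) : Type u :=
  {p : Spec (.of Ω) ⟶ X // p ≫ f = q}

theorem GPts.map_pt {X Y : Scheme.{u}} {f : X ⟶ Y} {q : Spec (.of Ω) ⟶ Y} (p : GPts f q) :
    f (pt p.1) = pt q := by
  rw [← pt_comp, p.2]

/-- Embeddings of residue fields over a geometric point. -/
abbrev GEmb {X Y : Scheme.{u}} (f : X ⟶ Y) (q : Spec (.of Ω) ⟶ Y) (x : {x : X // f x = pt q}) :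
    Type u :=
  {φ : X.residueField x.1 ⟶ .of Ω //
    f.residueFieldMap x.1 ≫ φ =
      (Y.residueFieldCongr x.2).hom ≫ (Scheme.SpecToEquivOfField Ω Y q).2}

theorem specTo_comp {X Y : Scheme.{u}} (f : X ⟶ Y) (p : Spec (.of Ω) ⟶ X) :
    Scheme.SpecToEquivOfField Ω Y (p ≫ f) =
      ⟨f (pt p), f.residueFieldMap (pt p) ≫ (Scheme.SpecToEquivOfField Ω X p).2⟩ := by
  rw [Scheme.SpecToEquivOfField_eq_iff]
  exact ⟨rfl, by simp⟩

/-- Geometric points over `q` are pairs of a point of the fibre and an embedding. -/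
noncomputable def gptsEquiv {X Y : Scheme.{u}} (f : X ⟶ Y) (q : Spec (.of Ω) ⟶ Y) :
    GPts f q ≃ Σ x : {x : X // f x = pt q}, GEmb f q x := by
  refine Equiv.ofBijective
    (fun p => ⟨⟨pt p.1, p.map_pt⟩, ⟨(Scheme.SpecToEquivOfField Ω X p.1).2, ?_⟩⟩) ⟨?_, ?_⟩
  · have h := (specTo_comp f p.1).symm.trans (congrArg (Scheme.SpecToEquivOfField Ω Y) p.2)
    obtain ⟨e, he⟩ := Scheme.SpecToEquivOfField_eq_iff.mp h
    exact he
  · intro p p' h
    apply Subtype.ext
    apply (Scheme.SpecToEquivOfField Ω X).injective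
    exact congrArg (fun s : Σ x : {x : X // f x = pt q}, GEmb f q x =>
      (⟨s.1.1, s.2.1⟩ : Σ x, X.residueField x ⟶ .of Ω)) h
  · rintro ⟨⟨x, hx⟩, ⟨φ, hφ⟩⟩
    obtain ⟨p, hp⟩ := (Scheme.SpecToEquivOfField Ω X).surjective ⟨x, φ⟩
    have hq : p ≫ f = q := by
      apply (Scheme.SpecToEquivOfField Ω Y).injective
      rw [specTo_comp]
      have hpt : pt p = x := congrArg Sigma.fst hp
      subst hpt
      have h2 : (Scheme.SpecToEquivOfField Ω X p).2 = φ :=
        eq_of_heq (congr_arg_heq Sigma.snd hp)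
      rw [h2, Scheme.SpecToEquivOfField_eq_iff]
      exact ⟨hx, hφ⟩
    refine ⟨⟨p, hq⟩, ?_⟩
    have hpt : pt p = x := congrArg Sigma.fst hp
    subst hpt
    have h2 : (Scheme.SpecToEquivOfField Ω X p).2 = φ :=
      eq_of_heq (congr_arg_heq Sigma.snd hp)
    subst h2
    rfl

@[simp] theorem gptsEquiv_pt {X Y : Scheme.{u}} (f : X ⟶ Y) (q : Spec (.of Ω) ⟶ Y)
    (p : GPts f q) : (gptsEquiv f q p).1.1 = pt p.1 := rfl

/-- `GEmb` as algebra homomorphisms. -/
theorem card_gemb {X Y : Scheme.{u}} [IsAlgClosed Ω] (f : X ⟶ Y) [LocallyQuasiFinite f]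
    (q : Spec (.of Ω) ⟶ Y) (x : {x : X // f x = pt q}) :
    Finite (GEmb f q x) ∧ Nat.card (GEmb f q x) =
      (letI := (f.residueFieldMap x.1).hom.toAlgebra
       Field.finSepDegree (Y.residueField (f x.1)) (X.residueField x.1)) ∧
      Nonempty (GEmb f q x) := by
  letI := (f.residueFieldMap x.1).hom.toAlgebra
  letI : Algebra (Y.residueField (f x.1)) Ω :=
    ((Y.residueFieldCongr x.2).hom ≫ (Scheme.SpecToEquivOfField Ω Y q).2).hom.toAlgebra
  haveI : Module.Finite (Y.residueField (f x.1)) (X.residueField x.1) :=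
    finite_residueFieldMap f x.1 (f.quasiFiniteAt x.1)
  let e : GEmb f q x ≃ (X.residueField x.1 →ₐ[Y.residueField (f x.1)] Ω) :=
    { toFun := fun φ => ⟨φ.1.hom, fun a => by
        have h := φ.2
        exact RingHom.congr_fun (congrArg CommRingCat.Hom.hom h) a⟩
      invFun := fun ψ => ⟨CommRingCat.ofHom ψ.toRingHom, by
        ext a; exact ψ.commutes a⟩
      left_inv := fun φ => rfl
      right_inv := fun ψ => rfl }
  refine ⟨Finite.of_equiv _ e.symm, ?_, ⟨e.symm IsAlgClosed.lift⟩⟩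
  rw [Nat.card_congr e]
  exact (Field.finSepDegree_eq_of_isAlgClosed (Y.residueField (f x.1)) (X.residueField x.1) Ω).symm

theorem exists_gpt {X Y : Scheme.{u}} [IsAlgClosed Ω] (f : X ⟶ Y) [LocallyQuasiFinite f]
    (q : Spec (.of Ω) ⟶ Y) (x : X) (hx : f x = pt q) : ∃ p : GPts f q, pt p.1 = x := by
  obtain ⟨φ⟩ := (card_gemb f q ⟨x, hx⟩).2.2
  refine ⟨(gptsEquiv f q).symm ⟨⟨x, hx⟩, φ⟩, ?_⟩
  rw [← gptsEquiv_pt, Equiv.apply_symm_apply]

theorem finite_gpts_over {X Y : Scheme.{u}} [IsAlgClosed Ω] (f : X ⟶ Y) [LocallyQuasiFinite f]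
    (q : Spec (.of Ω) ⟶ Y) (A : Set X) (hA : {x | x ∈ A ∧ f x = pt q}.Finite) :
    {p : GPts f q | pt p.1 ∈ A}.Finite := by
  haveI := fun x => (card_gemb f q x).1
  have hA' : {x : {x : X // f x = pt q} | x.1 ∈ A}.Finite :=
    Set.Finite.of_finite_image (f := Subtype.val)
      (hA.subset (by rintro _ ⟨x, hx, rfl⟩; exact ⟨hx, x.2⟩)) Subtype.val_injective.injOn
  haveI := hA'.to_subtype
  have h : Finite {p : GPts f q | pt p.1 ∈ A} := by
    refine Finite.of_injective
      (β := Σ x : {x : {x : X // f x = pt q} | x.1 ∈ A}, GEmb f q x.1)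
      (fun p => ⟨⟨(gptsEquiv f q p.1).1, p.2⟩, (gptsEquiv f q p.1).2⟩) ?_
    intro p p' h
    apply Subtype.ext
    apply (gptsEquiv f q).injective
    exact congrArg (fun s : Σ x : {x : {x : X // f x = pt q} | x.1 ∈ A}, GEmb f q x.1 =>
      (⟨s.1.1, s.2⟩ : Σ x : {x : X // f x = pt q}, GEmb f q x)) h
  exact Set.toFinite _

/-- The integral of `w` over the geometric points above `q`. -/
noncomputable def gint {X Y : Scheme.{u}} (f : X ⟶ Y) (w : X → ℤ) (q : Spec (.of Ω) ⟶ Y) : ℤ :=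
  ∑ᶠ p : GPts f q, w (pt p.1)

theorem gint_eq {X Y : Scheme.{u}} [IsAlgClosed Ω] (f : X ⟶ Y) [LocallyQuasiFinite f]
    (w : X → ℤ) (q : Spec (.of Ω) ⟶ Y) (hfin : {x | w x ≠ 0 ∧ f x = pt q}.Finite) :
    gint f w q = MoreMor.fibreIntegral f w (pt q) := by
  classical
  haveI := fun x => (card_gemb f q x).1
  haveI : ∀ x, Fintype (GEmb f q x) := fun x => Fintype.ofFinite _
  have hS : {x : {x : X // f x = pt q} | w x.1 ≠ 0}.Finite :=
    Set.Finite.of_finite_image (f := Subtype.val)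
      (hfin.subset (by rintro _ ⟨x, hx, rfl⟩; exact ⟨hx, x.2⟩)) Subtype.val_injective.injOn
  rw [gint]
  refine Eq.trans (finsum_eq_of_bijective
    (g := fun s : Σ x : {x : X // f x = pt q}, GEmb f q x => w s.1.1)
    (gptsEquiv f q) (gptsEquiv f q).bijective (fun p => rfl)) ?_
  rw [finsum_eq_sum_of_support_subset _ (s := hS.toFinset.sigma fun _ => Finset.univ) (by
    intro s hs; simpa using hs)]
  rw [Finset.sum_sigma]
  rw [MoreMor.fibreIntegral, finsum_eq_sum_of_support_subset _ (s := hS.toFinset) (by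
    intro x hx
    simp only [Set.Finite.coe_toFinset, Set.mem_setOf_eq]
    intro h0
    exact hx (by simp [h0]))]
  refine Finset.sum_congr rfl fun x _ => ?_
  simp only [Finset.sum_const, Finset.card_univ, nsmul_eq_mul]
  rw [← Nat.card_eq_fintype_card, (card_gemb f q x).2.1]
  ring

/-- Base change of geometric points. -/
noncomputable def gptsBaseChange {X Y X' Y' : Scheme.{u}} {f : X ⟶ Y} {f' : X' ⟶ Y'} {h : X' ⟶ X}
    {g : Y' ⟶ Y} (hc : IsPullback h f' f g) (q' : Spec (.of Ω) ⟶ Y') :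
    GPts f' q' ≃ GPts f (q' ≫ g) where
  toFun p := ⟨p.1 ≫ h, by rw [Category.assoc, hc.w, ← Category.assoc, p.2]⟩
  invFun p := ⟨hc.lift p.1 q' p.2, hc.lift_snd _ _ _⟩
  left_inv p := Subtype.ext (hc.hom_ext (by simp) (by simp [p.2]))
  right_inv p := Subtype.ext (hc.lift_fst _ _ _)

@[simp] theorem gptsBaseChange_apply {X Y X' Y' : Scheme.{u}} {f : X ⟶ Y} {f' : X' ⟶ Y'}
    {h : X' ⟶ X} {g : Y' ⟶ Y} (hc : IsPullback h f' f g) (q' : Spec (.of Ω) ⟶ Y')
    (p : GPts f' q') : (gptsBaseChange hc q' p).1 = p.1 ≫ h := rfl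

theorem gint_baseChange {X Y X' Y' : Scheme.{u}} {f : X ⟶ Y} {f' : X' ⟶ Y'} {h : X' ⟶ X}
    {g : Y' ⟶ Y} (hc : IsPullback h f' f g) (w : X → ℤ) (q' : Spec (.of Ω) ⟶ Y') :
    gint f' (fun x => w (h x)) q' = gint f w (q' ≫ g) :=
  finsum_eq_of_bijective (gptsBaseChange hc q') (gptsBaseChange hc q').bijective fun _ => rfl

/-- A chosen geometric point at a point. -/
noncomputable def geomPt {Y : Scheme.{u}} (y : Y) :
    Spec (.of (AlgebraicClosure (Y.residueField y))) ⟶ Y :=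
  Spec.map (CommRingCat.ofHom
    (algebraMap (Y.residueField y) (AlgebraicClosure (Y.residueField y)))) ≫
      Y.fromSpecResidueField y

@[simp] theorem pt_geomPt {Y : Scheme.{u}} (y : Y) : pt (geomPt y) = y := by
  show (geomPt y) _ = y
  rw [geomPt, Scheme.Hom.comp_apply]
  exact Scheme.fromSpecResidueField_apply _ _

theorem pullback_fibre_finite {X Y X' Y' : Scheme.{u}} {f : X ⟶ Y} {f' : X' ⟶ Y'}
    [LocallyQuasiFinite f] [LocallyQuasiFinite f'] {h : X' ⟶ X}
    {g : Y' ⟶ Y} (hc : IsPullback h f' f g) (A : Set X) (y' : Y')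
    (hA : {x | x ∈ A ∧ f x = g y'}.Finite) : {x | h x ∈ A ∧ f' x = y'}.Finite := by
  let q' : Spec (.of (AlgebraicClosure (Y'.residueField y'))) ⟶ Y' := geomPt y'
  have hq : pt q' = y' := pt_geomPt y'
  have h1 : {p : GPts f (q' ≫ g) | pt p.1 ∈ A}.Finite :=
    finite_gpts_over f _ A (by rwa [pt_comp, hq])
  refine ((h1.preimage (gptsBaseChange hc q').injective.injOn).image
    fun p : GPts f' q' => pt p.1).subset ?_
  rintro x ⟨hx, hy⟩
  obtain ⟨p, hp⟩ := exists_gpt f' q' x (hy.trans hq.symm)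
  refine ⟨p, ?_, hp⟩
  show h (pt p.1) ∈ A
  rwa [hp]

/-- Points of a subscheme. -/
theorem gint_indicator {X Y W : Scheme.{u}} (f : X ⟶ Y) (j : W ⟶ X) [IsOpenImmersion j]
    (w : X → ℤ) (q : Spec (.of Ω) ⟶ Y) :
    gint (j ≫ f) (fun z => w (j z)) q = gint f ((Set.range j).indicator w) q := by
  classical
  let i : GPts (j ≫ f) q → GPts f q := fun p => ⟨p.1 ≫ j, by rw [Category.assoc, p.2]⟩
  have hi : Function.Injective i := fun p p' h =>
    Subtype.ext ((cancel_mono j).mp (congrArg Subtype.val h))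
  have hr : Set.range i = {p : GPts f q | pt p.1 ∈ Set.range j} := by
    ext p
    constructor
    · rintro ⟨p', rfl⟩
      exact ⟨pt p'.1, rfl⟩
    · intro hp
      have hsub : Set.range p.1 ⊆ Set.range j := by
        rintro _ ⟨z, rfl⟩
        rw [pt_eq]
        exact hp
      refine ⟨⟨IsOpenImmersion.lift j p.1 hsub, ?_⟩, ?_⟩
      · rw [← Category.assoc, IsOpenImmersion.lift_fac, p.2]
      · exact Subtype.ext (IsOpenImmersion.lift_fac j p.1 hsub)
  rw [gint, gint]
  rw [← finsum_mem_univ, ← finsum_mem_univ (f := fun p : GPts f q => _)]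
  have h2 : ∑ᶠ p ∈ (Set.univ : Set (GPts f q)), (Set.range j).indicator w (pt p.1) =
      ∑ᶠ p ∈ Set.range i, w (pt p.1) := by
    rw [hr, finsum_mem_univ, finsum_mem_def]
    refine finsum_congr fun p => ?_
    simp only [Set.indicator_apply, Set.mem_setOf_eq]
  rw [h2, finsum_mem_range hi, finsum_mem_univ]
  rfl

theorem fibreIntegral_open {X Y : Scheme.{u}} (f : X ⟶ Y) [LocallyQuasiFinite f] (U : X.Opens)
    (w : X → ℤ) (y : Y) (hfin : {x | x ∈ U ∧ f x = y}.Finite) :
    MoreMor.fibreIntegral (U.ι ≫ f) (fun u => w (U.ι u)) y =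
      MoreMor.fibreIntegral f ((U : Set X).indicator w) y := by
  have h1 := gint_indicator f U.ι w (geomPt y)
  rw [gint_eq (U.ι ≫ f) _ (geomPt y), gint_eq f _ (geomPt y), pt_geomPt] at h1
  · simpa using h1
  · rw [pt_geomPt]
    refine hfin.subset fun x hx => ⟨?_, hx.2⟩
    simpa using Set.mem_of_indicator_ne_zero hx.1
  · rw [pt_geomPt]
    refine Set.Finite.of_finite_image (f := U.ι) (hfin.subset ?_) U.ι.isOpenEmbedding.injective.injOn
    rintro _ ⟨u, hu, rfl⟩
    exact ⟨u.2, hu.2⟩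

end Groth.Agent.EtaleSplit
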