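import Mathlib
import Groth.Agent.EtaleSplit.GeomPoint

set_option autoImplicit false
set_option backward.isDefEq.respectTransparency false
set_option backward.defeqAttrib.useBackward true
set_option linter.style.haveILetI false

/-!
# Realising separable elements in residue fields of étale neighbourhoods
-/

open AlgebraicGeometry CategoryTheory Limits Polynomial

universe u

namespace Groth.Agent.EtaleSplit

variable {Ω : Type u} [Field Ω]

theorem exists_etale_root {R : CommRingCat.{u}} (ψ : R ⟶ .of Ω) (α : Ω) (h : (R : Type u)[X])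
    (h0 : h.eval₂ ψ.hom α = 0) (h1 : (derivative h).eval₂ ψ.hom α ≠ 0)
    (hd : ψ.hom h.leadingCoeff ≠ 0) :
    ∃ (R' : CommRingCat.{u}) (φ : R ⟶ R') (ψ' : R' ⟶ .of Ω),
      φ.hom.Etale ∧ φ ≫ ψ' = ψ ∧ α ∈ Set.range ψ'.hom := by
  letI : Algebra R Ω := ψ.hom.toAlgebra
  let d := h.leadingCoeff
  let A := Localization.Away d
  let ψA : A →+* Ω := IsLocalization.Away.lift (S := A) d (g := ψ.hom) (isUnit_iff_ne_zero.mpr hd)
  letI : Algebra A Ω := ψA.toAlgebra
  haveI : IsScalarTower R A Ω := IsScalarTower.of_algebraMap_eq fun r =>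
    (IsLocalization.Away.lift_eq (S := A) d (g := ψ.hom) (isUnit_iff_ne_zero.mpr hd) r).symm
  obtain ⟨e, he⟩ := (IsLocalization.Away.algebraMap_isUnit (S := A) d).exists_left_inv
  haveI : Nontrivial A := (algebraMap A Ω).domain_nontrivial
  have hne : algebraMap R A h.leadingCoeff ≠ 0 := fun h' => by
    have h2 := congrArg (algebraMap A Ω) h'
    rw [map_zero, ← IsScalarTower.algebraMap_apply] at h2
    exact hd h2
  have hmon : (C e * h.map (algebraMap R A)).Monic :=
    monic_C_mul_of_mul_leadingCoeff_eq_one (by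
      rw [leadingCoeff_map_of_leadingCoeff_ne_zero _ hne]; exact he)
  let P : StandardEtalePair A := ⟨C e * h.map (algebraMap R A), hmon,
    derivative (C e * h.map (algebraMap R A)), 1, 0, 1, by simp⟩
  have he0 : algebraMap A Ω e ≠ 0 := fun h' => by
    have h2 := congrArg (algebraMap A Ω) he
    rw [map_mul, h', zero_mul, map_one] at h2
    exact zero_ne_one h2
  have hmap : P.HasMap α := by
    constructor
    · show aeval α (C e * h.map (algebraMap R A)) = 0
      rw [map_mul, aeval_map_algebraMap, aeval_def α h]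
      exact mul_eq_zero_of_right _ h0
    · show IsUnit (aeval α (derivative (C e * h.map (algebraMap R A))))
      rw [derivative_C_mul, derivative_map, map_mul, aeval_map_algebraMap, aeval_C,
        aeval_def α (derivative h)]
      exact isUnit_iff_ne_zero.mpr (mul_ne_zero he0 h1)
  letI : Algebra R P.Ring := ((algebraMap A P.Ring).comp (algebraMap R A)).toAlgebra
  haveI : IsScalarTower R A P.Ring := IsScalarTower.of_algebraMap_eq fun _ => rfl
  haveI : Algebra.Etale R A := Algebra.Etale.of_isLocalizationAway d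
  haveI : Algebra.Etale R P.Ring := Algebra.Etale.comp R A P.Ring
  refine ⟨.of P.Ring, CommRingCat.ofHom (algebraMap R P.Ring),
    CommRingCat.ofHom (P.lift α hmap).toRingHom, RingHom.etale_algebraMap.mpr ‹_›, ?_,
    ⟨P.X, P.lift_X α hmap⟩⟩
  ext r
  show P.lift α hmap (algebraMap A P.Ring (algebraMap R A r)) = ψ.hom r
  rw [AlgHom.commutes, ← IsScalarTower.algebraMap_apply]
  rfl

/-- The embedding of the residue field given by a field valued point. -/
noncomputable abbrev emb {X : Scheme.{u}} (q : Spec (.of Ω) ⟶ X) :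
    X.residueField (pt q) ⟶ .of Ω :=
  (Scheme.SpecToEquivOfField Ω X q).2

theorem fromSpec_emb {X : Scheme.{u}} (q : Spec (.of Ω) ⟶ X) :
    Spec.map (emb q) ≫ X.fromSpecResidueField (pt q) = q :=
  (Scheme.SpecToEquivOfField Ω X).left_inv q

theorem emb_comp {X Y : Scheme.{u}} (f : X ⟶ Y) (p : Spec (.of Ω) ⟶ X) :
    emb (p ≫ f) = f.residueFieldMap (pt p) ≫ emb p := by
  obtain ⟨e, he⟩ := Scheme.SpecToEquivOfField_eq_iff.mp (specTo_comp f p)
  simp

theorem range_emb_comp {X Y : Scheme.{u}} (f : X ⟶ Y) (p : Spec (.of Ω) ⟶ X) :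
    Set.range (emb (p ≫ f)).hom ⊆ Set.range (emb p).hom := by
  rintro _ ⟨a, rfl⟩
  rw [emb_comp, CommRingCat.hom_comp]
  exact ⟨_, rfl⟩

theorem fromSpecResidueField_eq {X : Scheme.{u}} {U : X.Opens} (hU : IsAffineOpen U) (x : X)
    (hx : x ∈ U) :
    Spec.map (X.evaluation U x hx) ≫ hU.fromSpec = X.fromSpecResidueField x := by
  rw [← Scheme.germ_residue, Spec.map_comp, Category.assoc, Scheme.fromSpecResidueField]
  congr 1
  rw [← IsAffineOpen.fromSpecStalk_eq_fromSpecStalk hU hx]
  rfl

theorem evaluation_surj {X : Scheme.{u}} {U : X.Opens} (hU : IsAffineOpen U) (x : X) (hx : x ∈ U)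
    (n : ℕ) (c : Fin n → X.residueField x) :
    ∃ (b : Γ(X, U)) (a : Fin n → Γ(X, U)), X.evaluation U x hx b ≠ 0 ∧
      ∀ i, X.evaluation U x hx (a i) = X.evaluation U x hx b * c i := by
  letI : Algebra Γ(X, U) (X.presheaf.stalk x) := (X.presheaf.germ U x hx).hom.toAlgebra
  haveI : IsLocalization.AtPrime (X.presheaf.stalk x) (hU.primeIdealOf ⟨x, hx⟩).asIdeal :=
    hU.isLocalization_stalk ⟨x, hx⟩
  choose cs hcs using fun i => X.residue_surjective x (c i)
  obtain ⟨b, hb⟩ := IsLocalization.exist_integer_multiples_of_finite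
    (hU.primeIdealOf ⟨x, hx⟩).asIdeal.primeCompl cs
  choose a ha using hb
  refine ⟨b.1, a, ?_, fun i => ?_⟩
  · rw [← Scheme.germ_residue]
    exact (((IsLocalization.map_units (X.presheaf.stalk x) b).map (X.residue x).hom)).ne_zero
  · rw [← Scheme.germ_residue]
    have h := ha i
    rw [Algebra.smul_def] at h
    show (X.residue x).hom (algebraMap Γ(X, U) (X.presheaf.stalk x) (a i)) = _
    rw [h, map_mul, hcs]
    rfl

theorem exists_integral_poly {X : Scheme.{u}} {U : X.Opens} (hU : IsAffineOpen U) (x : X)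
    (hx : x ∈ U) (m : (X.residueField x : Type u)[X]) :
    ∃ (b : X.residueField x) (h : (Γ(X, U) : Type u)[X]), b ≠ 0 ∧
      h.map (X.evaluation U x hx).hom = C b * m ∧ h.natDegree ≤ m.natDegree := by
  obtain ⟨b, a, hb, ha⟩ := evaluation_surj hU x hx (m.natDegree + 1) fun i => m.coeff i
  refine ⟨_, ∑ i : Fin (m.natDegree + 1), monomial i (a i), hb, ?_, ?_⟩
  · rw [Polynomial.map_sum]
    simp_rw [map_monomial]
    conv_rhs => rw [m.as_sum_range_C_mul_X_pow, Finset.mul_sum, ← Fin.sum_univ_eq_sum_range]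
    refine Finset.sum_congr rfl fun i _ => ?_
    rw [← mul_assoc, ← C_mul, C_mul_X_pow_eq_monomial]
    exact congrArg _ (ha i)
  · refine natDegree_sum_le_of_forall_le _ _ fun i _ => ?_
    exact (natDegree_monomial_le _).trans (by omega)

theorem exists_etale_mem_range {S : Scheme.{u}} (q : Spec (.of Ω) ⟶ S) (α : Ω)
    (m : (S.residueField (pt q) : Type u)[X]) (h0 : m.eval₂ (emb q).hom α = 0)
    (h1 : (derivative m).eval₂ (emb q).hom α ≠ 0) :
    ∃ (T : Scheme.{u}) (g : T ⟶ S) (qT : Spec (.of Ω) ⟶ T),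
      Etale g ∧ qT ≫ g = q ∧ α ∈ Set.range (emb qT).hom := by
  obtain ⟨_, ⟨U, hU, rfl⟩, hsU, -⟩ := S.isBasis_affineOpens.exists_subset_of_mem_open
    (Set.mem_univ (pt q)) isOpen_univ
  obtain ⟨b, h, hb, hh, hdeg⟩ := exists_integral_poly hU (pt q) hsU m
  let ψ : Γ(S, U) ⟶ .of Ω := S.evaluation U (pt q) hsU ≫ emb q
  have hm0 : m ≠ 0 := fun hm => h1 (by simp [hm])
  have hev : ∀ p : (Γ(S, U) : Type u)[X],
      p.eval₂ ψ.hom α = (p.map (S.evaluation U (pt q) hsU).hom).eval₂ (emb q).hom α := fun p => by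
    rw [eval₂_map]; rfl
  obtain ⟨R', φ, ψ', hφ, hψ', hα⟩ := exists_etale_root ψ α h
    (by rw [hev, hh, eval₂_mul, h0, mul_zero])
    (by
      rw [hev, ← derivative_map, hh, derivative_C_mul, eval₂_mul, eval₂_C]
      exact mul_ne_zero (fun h' => hb ((emb q).hom.injective (h'.trans (map_zero _).symm))) h1)
    (by
      have hc := congrArg (coeff · m.natDegree) hh
      simp only [coeff_map, coeff_C_mul] at hc
      have hne : (S.evaluation U (pt q) hsU).hom (h.coeff m.natDegree) ≠ 0 := by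
        rw [hc]
        exact mul_ne_zero hb (by simpa using hm0)
      have : h.natDegree = m.natDegree :=
        le_antisymm hdeg (le_natDegree_of_ne_zero fun h' => hne (by rw [h', map_zero]))
      rw [leadingCoeff, this]
      show (emb q).hom ((S.evaluation U (pt q) hsU).hom (h.coeff m.natDegree)) ≠ 0
      exact fun h' => hne ((emb q).hom.injective (h'.trans (map_zero _).symm)))
  haveI : Etale (Spec.map φ) := HasRingHomProperty.Spec_iff.mpr hφ
  refine ⟨Spec R', Spec.map φ ≫ hU.fromSpec, Spec.map ψ', inferInstance, ?_, ?_⟩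
  · rw [← Spec.map_comp_assoc, hψ', Spec.map_comp, Category.assoc, fromSpecResidueField_eq,
      fromSpec_emb]
  · obtain ⟨a, ha⟩ := hα
    refine ⟨(Spec R').evaluation ⊤ _ trivial ((Scheme.ΓSpecIso R').inv.hom a), ?_⟩
    have h := Scheme.germ_stalkClosedPointTo_Spec ψ'
    have h' := congr($(h).hom ((Scheme.ΓSpecIso R').inv.hom a))
    simp only [CommRingCat.hom_comp, RingHom.comp_apply] at h'
    refine h'.trans (Eq.trans (congrArg ψ'.hom ?_) ha)
    exact RingHom.congr_fun (congrArg CommRingCat.Hom.hom (Scheme.ΓSpecIso R').inv_hom_id) a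

theorem exists_etale_finset_range {S : Scheme.{u}} (q : Spec (.of Ω) ⟶ S) (A : Finset Ω)
    (hA : ∀ a ∈ A, ∃ m : (S.residueField (pt q) : Type u)[X],
      m.eval₂ (emb q).hom a = 0 ∧ (derivative m).eval₂ (emb q).hom a ≠ 0) :
    ∃ (T : Scheme.{u}) (g : T ⟶ S) (qT : Spec (.of Ω) ⟶ T),
      Etale g ∧ qT ≫ g = q ∧ (A : Set Ω) ⊆ Set.range (emb qT).hom := by
  classical
  induction A using Finset.induction with
  | empty => exact ⟨S, 𝟙 S, q, inferInstance, Category.comp_id q, by simp⟩
  | @insert a A _ IH =>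
    obtain ⟨T, g, qT, _, hq, hr⟩ := IH fun b hb => hA b (Finset.mem_insert_of_mem hb)
    obtain ⟨m, hm0, hm1⟩ := hA a (Finset.mem_insert_self a A)
    obtain ⟨T', g', qT', _, hq', hr'⟩ := exists_etale_mem_range q a m hm0 hm1
    let qP := pullback.lift qT qT' (hq.trans hq'.symm)
    refine ⟨pullback g g', pullback.fst g g' ≫ g, qP, inferInstance, ?_, ?_⟩
    · rw [← Category.assoc, pullback.lift_fst, hq]
    · rw [Finset.coe_insert, Set.insert_subset_iff]
      refine ⟨range_emb_comp (pullback.snd g g') qP ?_,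
        hr.trans (fun b hb => range_emb_comp (pullback.fst g g') qP ?_)⟩
      · rwa [pullback.lift_snd]
      · rwa [pullback.lift_fst]

end Groth.Agent.EtaleSplit
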