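import Mathlib
import Groth.Agent.EtaleSplit.Realize

set_option autoImplicit false
set_option backward.isDefEq.respectTransparency false
set_option backward.defeqAttrib.useBackward true
set_option linter.style.haveILetI false

/-!
# One quasi-finite point: étale neighbourhood with trivial residue extension
(strengthening of `exists_etale_isCompl_of_quasiFiniteAt`)
-/

open AlgebraicGeometry CategoryTheory Limits TensorProduct

universe u

namespace Groth.Agent.EtaleSplit

theorem primeIdealOf_eq {X : Scheme.{u}} {U : X.Opens} (hU : IsAffineOpen U) (x : X) (hx : x ∈ U)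
    (a : Γ(X, U)) :
    a ∈ (hU.primeIdealOf ⟨x, hx⟩).asIdeal ↔ X.evaluation U x hx a = 0 := by
  letI : Algebra Γ(X, U) (X.presheaf.stalk x) := (X.presheaf.germ U x hx).hom.toAlgebra
  haveI : IsLocalization.AtPrime (X.presheaf.stalk x) (hU.primeIdealOf ⟨x, hx⟩).asIdeal :=
    hU.isLocalization_stalk ⟨x, hx⟩
  rw [← Scheme.germ_residue]
  show _ ↔ IsLocalRing.residue _ (algebraMap Γ(X, U) (X.presheaf.stalk x) a) = 0
  rw [IsLocalRing.residue_eq_zero_iff]
  exact (IsLocalization.AtPrime.to_map_mem_maximal_iff (X.presheaf.stalk x)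
    (hU.primeIdealOf ⟨x, hx⟩).asIdeal a inferInstance).symm

/-- The section through a prime with trivial residue extension. -/
theorem exists_lift_ev {S : Scheme.{u}} {U : S.Opens} (hU : IsAffineOpen U) (s : S) (hs : s ∈ U)
    {R : Type u} [CommRing R] [Algebra Γ(S, U) R] (P : Ideal R) [P.IsPrime]
    [P.LiesOver (hU.primeIdealOf ⟨s, hs⟩).asIdeal]
    (H : Function.Bijective (Ideal.ResidueField.mapₐ (hU.primeIdealOf ⟨s, hs⟩).asIdeal P
      (Algebra.ofId Γ(S, U) R) (P.over_def _))) :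
    ∃ ρ : CommRingCat.of R ⟶ S.residueField s,
      CommRingCat.ofHom (algebraMap Γ(S, U) R) ≫ ρ = S.evaluation U s hs ∧
      RingHom.ker ρ.hom = P := by
  let p := (hU.primeIdealOf ⟨s, hs⟩).asIdeal
  let L : p.ResidueField →+* S.residueField s :=
    Ideal.ResidueField.lift p (S.evaluation U s hs).hom
      (fun a ha => (primeIdealOf_eq hU s hs a).mp ha)
      (fun a ha => by
        rw [Submonoid.mem_comap, IsUnit.mem_submonoid_iff, isUnit_iff_ne_zero]
        exact fun h => ha ((primeIdealOf_eq hU s hs a).mpr h))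
  let e := AlgEquiv.ofBijective _ H
  let ρ : R →+* S.residueField s := L.comp (e.symm.toRingHom.comp (algebraMap R P.ResidueField))
  refine ⟨CommRingCat.ofHom ρ, ?_, ?_⟩
  · ext a
    show L (e.symm (algebraMap R P.ResidueField (algebraMap Γ(S, U) R a))) = _
    rw [← IsScalarTower.algebraMap_apply, e.symm.commutes]
    exact Ideal.ResidueField.lift_algebraMap _ _ _ _ a
  · ext a
    show L (e.symm (algebraMap R P.ResidueField a)) = 0 ↔ a ∈ P
    rw [map_eq_zero_iff _ L.injective, map_eq_zero_iff _ e.symm.injective,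
      Ideal.algebraMap_residueField_eq_zero]

set_option maxHeartbeats 800000 in
theorem exists_split_point {X S : Scheme.{u}} (f : X ⟶ S) [LocallyOfFiniteType f] [IsAffine X]
    (x : X) (hx : f.QuasiFiniteAt x) :
    ∃ (T : Scheme.{u}) (g : T ⟶ S) (σ : Spec (S.residueField (f x)) ⟶ T)
      (V : (pullback f g).Opens) (v : ↑(pullback f g)),
      Etale g ∧ σ ≫ g = S.fromSpecResidueField (f x) ∧ v ∈ V ∧
      IsFinite (V.ι ≫ pullback.snd f g) ∧
      pullback.fst f g v = x ∧ pullback.snd f g v = σ (IsLocalRing.closedPoint _) ∧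
      (∀ w, w ∈ V → pullback.snd f g w = σ (IsLocalRing.closedPoint _) → w = v) ∧
      (∀ w, pullback.fst f g w = x → pullback.snd f g w = σ (IsLocalRing.closedPoint _) →
        w = v) := by
  obtain ⟨_, ⟨U, hU, rfl⟩, hxU, -⟩ := S.isBasis_affineOpens.exists_subset_of_mem_open
    (Set.mem_univ (f x)) isOpen_univ
  obtain ⟨_, ⟨V, hV, rfl⟩, hxV, hUV : V ≤ f ⁻¹ᵁ U⟩ :=
    X.isBasis_affineOpens.exists_subset_of_mem_open hxU (f ⁻¹ᵁ U).2
  have : (f.appLE U V hUV).hom.FiniteType := f.finiteType_appLE hU hV hUV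
  algebraize [(f.appLE U V hUV).hom]
  have : (hV.primeIdealOf ⟨x, hxV⟩).asIdeal.LiesOver (hU.primeIdealOf ⟨f x, hxU⟩).asIdeal := by
    suffices hU.primeIdealOf ⟨f x, hxU⟩ = Spec.map (f.appLE U V hUV) (hV.primeIdealOf ⟨x, hxV⟩) from
      ⟨congr(($this).1)⟩
    apply hU.isoSpec.inv.homeomorph.injective
    apply Subtype.ext
    simp only [IsAffineOpen.primeIdealOf, Scheme.Hom.homeomorph_apply,
      ← Scheme.Hom.comp_apply, ← Scheme.Opens.ι_apply, IsAffineOpen.isoSpec_hom]
    simp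
  have : Algebra.QuasiFiniteAt Γ(S, U) (hV.primeIdealOf ⟨x, hxV⟩).asIdeal :=
    hx.quasiFiniteAt hV hU hUV hxV
  obtain ⟨R, _, _, _, P, _, _, e, _, P', _, _, hP', heP', hbij, _, huniq⟩ :=
    Algebra.exists_etale_isIdempotentElem_forall_liesOver_eq
    (hU.primeIdealOf ⟨f x, hxU⟩).asIdeal (hV.primeIdealOf ⟨x, hxV⟩).asIdeal
  obtain ⟨ρ, hρ, hker⟩ := exists_lift_ev hU (f x) hxU P hbij
  have : (algebraMap R (Localization.Away e)).Finite := RingHom.finite_algebraMap.mpr ‹_›
  let φ : Γ(S, U) ⟶ .of R := CommRingCat.ofHom <| algebraMap Γ(S, U) R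
  have hφ : φ.hom.Etale := RingHom.etale_algebraMap.mpr ‹_›
  have : Etale (Spec.map φ) := HasRingHomProperty.Spec_iff.mpr hφ
  let e₁ : Spec (.of (R ⊗ Γ(X, V))) ≅ pullback (Spec.map (f.appLE U V hUV)) (Spec.map φ) :=
    (pullbackSpecIso _ _ _).symm ≪≫ pullbackSymmetry _ _
  let g : Spec (.of (R ⊗[Γ(S, U)] Γ(X, V))) ⟶ pullback f (Spec.map φ ≫ hU.fromSpec) :=
    e₁.hom ≫ pullback.map _ _ _ _ hV.fromSpec (𝟙 _) hU.fromSpec
      (IsAffineOpen.SpecMap_appLE_fromSpec ..) (by simp)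
  let W₁ := g ''ᵁ PrimeSpectrum.basicOpen e
  have hfin : IsFinite (W₁.ι ≫ pullback.snd f _) := by
    let ι : Spec (.of (Localization.Away e)) ⟶ pullback f (Spec.map φ ≫ hU.fromSpec) :=
      Spec.map (CommRingCat.ofHom <| algebraMap _ _) ≫ g
    have : ι.opensRange = W₁ := by
      simp only [Scheme.Hom.opensRange_comp, ι, W₁]
      congr 1
      exact TopologicalSpace.Opens.ext <| PrimeSpectrum.localization_away_comap_range _ _
    rw [← this, ← MorphismProperty.cancel_left_of_respectsIso @IsFinite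
      (Scheme.Hom.isoOpensRange _).hom]
    have H : (pullbackSpecIso _ R _).inv ≫ pullback.fst _ (Spec.map (f.appLE U V hUV)) = _ :=
      pullbackSpecIso_inv_fst ..
    simpa [Scheme.Hom.isoOpensRange, ι, g, e₁, RingHom.algebraMap_toAlgebra, φ, H,
      ← Spec.map_comp, IsFinite.SpecMap_iff]
  have hfst : ∀ a, pullback.fst f (Spec.map φ ≫ hU.fromSpec) (g a) =
      hV.fromSpec ⟨a.asIdeal.comap
        (Algebra.TensorProduct.includeRight : Γ(X, V) →ₐ[Γ(S, U)] R ⊗[Γ(S, U)] Γ(X, V)).toRingHom,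
        inferInstance⟩ := by
    intro a
    have he₁ : e₁.hom ≫ pullback.fst _ _ =
        Spec.map (CommRingCat.ofHom Algebra.TensorProduct.includeRight.toRingHom) := by
      dsimp [e₁, RingHom.algebraMap_toAlgebra]
      rw [Category.assoc, pullbackSymmetry_hom_comp_fst]
      exact pullbackSpecIso_inv_snd ..
    simp [← Scheme.Hom.comp_apply, -Scheme.Hom.comp_base, g, reassoc_of% he₁]; rfl
  have hsnd : ∀ a, pullback.snd f (Spec.map φ ≫ hU.fromSpec) (g a) =
      (⟨a.asIdeal.comap (algebraMap R (R ⊗[Γ(S, U)] Γ(X, V))), inferInstance⟩ :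
        PrimeSpectrum R) := by
    intro a
    have he₂ : e₁.hom ≫ pullback.snd _ _ =
        Spec.map (CommRingCat.ofHom (algebraMap R (R ⊗[Γ(S, U)] Γ(X, V)))) := by
      dsimp [e₁, RingHom.algebraMap_toAlgebra]
      rw [Category.assoc, pullbackSymmetry_hom_comp_snd]
      exact pullbackSpecIso_inv_fst ..
    simp [← Scheme.Hom.comp_apply, -Scheme.Hom.comp_base, g, he₂]; rfl
  have hσ : (Spec.map ρ) (IsLocalRing.closedPoint _) = (⟨P, ‹_›⟩ : PrimeSpectrum R) := by
    apply PrimeSpectrum.ext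
    show Ideal.comap ρ.hom (IsLocalRing.maximalIdeal _) = P
    rw [← hker, IsLocalRing.maximalIdeal_eq_bot]
    rfl
  have hrange : ∀ w, pullback.fst f (Spec.map φ ≫ hU.fromSpec) w = x →
      ∃ a, g a = w := by
    intro w hw
    have h1 : w ∈ Set.range (pullback.map (Spec.map (f.appLE U V hUV)) (Spec.map φ) f
        (Spec.map φ ≫ hU.fromSpec) hV.fromSpec (𝟙 _) hU.fromSpec
        (IsAffineOpen.SpecMap_appLE_fromSpec ..) (by simp)) := by
      rw [Scheme.Pullback.range_map]
      refine ⟨?_, by simp⟩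
      rw [Set.mem_preimage, hw, hV.range_fromSpec]
      exact hxV
    obtain ⟨b, rfl⟩ := h1
    obtain ⟨a, rfl⟩ := e₁.hom.homeomorph.surjective b
    exact ⟨a, rfl⟩
  have hprime : ∀ a, pullback.snd f (Spec.map φ ≫ hU.fromSpec) (g a) =
      (Spec.map ρ) (IsLocalRing.closedPoint _) → a.asIdeal.LiesOver P := by
    intro a ha
    rw [hsnd, hσ] at ha
    exact ⟨(congrArg PrimeSpectrum.asIdeal ha).symm⟩
  refine ⟨Spec (.of R), Spec.map φ ≫ hU.fromSpec, Spec.map ρ, W₁, g ⟨P', ‹_›⟩, inferInstance,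
    ?_, ⟨⟨P', ‹_›⟩, heP', rfl⟩, hfin, ?_, ?_, ?_, ?_⟩
  · rw [← Spec.map_comp_assoc, hρ, fromSpecResidueField_eq]
  · rw [hfst]
    convert! hV.fromSpec_primeIdealOf ⟨x, hxV⟩
  · rw [hsnd, hσ]
    exact PrimeSpectrum.ext (Ideal.over_def P' P).symm
  · rintro _ ⟨a, ha, rfl⟩ hw
    have := hprime a hw
    exact congrArg g (PrimeSpectrum.ext (huniq a.asIdeal inferInstance this ha))
  · intro w hw hw'
    obtain ⟨a, rfl⟩ := hrange w hw
    have := hprime a hw'
    refine congrArg g (PrimeSpectrum.ext ?_)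
    refine Ideal.eq_of_comap_eq_comap_of_bijective_residueFieldMap hbij a.asIdeal P' ?_
    rw [hP']
    rw [hfst] at hw
    exact congrArg PrimeSpectrum.asIdeal (hV.fromSpec.isOpenEmbedding.injective
      (hw.trans (hV.fromSpec_primeIdealOf ⟨x, hxV⟩).symm))

end Groth.Agent.EtaleSplit
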