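import Mathlib
import Groth.Agent.EtaleSplit.Point

set_option autoImplicit false
set_option backward.isDefEq.respectTransparency false
set_option backward.defeqAttrib.useBackward true
set_option linter.style.haveILetI false

/-!
# Étale localization separating geometric points of quasi-finite morphisms
-/

open AlgebraicGeometry CategoryTheory Limits

universe u

namespace Groth.Agent.EtaleSplit

variable {Ω : Type u} [Field Ω]

theorem gemb_iff {X Y : Scheme.{u}} (f : X ⟶ Y) (q : Spec (.of Ω) ⟶ Y)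
    (x : {x : X // f x = pt q}) (φ : X.residueField x.1 ⟶ .of Ω) :
    f.residueFieldMap x.1 ≫ φ = (Y.residueFieldCongr x.2).hom ≫ emb q ↔
      Spec.map φ ≫ X.fromSpecResidueField x.1 ≫ f = q := by
  rw [← Spec.map_inj, ← cancel_mono (Y.fromSpecResidueField (f x.1)), Spec.map_comp,
    Spec.map_comp, Category.assoc, Category.assoc,
    Scheme.Hom.SpecMap_residueFieldMap_fromSpecResidueField,
    Scheme.residueFieldCongr_fromSpecResidueField, fromSpec_emb]

theorem gemb_comp {X Y X' Y' : Scheme.{u}} {f : X ⟶ Y} {f' : X' ⟶ Y'} {h : X' ⟶ X} {g : Y' ⟶ Y}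
    (w : h ≫ f = f' ≫ g) (q' : Spec (.of Ω) ⟶ Y') (z : {z : X' // f' z = pt q'})
    (φ : GEmb f' q' z) (hz : f (h z.1) = pt (q' ≫ g)) :
    f.residueFieldMap (h z.1) ≫ (h.residueFieldMap z.1 ≫ φ.1) =
      (Y.residueFieldCongr hz).hom ≫ emb (q' ≫ g) := by
  refine (gemb_iff f (q' ≫ g) ⟨h z.1, hz⟩ _).mpr ?_
  rw [Spec.map_comp, Category.assoc, Scheme.Hom.SpecMap_residueFieldMap_fromSpecResidueField_assoc,
    w]
  rw [reassoc_of% ((gemb_iff f' q' z φ.1).mp φ.2)]

theorem algHom_ext_range [IsAlgClosed Ω] {K L : Type u} [Field K] [Field L] [Algebra K L]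
    [Module.Finite K L] [Algebra K Ω] :
    ∃ A : Finset Ω, (∀ a ∈ A, ∃ m : Polynomial K,
        Polynomial.aeval a m = 0 ∧ Polynomial.aeval a m.derivative ≠ 0) ∧
      ∀ (σ τ : L →ₐ[K] Ω),
        (∀ b : L, σ b ∈ A → τ b = σ b) → σ = τ := by
  classical
  let Ks := separableClosure K L
  let bs := Module.finBasis K Ks
  let P : Fin (Module.finrank K Ks) → Polynomial Ω := fun i =>
    (minpoly K (bs i)).map (algebraMap K Ω)
  refine ⟨Finset.univ.biUnion fun i => (P i).roots.toFinset, ?_, ?_⟩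
  · intro a ha
    simp only [Finset.mem_biUnion, Finset.mem_univ, true_and, Multiset.mem_toFinset] at ha
    obtain ⟨i, hi⟩ := ha
    have hsep : (minpoly K (bs i)).Separable :=
      Algebra.IsSeparable.isSeparable K (bs i)
    have hroot : (minpoly K (bs i)).eval₂ (algebraMap K Ω) a = 0 := by
      have h := (Polynomial.mem_roots'.mp hi).2
      rwa [Polynomial.IsRoot, Polynomial.eval_map] at h
    exact ⟨minpoly K (bs i), hroot, hsep.eval₂_derivative_ne_zero _ hroot⟩
  · intro σ τ hστ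
    have h1 : σ.comp Ks.val = τ.comp Ks.val := by
      apply AlgHom.toLinearMap_injective
      refine bs.ext fun i => ?_
      show σ (bs i : L) = τ (bs i : L)
      refine (hστ _ ?_).symm
      simp only [Finset.mem_biUnion, Finset.mem_univ, true_and, Multiset.mem_toFinset]
      refine ⟨i, ?_⟩
      rw [Polynomial.mem_roots', Polynomial.IsRoot, Polynomial.eval_map]
      refine ⟨Polynomial.map_ne_zero (minpoly.ne_zero (Algebra.IsIntegral.isIntegral _)), ?_⟩
      show Polynomial.aeval ((σ.comp Ks.val) (bs i)) (minpoly K (bs i)) = 0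
      rw [Polynomial.aeval_algHom_apply, minpoly.aeval, map_zero]
    letI : Algebra Ks Ω := (σ.comp Ks.val).toRingHom.toAlgebra
    let σ' : L →ₐ[Ks] Ω := { σ.toRingHom with commutes' := fun a => rfl }
    let τ' : L →ₐ[Ks] Ω :=
      { τ.toRingHom with commutes' := fun a => (AlgHom.congr_fun h1 a).symm }
    exact AlgHom.ext fun a => AlgHom.congr_fun (Subsingleton.elim σ' τ') a

/-- Finitely many separable elements whose presence in the residue field of `qT` makes geometric
points above `x` determined by their image point. -/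
theorem exists_finset_unique [IsAlgClosed Ω] {X S : Scheme.{u}} (f : X ⟶ S)
    (q : Spec (.of Ω) ⟶ S) (x : X) (hx : f x = pt q) (hq : f.QuasiFiniteAt x) :
    ∃ A : Finset Ω,
      (∀ a ∈ A, ∃ m : Polynomial (S.residueField (pt q)),
        m.eval₂ (emb q).hom a = 0 ∧ m.derivative.eval₂ (emb q).hom a ≠ 0) ∧
      ∀ (T : Scheme.{u}) (g : T ⟶ S) (qT : Spec (.of Ω) ⟶ T), qT ≫ g = q →
        (A : Set Ω) ⊆ Set.range (emb qT).hom →
        ∀ r₁ r₂ : GPts (pullback.snd f g) qT, pt r₁.1 = pt r₂.1 →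
          pullback.fst f g (pt r₁.1) = x → r₁ = r₂ := by
  letI := (f.residueFieldMap x).hom.toAlgebra
  haveI : Module.Finite (S.residueField (f x)) (X.residueField x) :=
    finite_residueFieldMap f x hq
  letI : Algebra (S.residueField (f x)) Ω :=
    ((S.residueFieldCongr hx).hom ≫ emb q).hom.toAlgebra
  obtain ⟨A, hA, hext⟩ := algHom_ext_range (Ω := Ω) (K := S.residueField (f x))
    (L := X.residueField x)
  refine ⟨A, fun a ha => ?_, ?_⟩
  · obtain ⟨m, h0, h1⟩ := hA a ha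
    refine ⟨m.map (S.residueFieldCongr hx).hom.hom, ?_, ?_⟩
    · rw [Polynomial.eval₂_map]; exact h0
    · rw [Polynomial.derivative_map, Polynomial.eval₂_map]; exact h1
  intro T g qT hqT hAr r₁ r₂ hz hfst
  subst hqT
  apply (gptsEquiv (pullback.snd f g) qT).injective
  have hxz : (gptsEquiv (pullback.snd f g) qT r₁).1 = (gptsEquiv (pullback.snd f g) qT r₂).1 :=
    Subtype.ext hz
  generalize h1 : gptsEquiv (pullback.snd f g) qT r₁ = s₁ at hxz ⊢
  generalize h2 : gptsEquiv (pullback.snd f g) qT r₂ = s₂ at hxz ⊢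
  have hfst' : pullback.fst f g s₁.1.1 = x := by rw [← h1]; exact hfst
  obtain ⟨z, φ₁⟩ := s₁
  obtain ⟨z', φ₂⟩ := s₂
  simp only at hxz hfst'
  subst hxz
  congr 1
  subst hfst'
  let σ : X.residueField (pullback.fst f g z.1) →ₐ[S.residueField (f (pullback.fst f g z.1))] Ω :=
    { toRingHom := ((pullback.fst f g).residueFieldMap z.1 ≫ φ₁.1).hom
      commutes' := fun a => RingHom.congr_fun (congrArg CommRingCat.Hom.hom
        (gemb_comp pullback.condition qT z φ₁ hx)) a }
  let τ : X.residueField (pullback.fst f g z.1) →ₐ[S.residueField (f (pullback.fst f g z.1))] Ω :=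
    { toRingHom := ((pullback.fst f g).residueFieldMap z.1 ≫ φ₂.1).hom
      commutes' := fun a => RingHom.congr_fun (congrArg CommRingCat.Hom.hom
        (gemb_comp pullback.condition qT z φ₂ hx)) a }
  have hστ : σ = τ := by
    refine hext σ τ fun b hb => ?_
    obtain ⟨l, hl⟩ := hAr hb
    let l' := ((T.residueFieldCongr z.2).inv ≫ (pullback.snd f g).residueFieldMap z.1).hom l
    have hφ : ∀ φ : GEmb (pullback.snd f g) qT z, φ.1.hom l' = (emb qT).hom l := by
      intro φ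
      have h := φ.2
      rw [← Iso.inv_comp_eq, ← Category.assoc] at h
      exact RingHom.congr_fun (congrArg CommRingCat.Hom.hom h) l
    have hb' : ((pullback.fst f g).residueFieldMap z.1).hom b = l' :=
      φ₁.1.hom.injective (by rw [hφ φ₁, hl]; rfl)
    show φ₂.1.hom (((pullback.fst f g).residueFieldMap z.1).hom b) = σ b
    rw [hb', hφ φ₂, hl]
  apply Subtype.ext
  have hp : Spec.map φ₁.1 ≫ (pullback f g).fromSpecResidueField z.1 =
      Spec.map φ₂.1 ≫ (pullback f g).fromSpecResidueField z.1 := by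
    apply pullback.hom_ext
    · rw [Category.assoc, Category.assoc,
        ← Scheme.Hom.SpecMap_residueFieldMap_fromSpecResidueField,
        ← Spec.map_comp_assoc, ← Spec.map_comp_assoc]
      congr 2
      exact CommRingCat.hom_ext (congrArg AlgHom.toRingHom hστ)
    · rw [Category.assoc, Category.assoc,
        (gemb_iff _ qT z φ₁.1).mp φ₁.2, (gemb_iff _ qT z φ₂.1).mp φ₂.2]
  exact Spec.map_injective ((cancel_mono _).mp hp)

theorem isFinite_preimage {X Y X' Y' : Scheme.{u}} {f : X ⟶ Y} {f' : X' ⟶ Y'} {h : X' ⟶ X}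
    {g : Y' ⟶ Y} (hc : IsPullback h f' f g) (V : X.Opens) [IsFinite (V.ι ≫ f)] :
    IsFinite ((h ⁻¹ᵁ V).ι ≫ f') :=
  MorphismProperty.of_isPullback ((isPullback_morphismRestrict h V).paste_vert hc) ‹_›

theorem isPullback_pullbackMap {X S T T' : Scheme.{u}} (f : X ⟶ S) (g : T ⟶ S) (g' : T' ⟶ S)
    (k : T' ⟶ T) (hk : k ≫ g = g') :
    IsPullback (pullback.map f g' f g (𝟙 X) k (𝟙 S) (by simp) (by simp [hk]))
      (pullback.snd f g') (pullback.snd f g) k := by
  refine IsPullback.of_right ?_ (by simp) (IsPullback.of_hasPullback f g)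
  rw [pullback.lift_fst, hk, Category.comp_id]
  exact IsPullback.of_hasPullback f g'

theorem isFinite_image {X Y W : Scheme.{u}} (f : X ⟶ Y) (j : W ⟶ X) [IsOpenImmersion j]
    (V : W.Opens) [IsFinite (V.ι ≫ j ≫ f)] : IsFinite ((j ''ᵁ V).ι ≫ f) := by
  rw [← MorphismProperty.cancel_left_of_respectsIso @IsFinite (j.isoImage V).hom,
    Scheme.Hom.isoImage_hom_ι_assoc]
  infer_instance

theorem quasiFiniteAt_lift {X S : Scheme.{u}} (f : X ⟶ S) [LocallyOfFiniteType f]
    {T : Scheme.{u}} (g : T ⟶ S) (W : (pullback f g).Opens)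
    (hW : W ≤ pullback.fst f g ⁻¹ᵁ f.quasiFiniteLocus) :
    LocallyQuasiFinite (W.ι ≫ pullback.snd f g) := by
  haveI : LocallyQuasiFinite
      ((pullback.fst f g ⁻¹ᵁ f.quasiFiniteLocus).ι ≫ pullback.snd f g) :=
    MorphismProperty.of_isPullback
      ((isPullback_morphismRestrict (pullback.fst f g) f.quasiFiniteLocus).paste_vert
        (IsPullback.of_hasPullback f g)) inferInstance
  rw [← Scheme.homOfLE_ι _ hW, Category.assoc]
  infer_instance

set_option maxHeartbeats 800000 in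
/-- Étale neighbourhood with an open finite part containing exactly one geometric point. -/
theorem exists_split_one [IsAlgClosed Ω] {X S : Scheme.{u}} (f : X ⟶ S) [LocallyOfFiniteType f]
    (q : Spec (.of Ω) ⟶ S) (p : GPts f q) (O : X.Opens) (hO : pt p.1 ∈ O)
    (hp : f.QuasiFiniteAt (pt p.1)) :
    ∃ (T : Scheme.{u}) (g : T ⟶ S) (qT : Spec (.of Ω) ⟶ T) (hq : qT ≫ g = q)
      (V : (pullback f g).Opens),
      Etale g ∧ IsFinite (V.ι ≫ pullback.snd f g) ∧ V ≤ pullback.fst f g ⁻¹ᵁ O ∧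
      pt (pullback.lift p.1 qT (p.2.trans hq.symm)) ∈ V ∧
      ∀ r : GPts (pullback.snd f g) qT, pt r.1 ∈ V →
        r.1 = pullback.lift p.1 qT (p.2.trans hq.symm) := by
  obtain ⟨A, hA, hAu⟩ := exists_finset_unique f q (pt p.1) p.map_pt hp
  obtain ⟨T₁, g₁, q₁, hg₁, hq₁, hAr⟩ := exists_etale_finset_range q A hA
  let p₁ := pullback.lift p.1 q₁ (p.2.trans hq₁.symm)
  have hfst₁ : pullback.fst f g₁ (pt p₁) = pt p.1 := by
    rw [← pt_comp, pullback.lift_fst]
  obtain ⟨_, ⟨W : (pullback f g₁).Opens, hW, rfl⟩, hQW, hWle⟩ :=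
    (pullback f g₁).isBasis_affineOpens.exists_subset_of_mem_open
    (a := pt p₁) (u := ((pullback.fst f g₁ ⁻¹ᵁ (O ⊓ f.quasiFiniteLocus) : (pullback f g₁).Opens) :
      Set ↑(pullback f g₁)))
    (show pullback.fst f g₁ (pt p₁) ∈ O ⊓ f.quasiFiniteLocus by
      rw [hfst₁]; exact ⟨hO, hp⟩)
    (pullback.fst f g₁ ⁻¹ᵁ (O ⊓ f.quasiFiniteLocus)).2
  haveI : IsAffine W.toScheme := hW
  haveI := quasiFiniteAt_lift f g₁ W fun z hz => (hWle hz).2
  let f₁ := W.ι ≫ pullback.snd f g₁
  let w₀ : Spec (.of Ω) ⟶ W.toScheme := IsOpenImmersion.lift W.ι p₁ (by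
    rintro _ ⟨z, rfl⟩
    rw [pt_eq]
    simpa using hQW)
  have hw₀ : w₀ ≫ W.ι = p₁ := IsOpenImmersion.lift_fac _ _ _
  have hw₀f : w₀ ≫ f₁ = q₁ := by rw [reassoc_of% hw₀, pullback.lift_snd]
  obtain ⟨T₂, g₂, σ, V, v, hg₂, hσ, hvV, hVfin, hv1, hv2, hu1, hu2⟩ :=
    exists_split_point f₁ (pt w₀) (f₁.quasiFiniteAt _)
  have hs : f₁ (pt w₀) = pt q₁ := by rw [← pt_comp, hw₀f]
  let qT : Spec (.of Ω) ⟶ T₂ :=
    Spec.map ((T₁.residueFieldCongr hs).hom ≫ emb q₁) ≫ σ
  have hqT : qT ≫ g₂ = q₁ := by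
    rw [Category.assoc, hσ, Spec.map_comp, Category.assoc,
      Scheme.residueFieldCongr_fromSpecResidueField, fromSpec_emb]
  have hptqT : pt qT = σ (IsLocalRing.closedPoint _) := by
    show σ _ = σ _
    exact congrArg σ (Subsingleton.elim _ _)
  let j : pullback f₁ g₂ ⟶ pullback f (g₂ ≫ g₁) :=
    pullback.map f₁ g₂ (pullback.snd f g₁) g₂ W.ι (𝟙 _) (𝟙 _) (by simp [f₁]) (by simp) ≫
      (pullbackLeftPullbackSndIso f g₁ g₂).hom
  have hj2 : j ≫ pullback.snd f (g₂ ≫ g₁) = pullback.snd f₁ g₂ := by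
    simp [j]
  have hj1 : j ≫ pullback.fst f (g₂ ≫ g₁) =
      pullback.fst f₁ g₂ ≫ W.ι ≫ pullback.fst f g₁ := by
    simp [j]
  have hq : qT ≫ g₂ ≫ g₁ = q := by rw [reassoc_of% hqT, hq₁]
  let r₀ := pullback.lift w₀ qT (hw₀f.trans hqT.symm)
  have hr₀ : pullback.lift p.1 qT (p.2.trans hq.symm) = r₀ ≫ j := by
    apply pullback.hom_ext
    · rw [pullback.lift_fst, Category.assoc, hj1, pullback.lift_fst_assoc, reassoc_of% hw₀,
        pullback.lift_fst]
    · rw [pullback.lift_snd, Category.assoc, hj2, pullback.lift_snd]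
  have hr₀v : pt r₀ = v := by
    refine hu2 _ ?_ ?_
    · rw [← pt_comp, pullback.lift_fst]
    · rw [← pt_comp, pullback.lift_snd, hptqT]
  haveI : IsFinite (V.ι ≫ j ≫ pullback.snd f (g₂ ≫ g₁)) := by rw [hj2]; exact hVfin
  refine ⟨T₂, g₂ ≫ g₁, qT, hq, j ''ᵁ V, inferInstance, isFinite_image _ j V, ?_, ?_, ?_⟩
  · rintro _ ⟨z, -, rfl⟩
    show pullback.fst f (g₂ ≫ g₁) (j z) ∈ O
    rw [← Scheme.Hom.comp_apply, hj1, Scheme.Hom.comp_apply, Scheme.Hom.comp_apply]
    exact (hWle ((pullback.fst f₁ g₂ z).2)).1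
  · rw [hr₀, pt_comp, hr₀v]
    exact ⟨v, hvV, rfl⟩
  · intro r hr
    obtain ⟨z, hz, hzr⟩ := hr
    have hzv : z = v := by
      refine hu1 z hz ?_
      rw [← hptqT, ← GPts.map_pt r, ← hzr]
      exact (congr($(hj2) z)).symm
    have hpt : pt r.1 = pt (pullback.lift p.1 qT (p.2.trans hq.symm)) := by
      rw [← hzr, hzv, hr₀, pt_comp, hr₀v]
      rfl
    refine congrArg Subtype.val (hAu T₂ (g₂ ≫ g₁) qT hq ?_ r
      ⟨pullback.lift p.1 qT (p.2.trans hq.symm), pullback.lift_snd _ _ _⟩ hpt ?_)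
    · exact hAr.trans ((congrArg (fun k => Set.range (emb k).hom) hqT).symm.subset.trans
        (range_emb_comp g₂ qT))
    · rw [hpt, ← pt_comp, pullback.lift_fst]

theorem exists_refine {S : Scheme.{u}} (q : Spec (.of Ω) ⟶ S) {ι : Type*} (s : Finset ι)
    (T : ι → Scheme.{u}) (g : ∀ i, T i ⟶ S) (hg : ∀ i, Etale (g i))
    (qT : ∀ i, Spec (.of Ω) ⟶ T i) (hq : ∀ i, qT i ≫ g i = q) :
    ∃ (T' : Scheme.{u}) (g' : T' ⟶ S) (q' : Spec (.of Ω) ⟶ T'), Etale g' ∧ q' ≫ g' = q ∧
      ∀ i ∈ s, ∃ k : T' ⟶ T i, k ≫ g i = g' ∧ q' ≫ k = qT i := by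
  classical
  induction s using Finset.induction with
  | empty => exact ⟨S, 𝟙 S, q, inferInstance, Category.comp_id q, by simp⟩
  | @insert a s _ IH =>
    obtain ⟨T', g', q', _, hq', hr⟩ := IH
    haveI := hg a
    let qP := pullback.lift q' (qT a) (hq'.trans (hq a).symm)
    refine ⟨pullback g' (g a), pullback.fst g' (g a) ≫ g', qP, inferInstance, ?_, ?_⟩
    · rw [← Category.assoc, pullback.lift_fst, hq']
    · intro i hi
      rcases Finset.mem_insert.mp hi with rfl | hi
      · exact ⟨pullback.snd g' (g i), pullback.condition.symm, pullback.lift_snd _ _ _⟩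
      · obtain ⟨k, hk, hk'⟩ := hr i hi
        exact ⟨pullback.fst g' (g a) ≫ k, by rw [Category.assoc, hk],
          by rw [← Category.assoc, pullback.lift_fst, hk']⟩

/-- Finitely many geometric points split simultaneously. -/
theorem exists_split [IsAlgClosed Ω] {X S : Scheme.{u}} (f : X ⟶ S) [LocallyOfFiniteType f]
    (q : Spec (.of Ω) ⟶ S) {ι : Type*} [Finite ι] (p : ι → GPts f q) (O : ι → X.Opens)
    (hO : ∀ i, pt (p i).1 ∈ O i) (hp : ∀ i, f.QuasiFiniteAt (pt (p i).1)) :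
    ∃ (T : Scheme.{u}) (g : T ⟶ S) (qT : Spec (.of Ω) ⟶ T) (hq : qT ≫ g = q)
      (V : ι → (pullback f g).Opens),
      Etale g ∧ ∀ i, IsFinite ((V i).ι ≫ pullback.snd f g) ∧ V i ≤ pullback.fst f g ⁻¹ᵁ O i ∧
      pt (pullback.lift (p i).1 qT ((p i).2.trans hq.symm)) ∈ V i ∧
      ∀ r : GPts (pullback.snd f g) qT, pt r.1 ∈ V i →
        r.1 = pullback.lift (p i).1 qT ((p i).2.trans hq.symm) := by
  haveI := Fintype.ofFinite ι
  choose T g qT hqT V hg hfin hle hmem huniq using fun i =>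
    exists_split_one f q (p i) (O i) (hO i) (hp i)
  obtain ⟨T', g', q', hg', hq', hk⟩ := exists_refine q Finset.univ T g hg qT hqT
  choose k hk hk' using fun i => hk i (Finset.mem_univ i)
  let m := fun i => pullback.map f g' f (g i) (𝟙 X) (k i) (𝟙 S) (by simp) (by simp [hk i])
  have hm : ∀ i, IsPullback (m i) (pullback.snd f g') (pullback.snd f (g i)) (k i) :=
    fun i => isPullback_pullbackMap f (g i) g' (k i) (hk i)
  have hlift : ∀ i, pullback.lift (p i).1 q' ((p i).2.trans hq'.symm) ≫ m i =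
      pullback.lift (p i).1 (qT i) ((p i).2.trans (hqT i).symm) := fun i => by
    apply pullback.hom_ext <;> simp [m, hk']
  refine ⟨T', g', q', hq', fun i => m i ⁻¹ᵁ V i, hg', fun i => ⟨?_, ?_, ?_, ?_⟩⟩
  · haveI := hfin i
    exact isFinite_preimage (hm i) (V i)
  · intro z hz
    have h := hle i hz
    show pullback.fst f g' z ∈ O i
    have : (m i ≫ pullback.fst f (g i)) z = pullback.fst f g' z := by simp [m]
    rw [← this]
    exact h
  · show m i (pt _) ∈ V i
    rw [← pt_comp, hlift]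
    exact hmem i
  · intro r hr
    have h := huniq i ⟨r.1 ≫ m i, by
      rw [Category.assoc, (hm i).w, ← Category.assoc, r.2, hk']⟩ hr
    apply (hm i).hom_ext
    · exact h.trans (hlift i).symm
    · rw [r.2, pullback.lift_snd]

end Groth.Agent.EtaleSplit
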