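import Mathlib
import Groth.Agent.EtaleSplit.Split

set_option autoImplicit false
set_option backward.isDefEq.respectTransparency false
set_option backward.defeqAttrib.useBackward true
set_option linter.style.haveILetI false

/-!
# Weightings of locally quasi-finite morphisms
-/

open AlgebraicGeometry CategoryTheory Limits MoreMor

open scoped Topology

universe u

namespace Groth.Agent.EtaleSplit

theorem finite_fibre_open {X Y : Scheme.{u}} (f : X ⟶ Y) (U : X.Opens) [IsFinite (U.ι ≫ f)]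
    (y : Y) : {x | x ∈ U ∧ f x = y}.Finite := by
  refine (((U.ι ≫ f).finite_preimage_singleton y).image U.ι).subset ?_
  rintro x ⟨hx, hy⟩
  exact ⟨⟨x, hx⟩, hy, rfl⟩

theorem finite_support_indicator {X Y : Scheme.{u}} (f : X ⟶ Y) (U : X.Opens) [IsFinite (U.ι ≫ f)]
    (w : X → ℤ) (y : Y) : {x | (U : Set X).indicator w x ≠ 0 ∧ f x = y}.Finite :=
  (finite_fibre_open f U y).subset fun _ hx => ⟨Set.mem_of_indicator_ne_zero hx.1, hx.2⟩

theorem fibreIntegral_baseChange {X Y X' Y' : Scheme.{u}} {f : X ⟶ Y} {f' : X' ⟶ Y'}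
    [LocallyQuasiFinite f] [LocallyQuasiFinite f'] {h : X' ⟶ X} {g : Y' ⟶ Y}
    (hc : IsPullback h f' f g) (w : X → ℤ) (y' : Y')
    (hfin : {x | w x ≠ 0 ∧ f x = g y'}.Finite) :
    fibreIntegral f' (fun x => w (h x)) y' = fibreIntegral f w (g y') := by
  have h1 := gint_baseChange hc w (geomPt y')
  rw [gint_eq f' _ (geomPt y'), gint_eq f w (geomPt y' ≫ g), pt_comp, pt_geomPt] at h1
  · exact h1
  · rw [pt_comp, pt_geomPt]; exact hfin
  · rw [pt_geomPt]
    exact pullback_fibre_finite hc {x | w x ≠ 0} y' hfin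

theorem finSepDegree_pos' {X Y : Scheme.{u}} (f : X ⟶ Y) [LocallyQuasiFinite f] (x : X) :
    (0 : ℤ) < (letI := (f.residueFieldMap x).hom.toAlgebra
      (Field.finSepDegree (Y.residueField (f x)) (X.residueField x) : ℤ)) := by
  letI := (f.residueFieldMap x).hom.toAlgebra
  haveI : Module.Finite (Y.residueField (f x)) (X.residueField x) :=
    finite_residueFieldMap f x (f.quasiFiniteAt x)
  exact_mod_cast Nat.pos_of_ne_zero (NeZero.ne _)

theorem le_fibreIntegral {X Y : Scheme.{u}} (f : X ⟶ Y) [LocallyQuasiFinite f] (w : X → ℤ)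
    (x : X) (hnn : ∀ z, f z = f x → 0 ≤ w z) (hfin : {z | w z ≠ 0 ∧ f z = f x}.Finite) :
    w x ≤ fibreIntegral f w (f x) := by
  refine le_trans ?_ (single_le_finsum (⟨x, rfl⟩ : {z : X // f z = f x}) ?_ fun z => ?_)
  · exact le_mul_of_one_le_right (hnn x rfl) (finSepDegree_pos' f x)
  · refine Set.Finite.subset (hfin.preimage Subtype.val_injective.injOn) fun z hz => ?_
    exact ⟨left_ne_zero_of_mul hz, z.2⟩
  · exact mul_nonneg (hnn z.1 z.2) (finSepDegree_pos' f z.1).le

theorem exists_ne_zero_of_fibreIntegral {X Y : Scheme.{u}} (f : X ⟶ Y) (w : X → ℤ) (y : Y)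
    (h : fibreIntegral f w y ≠ 0) : ∃ x, f x = y ∧ w x ≠ 0 := by
  by_contra hne
  push Not at hne
  refine h (finsum_eq_zero_of_forall_eq_zero fun z => ?_)
  rw [hne z.1 z.2, zero_mul]

theorem fibreIntegral_sum {X Y : Scheme.{u}} (f : X ⟶ Y) {ι : Type*} (s : Finset ι) (w : X → ℤ)
    (v : ι → X → ℤ) (y : Y) (hfin : ∀ i ∈ s, {x | v i x ≠ 0 ∧ f x = y}.Finite)
    (heq : ∀ x, f x = y → w x = ∑ i ∈ s, v i x) :
    fibreIntegral f w y = ∑ i ∈ s, fibreIntegral f (v i) y := by
  unfold fibreIntegral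
  rw [← finsum_sum_comm]
  · refine finsum_congr fun x => ?_
    rw [heq x.1 x.2, Finset.sum_mul]
  · intro i hi
    refine ((hfin i hi).preimage Subtype.val_injective.injOn).subset fun z hz => ?_
    exact ⟨left_ne_zero_of_mul hz, z.2⟩

/-- A finite open part is closed in a bigger separated one. -/
theorem isClosed_preimage_of_le {X Y : Scheme.{u}} (f : X ⟶ Y) {V U : X.Opens} (hVU : V ≤ U)
    [IsFinite (V.ι ≫ f)] [IsSeparated (U.ι ≫ f)] : IsClosed (U.ι ⁻¹' (V : Set X)) := by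
  haveI : IsFinite (X.homOfLE hVU ≫ U.ι ≫ f) := by
    rw [Scheme.homOfLE_ι_assoc]; infer_instance
  haveI : IsFinite (X.homOfLE hVU) := IsFinite.of_comp _ (U.ι ≫ f)
  have h := (X.homOfLE hVU).isClosedMap.isClosed_range
  have h2 : Set.range (X.homOfLE hVU) = U.ι ⁻¹' (V : Set X) := by
    ext z
    constructor
    · rintro ⟨a, rfl⟩
      rw [Set.mem_preimage, ← Scheme.Hom.comp_apply, Scheme.homOfLE_ι]
      exact a.2
    · intro hz
      refine ⟨⟨U.ι z, hz⟩, U.ι.isOpenEmbedding.injective ?_⟩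
      rw [← Scheme.Hom.comp_apply, Scheme.homOfLE_ι]
      rfl
  exact h2 ▸ h

theorem eventually_forall_of_fibre {X Y : Scheme.{u}} (f : X ⟶ Y) (U : X.Opens)
    [IsFinite (U.ι ≫ f)] (O : Set X) (hO : IsOpen O) (y : Y)
    (h : ∀ x, x ∈ U → f x = y → x ∈ O) :
    ∀ᶠ v in 𝓝 y, ∀ x, x ∈ U → f x = v → x ∈ O := by
  have hc : IsClosed ((U.ι ≫ f) '' (U.ι ⁻¹' O)ᶜ) :=
    (U.ι ≫ f).isClosedMap _ (hO.preimage U.ι.continuous).isClosed_compl
  have hy : y ∉ (U.ι ≫ f) '' (U.ι ⁻¹' O)ᶜ := by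
    rintro ⟨z, hz, hzy⟩
    exact hz (h _ z.2 hzy)
  filter_upwards [hc.isOpen_compl.mem_nhds hy] with v hv x hx hxv
  by_contra hxO
  exact hv ⟨⟨x, hx⟩, hxO, hxv⟩

theorem eventually_unique_index_aux {X Y : Scheme.{u}} (f : X ⟶ Y) (U V W : X.Opens)
    [IsFinite (U.ι ≫ f)] [IsFinite (V.ι ≫ f)] [IsFinite (W.ι ≫ f)] (hV : V ≤ U) (hW : W ≤ U)
    (y : Y) (h : ∀ x, x ∈ V → x ∈ W → f x ≠ y) :
    ∀ᶠ v in 𝓝 y, ∀ x, x ∈ V → x ∈ W → f x ≠ v := by
  have hc : IsClosed ((U.ι ≫ f) '' (U.ι ⁻¹' (V : Set X) ∩ U.ι ⁻¹' (W : Set X))) :=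
    (U.ι ≫ f).isClosedMap _ ((isClosed_preimage_of_le f hV).inter (isClosed_preimage_of_le f hW))
  have hy : y ∉ (U.ι ≫ f) '' (U.ι ⁻¹' (V : Set X) ∩ U.ι ⁻¹' (W : Set X)) := by
    rintro ⟨z, ⟨hzV, hzW⟩, hzy⟩
    exact h _ hzV hzW hzy
  filter_upwards [hc.isOpen_compl.mem_nhds hy] with v hv x hxV hxW hxv
  exact hv ⟨⟨x, hV hxV⟩, ⟨hxV, hxW⟩, hxv⟩

theorem eventually_unique_index {X Y : Scheme.{u}} (f : X ⟶ Y) (U V W : X.Opens)
    [IsFinite (U.ι ≫ f)] [IsFinite (V.ι ≫ f)] [IsFinite (W.ι ≫ f)] (N : Y.Opens) (y : Y)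
    (hy : y ∈ N) (hV : ∀ x, x ∈ V → f x ∈ N → x ∈ U) (hW : ∀ x, x ∈ W → f x ∈ N → x ∈ U)
    (h : ∀ x, x ∈ V → x ∈ W → f x ≠ y) :
    ∀ᶠ v in 𝓝 y, ∀ x, x ∈ V → x ∈ W → f x ≠ v := by
  have hc := (isPullback_morphismRestrict f N).flip
  haveI : IsFinite (((f ⁻¹ᵁ N).ι ⁻¹ᵁ U).ι ≫ f ∣_ N) := isFinite_preimage hc U
  haveI : IsFinite (((f ⁻¹ᵁ N).ι ⁻¹ᵁ V).ι ≫ f ∣_ N) := isFinite_preimage hc V
  haveI : IsFinite (((f ⁻¹ᵁ N).ι ⁻¹ᵁ W).ι ≫ f ∣_ N) := isFinite_preimage hc W
  have h1 := eventually_unique_index_aux (f ∣_ N) ((f ⁻¹ᵁ N).ι ⁻¹ᵁ U) ((f ⁻¹ᵁ N).ι ⁻¹ᵁ V)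
    ((f ⁻¹ᵁ N).ι ⁻¹ᵁ W) (fun z hz => hV _ hz z.2) (fun z hz => hW _ hz z.2) ⟨y, hy⟩ fun z hzV hzW hzy => by
      refine h _ hzV hzW ?_
      rw [← Scheme.Hom.comp_apply, ← morphismRestrict_ι, Scheme.Hom.comp_apply, hzy]
      rfl
  rw [nhds_subtype_eq_comap, Filter.eventually_comap] at h1
  filter_upwards [h1, N.2.mem_nhds hy] with v hv hvN x hxV hxW hxv
  refine hv ⟨v, hvN⟩ rfl ⟨x, show f x ∈ N by rw [hxv]; exact hvN⟩ hxV hxW ?_
  apply Subtype.ext
  show N.ι ((f ∣_ N) _) = v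
  rw [← Scheme.Hom.comp_apply, morphismRestrict_ι]
  exact hxv

open Classical in
/-- Near `t` the integral over `U` is the sum of the integrals over the pieces. -/
theorem eventually_integral_eq_sum {X Y : Scheme.{u}} (f : X ⟶ Y) (w : X → ℤ) (t : Y)
    {ι : Type*} [Fintype ι] (U : X.Opens) (V : ι → X.Opens) [IsFinite (U.ι ≫ f)]
    [∀ i, IsFinite ((V i).ι ≫ f)]
    (ha : ∀ x, x ∈ U → f x = t → ∃ i, x ∈ V i) (hb : ∀ i x, x ∈ V i → f x = t → x ∈ U)
    (hc : ∀ i j x, x ∈ V i → x ∈ V j → f x = t → i = j) :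
    ∀ᶠ v in 𝓝 t, fibreIntegral f ((U : Set X).indicator w) v =
      ∑ i, fibreIntegral f ((V i : Set X).indicator w) v := by
  have h1 := eventually_forall_of_fibre f U (⋃ i, (V i : Set X))
    (isOpen_iUnion fun i => (V i).2) t fun x hx hxt => Set.mem_iUnion.mpr (ha x hx hxt)
  have h2 : ∀ᶠ v in 𝓝 t, ∀ i, ∀ x, x ∈ V i → f x = v → x ∈ U :=
    Filter.eventually_all.mpr fun i => eventually_forall_of_fibre f (V i) U U.2 t (hb i)
  obtain ⟨N, hN, hNo, htN⟩ := eventually_nhds_iff.mp h2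
  have h3 : ∀ᶠ v in 𝓝 t, ∀ p : ι × ι, p.1 ≠ p.2 → ∀ x, x ∈ V p.1 → x ∈ V p.2 → f x ≠ v := by
    refine Filter.eventually_all.mpr fun p => ?_
    by_cases hp : p.1 = p.2
    · exact Filter.Eventually.of_forall fun v h => absurd hp h
    · filter_upwards [eventually_unique_index f U (V p.1) (V p.2) ⟨N, hNo⟩ t htN
        (fun x hx hxN => hN _ hxN p.1 x hx rfl) (fun x hx hxN => hN _ hxN p.2 x hx rfl)
        (fun x hxi hxj hxt => hp (hc _ _ x hxi hxj hxt))] with v hv _
      exact hv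
  filter_upwards [h1, h2, h3] with v hv1 hv2 hv3
  refine fibreIntegral_sum f _ _ _ v (fun i _ => finite_support_indicator f (V i) w v) fun x hx => ?_
  by_cases hxU : x ∈ U
  · obtain ⟨i, hi⟩ := Set.mem_iUnion.mp (hv1 x hxU hx)
    rw [Finset.sum_eq_single i]
    · rw [Set.indicator_of_mem (show x ∈ (U : Set X) from hxU), Set.indicator_of_mem hi]
    · intro j _ hji
      exact Set.indicator_of_notMem (fun hj => hv3 (j, i) hji x hj hi hx) _
    · intro h; exact absurd (Finset.mem_univ i) h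
  · rw [Set.indicator_of_notMem (show x ∉ (U : Set X) from hxU)]
    exact (Finset.sum_eq_zero fun i _ => Set.indicator_of_notMem
      (fun hi => hxU (hv2 i x hi hx)) _).symm

theorem IsWeighting.isLocallyConstant {X Y : Scheme.{u}} {f : X ⟶ Y} [LocallyQuasiFinite f]
    {w : X → ℤ} (hw : IsWeighting f w) {V : Scheme.{u}} (g : V ⟶ Y) [Etale g]
    (U : (pullback f g).Opens) [IsFinite (U.ι ≫ pullback.snd f g)] :
    IsLocallyConstant (fun v => fibreIntegral (pullback.snd f g)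
      ((U : Set ↑(pullback f g)).indicator fun x => w (pullback.fst f g x)) v) := by
  have h := hw V g U inferInstance
  convert h using 1
  funext v
  exact (fibreIntegral_open (pullback.snd f g) U (fun x => w (pullback.fst f g x)) v
    (finite_fibre_open _ U v)).symm

set_option maxHeartbeats 800000 in
/-- A weighting stays locally constant on finite open parts after any base change. -/
theorem IsWeighting.eventually_eq {X Y : Scheme.{u}} {f : X ⟶ Y} [LocallyQuasiFinite f]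
    [LocallyOfFiniteType f] {w : X → ℤ} (hw : IsWeighting f w) {X' Y' : Scheme.{u}} {f' : X' ⟶ Y'}
    {h : X' ⟶ X} {g : Y' ⟶ Y} (hc : IsPullback h f' f g) (U' : X'.Opens)
    [IsFinite (U'.ι ≫ f')] (y' : Y') :
    ∀ᶠ v in 𝓝 y', fibreIntegral f' ((U' : Set X').indicator fun x => w (h x)) v =
      fibreIntegral f' ((U' : Set X').indicator fun x => w (h x)) y' := by
  classical
  haveI : LocallyQuasiFinite f' := MorphismProperty.of_isPullback hc ‹_›
  let q' := geomPt y'
  let ι := {r : GPts f' q' // pt r.1 ∈ U'}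
  haveI : Finite ι := (finite_gpts_over f' q' U'
    (finite_fibre_open f' U' (pt q'))).to_subtype
  haveI := Fintype.ofFinite ι
  obtain ⟨T, gT, qT, hqT, V, _, hV⟩ := exists_split f (q' ≫ g)
    (fun i : ι => gptsBaseChange hc q' i.1) (fun _ => ⊤) (fun _ => trivial)
    (fun _ => f.quasiFiniteAt _)
  haveI := fun i => (hV i).1
  let a := pullback.fst g gT
  let b := pullback.snd g gT
  let q'' := pullback.lift q' qT hqT.symm
  let h'' : pullback f' a ⟶ pullback f gT := pullback.lift (pullback.fst f' a ≫ h)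
    (pullback.snd f' a ≫ b) (by
      rw [Category.assoc, hc.w, pullback.condition_assoc, Category.assoc]
      simp only [a, b, pullback.condition])
  have hbig : IsPullback (pullback.fst f' a ≫ h) (pullback.snd f' a) f (a ≫ g) :=
    (IsPullback.of_hasPullback f' a).paste_horiz hc
  have hc'' : IsPullback h'' (pullback.snd f' a) (pullback.snd f gT) b := by
    refine IsPullback.of_right ?_ (by simp [h'']) (IsPullback.of_hasPullback f gT)
    rw [pullback.lift_fst, show b ≫ gT = a ≫ g from pullback.condition.symm]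
    exact hbig
  haveI : IsFinite ((pullback.fst f' a ⁻¹ᵁ U').ι ≫ pullback.snd f' a) :=
    isFinite_preimage (IsPullback.of_hasPullback f' a) U'
  haveI := fun i => isFinite_preimage hc'' (V i)
  have hfst : h'' ≫ pullback.fst f gT = pullback.fst f' a ≫ h := pullback.lift_fst _ _ _
  -- geometric points upstairs
  have hg : ∀ x, pullback.snd f' a x = pt q'' → ∃ (r : GPts f' q') (r'' : Spec _ ⟶ pullback f' a),
      pt r'' = x ∧ r'' ≫ pullback.fst f' a = r.1 ∧
      r'' ≫ h'' = pullback.lift (r.1 ≫ h) qT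
        (by rw [Category.assoc, hc.w, reassoc_of% r.2]; exact hqT.symm) := by
    intro x hx
    obtain ⟨r'', hr''⟩ := exists_gpt (pullback.snd f' a) q'' x hx
    refine ⟨⟨r''.1 ≫ pullback.fst f' a, ?_⟩, r''.1, hr'', rfl, ?_⟩
    · rw [Category.assoc, pullback.condition, reassoc_of% r''.2]
      exact pullback.lift_fst _ _ _
    · apply pullback.hom_ext
      · simp [h'']
      · simp only [h'', Category.assoc, pullback.lift_snd]
        rw [reassoc_of% r''.2]
        exact pullback.lift_snd _ _ _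
  have hb : ∀ (i : ι) x, x ∈ h'' ⁻¹ᵁ V i → pullback.snd f' a x = pt q'' →
      ∀ (r : GPts f' q') (r'' : Spec _ ⟶ pullback f' a), pt r'' = x →
      r'' ≫ pullback.fst f' a = r.1 →
      r'' ≫ h'' = pullback.lift (r.1 ≫ h) qT
        (by rw [Category.assoc, hc.w, reassoc_of% r.2]; exact hqT.symm) → r = i.1 := by
    intro i x hx _ r r'' hrx _ hr
    have h1 := (hV i).2.2.2 ⟨_, pullback.lift_snd (r.1 ≫ h) qT
      (by rw [Category.assoc, hc.w, reassoc_of% r.2]; exact hqT.symm)⟩ (by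
        show pt (pullback.lift _ _ _) ∈ V i
        rw [← hr, pt_comp, hrx]; exact hx)
    apply (gptsBaseChange hc q').injective
    apply Subtype.ext
    have h2 := congrArg (· ≫ pullback.fst f gT) h1
    simpa using h2
  have hev := eventually_integral_eq_sum (pullback.snd f' a)
    (fun x => w (h (pullback.fst f' a x))) (pt q'')
    (pullback.fst f' a ⁻¹ᵁ U') (fun i => h'' ⁻¹ᵁ V i)
    (fun x hxU hx => by
      obtain ⟨r, r'', hrx, hr1, hr2⟩ := hg x hx
      have hrU : pt r.1 ∈ U' := by rw [← hr1, pt_comp, hrx]; exact hxU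
      refine ⟨⟨r, hrU⟩, ?_⟩
      show h'' x ∈ V _
      rw [← hrx, ← pt_comp, hr2]
      exact (hV ⟨r, hrU⟩).2.2.1)
    (fun i x hxV hx => by
      obtain ⟨r, r'', hrx, hr1, hr2⟩ := hg x hx
      show pullback.fst f' a x ∈ U'
      rw [← hrx, ← pt_comp, hr1, hb i x hxV hx r r'' hrx hr1 hr2]
      exact i.2)
    (fun i j x hxi hxj hx => by
      obtain ⟨r, r'', hrx, hr1, hr2⟩ := hg x hx
      exact Subtype.ext ((hb i x hxi hx r r'' hrx hr1 hr2).symm.trans
        (hb j x hxj hx r r'' hrx hr1 hr2)))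
  have hconst : ∀ᶠ v in 𝓝 (pt q''), ∀ i,
      fibreIntegral (pullback.snd f' a)
        ((h'' ⁻¹ᵁ V i : Set _).indicator fun x => w (h (pullback.fst f' a x))) v =
      fibreIntegral (pullback.snd f gT)
        ((V i : Set _).indicator fun x => w (pullback.fst f gT x)) (b (pt q'')) := by
    refine Filter.eventually_all.mpr fun i => ?_
    have h1 := b.continuous.continuousAt.eventually
      ((IsWeighting.isLocallyConstant hw gT (V i)).eventually_eq (b (pt q'')))
    filter_upwards [h1] with v hv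
    rw [← hv, ← fibreIntegral_baseChange hc'' _ v (finite_support_indicator _ (V i) _ _)]
    congr 1
    funext x
    have hx : w (h (pullback.fst f' a x)) = w (pullback.fst f gT (h'' x)) := by
      rw [← Scheme.Hom.comp_apply, ← hfst]; rfl
    simp only [Set.indicator_apply]
    rw [hx]
    rfl
  have hU : ∀ v, fibreIntegral (pullback.snd f' a)
      ((pullback.fst f' a ⁻¹ᵁ U' : Set _).indicator fun x => w (h (pullback.fst f' a x))) v =
      fibreIntegral f' ((U' : Set X').indicator fun x => w (h x)) (a v) := fun v => by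
    rw [← fibreIntegral_baseChange (IsPullback.of_hasPullback f' a) _ v
      (finite_support_indicator f' U' _ _)]
    congr 1
  have hall := hev.and hconst
  have ha : a (pt q'') = y' := by
    rw [← pt_comp, pullback.lift_fst, pt_geomPt]
  rw [← ha]
  rw [Filter.eventually_iff]
  refine Filter.mem_of_superset (a.isOpenMap.image_mem_nhds hall) ?_
  rintro _ ⟨v, ⟨hv1, hv2⟩, rfl⟩
  obtain ⟨ht1, ht2⟩ := hall.self_of_nhds
  show fibreIntegral f' _ (a v) = _
  rw [← hU, ← hU, hv1, ht1]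
  exact Finset.sum_congr rfl fun i _ => (hv2 i).trans (ht2 i).symm

/-- Weightings are stable under base change. -/
theorem IsWeighting.baseChange {X Y : Scheme.{u}} {f : X ⟶ Y} [LocallyQuasiFinite f]
    [LocallyOfFiniteType f] {w : X → ℤ} (hw : IsWeighting f w) {X' Y' : Scheme.{u}} {f' : X' ⟶ Y'}
    {h : X' ⟶ X} {g : Y' ⟶ Y} (hc : IsPullback h f' f g) :
    IsWeighting f' (fun x => w (h x)) := by
  haveI : LocallyQuasiFinite f' := MorphismProperty.of_isPullback hc ‹_›
  intro V' g' _ U hU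
  haveI := hU
  rw [IsLocallyConstant.iff_eventually_eq]
  intro v₀
  filter_upwards [IsWeighting.eventually_eq hw
    ((IsPullback.of_hasPullback f' g').paste_horiz hc) U v₀] with v hv
  rw [fibreIntegral_open (pullback.snd f' g') U (fun x => w (h (pullback.fst f' g' x))) v
    (finite_fibre_open _ U v), fibreIntegral_open (pullback.snd f' g') U
    (fun x => w (h (pullback.fst f' g' x))) v₀ (finite_fibre_open _ U v₀)]
  exact hv

set_option maxHeartbeats 800000 in
/-- The one-point local picture: an integral equal to `w x` near `t`. -/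
theorem IsWeighting.exists_local {X Y : Scheme.{u}} {f : X ⟶ Y} [LocallyQuasiFinite f]
    [LocallyOfFiniteType f] {w : X → ℤ} (hw : IsWeighting f w) (x : X) (O : X.Opens) (hx : x ∈ O) :
    ∃ (T : Scheme.{u}) (g : T ⟶ Y) (t : T) (z : ↑(pullback f g)) (V : (pullback f g).Opens),
      Etale g ∧ IsFinite (V.ι ≫ pullback.snd f g) ∧ V ≤ pullback.fst f g ⁻¹ᵁ O ∧ z ∈ V ∧
      pullback.fst f g z = x ∧ pullback.snd f g z = t ∧
      ∀ᶠ v in 𝓝 t, fibreIntegral (pullback.snd f g)
        ((V : Set ↑(pullback f g)).indicator fun p => w (pullback.fst f g p)) v = w x := by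
  let q := geomPt (f x)
  obtain ⟨r, hr⟩ := exists_gpt f q x (pt_geomPt (f x)).symm
  obtain ⟨T, g, qT, hqT, V, _, hV⟩ := exists_split f q (fun _ : Unit => r) (fun _ => O)
    (fun _ => hr.symm ▸ hx) (fun _ => f.quasiFiniteAt _)
  obtain ⟨hfin, hle, hmem, huniq⟩ := hV ()
  haveI := hfin
  refine ⟨T, g, pt qT, pt (pullback.lift r.1 qT (r.2.trans hqT.symm)), V (), inferInstance, hfin,
    hle, hmem, ?_, ?_, ?_⟩
  · rw [← pt_comp, pullback.lift_fst, hr]
  · rw [← pt_comp, pullback.lift_snd]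
  · refine ((IsWeighting.isLocallyConstant hw g (V ())).eventually_eq (pt qT)).mono
      fun v hv => hv.trans ?_
    rw [← gint_eq _ _ qT (finite_support_indicator _ (V ()) _ _), gint]
    rw [finsum_eq_single _ ⟨pullback.lift r.1 qT (r.2.trans hqT.symm), pullback.lift_snd _ _ _⟩]
    · rw [Set.indicator_of_mem hmem]
      rw [← pt_comp, pullback.lift_fst, hr]
    · intro r' hne
      exact Set.indicator_of_notMem (fun hm => hne (Subtype.ext (huniq r' hm))) _

theorem IsWeighting.isOpenMap {X Y : Scheme.{u}} {f : X ⟶ Y} [LocallyQuasiFinite f]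
    [LocallyOfFiniteType f] {w : X → ℤ} (hw : IsWeighting f w) (hpos : ∀ x, 0 < w x) :
    IsOpenMap f := by
  intro O hO
  rw [isOpen_iff_mem_nhds]
  rintro _ ⟨x, hx, rfl⟩
  obtain ⟨T, g, t, z, V, _, _, hle, _, hzx, hzt, hev⟩ :=
    IsWeighting.exists_local hw x ⟨O, hO⟩ hx
  have hgt : g t = f x := by
    rw [← hzt, ← hzx]
    exact congr($(pullback.condition (f := f) (g := g)) z).symm
  rw [← hgt]
  refine Filter.mem_of_superset (g.isOpenMap.image_mem_nhds hev) ?_
  rintro _ ⟨v, hv, rfl⟩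
  obtain ⟨p, hp, hp0⟩ := exists_ne_zero_of_fibreIntegral _ _ v
    (hv.trans_ne (hpos x).ne')
  refine ⟨pullback.fst f g p, hle (Set.mem_of_indicator_ne_zero hp0), ?_⟩
  rw [← hp]
  exact congr($(pullback.condition (f := f) (g := g)) p)

theorem IsWeighting.universallyOpen {X Y : Scheme.{u}} {f : X ⟶ Y} [LocallyQuasiFinite f]
    [LocallyOfFiniteType f] {w : X → ℤ} (hw : IsWeighting f w) (hpos : ∀ x, 0 < w x) :
    UniversallyOpen f := by
  constructor
  intro X' Y' h g f' hc'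
  have hc := hc'.flip
  haveI : LocallyQuasiFinite f' := MorphismProperty.of_isPullback hc ‹_›
  haveI : LocallyOfFiniteType f' := MorphismProperty.of_isPullback hc ‹_›
  exact IsWeighting.isOpenMap (IsWeighting.baseChange hw hc) fun x => hpos _

theorem IsWeighting.upperSemicontinuous {X Y : Scheme.{u}} {f : X ⟶ Y} [LocallyQuasiFinite f]
    [LocallyOfFiniteType f] {w : X → ℤ} (hw : IsWeighting f w) (hpos : ∀ x, 0 < w x) :
    UpperSemicontinuous w := by
  intro x n hn
  obtain ⟨T, g, t, z, V, _, hfin, _, hzV, hzx, hzt, hev⟩ :=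
    IsWeighting.exists_local hw x ⊤ trivial
  have h1 : ∀ᶠ p in 𝓝 z, w (pullback.fst f g p) ≤ w x := by
    filter_upwards [(pullback.snd f g).continuous.continuousAt.eventually (hzt ▸ hev),
      V.2.mem_nhds hzV] with p hp hpV
    refine le_trans (le_of_eq ?_) ((le_fibreIntegral (pullback.snd f g)
      ((V : Set ↑(pullback f g)).indicator fun p => w (pullback.fst f g p)) p
      (fun q _ => Set.indicator_nonneg (fun a _ => (hpos _).le) q)
      (finite_support_indicator _ V _ _)).trans hp.le)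
    rw [Set.indicator_of_mem (show p ∈ (V : Set ↑(pullback f g)) from hpV)]
  rw [← hzx]
  refine Filter.mem_of_superset ((pullback.fst f g).isOpenMap.image_mem_nhds h1) ?_
  rintro _ ⟨p, hp, rfl⟩
  exact lt_of_le_of_lt hp hn

end Groth.Agent.EtaleSplit

namespace Groth.Agent.EtaleSplit

theorem fibreIntegral_image {X Y W : Scheme.{u}} (f : X ⟶ Y) [LocallyQuasiFinite f] (j : W ⟶ X)
    [IsOpenImmersion j] (w : X → ℤ) (y : Y)
    (hfin : {x | x ∈ Set.range j ∧ f x = y}.Finite) :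
    fibreIntegral (j ≫ f) (fun z => w (j z)) y = fibreIntegral f ((Set.range j).indicator w) y := by
  have h1 := gint_indicator f j w (geomPt y)
  rw [gint_eq (j ≫ f) _ (geomPt y), gint_eq f _ (geomPt y), pt_geomPt] at h1
  · exact h1
  · rw [pt_geomPt]
    exact hfin.subset fun x hx => ⟨Set.mem_of_indicator_ne_zero hx.1, hx.2⟩
  · rw [pt_geomPt]
    refine Set.Finite.of_finite_image (f := j) (hfin.subset ?_) j.isOpenEmbedding.injective.injOn
    rintro _ ⟨a, ha, rfl⟩
    exact ⟨⟨a, rfl⟩, ha.2⟩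

theorem IsWeighting.restrict {X Y : Scheme.{u}} {f : X ⟶ Y} [LocallyQuasiFinite f] {w : X → ℤ}
    (hw : IsWeighting f w) (X' : X.Opens) : IsWeighting (X'.ι ≫ f) (fun x => w (X'.ι x)) := by
  intro V g _ U hU
  let j : pullback (X'.ι ≫ f) g ⟶ pullback f g :=
    pullback.map _ _ _ _ X'.ι (𝟙 V) (𝟙 Y) (by simp) (by simp)
  haveI : IsFinite (U.ι ≫ j ≫ pullback.snd f g) := by
    rw [show j ≫ pullback.snd f g = pullback.snd (X'.ι ≫ f) g by simp [j]]; exact hU
  haveI := isFinite_image (pullback.snd f g) j U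
  have h := IsWeighting.isLocallyConstant hw g (j ''ᵁ U)
  convert h using 1
  funext v
  have hr : Set.range (U.ι ≫ j) = ((j ''ᵁ U : (pullback f g).Opens) : Set ↑(pullback f g)) := by
    simp [Set.range_comp, Scheme.Hom.coe_image]
  have h2 := fibreIntegral_image (pullback.snd f g) (U.ι ≫ j)
    (fun x => w (pullback.fst f g x)) v (by rw [hr]; exact finite_fibre_open _ _ v)
  rw [hr] at h2
  rw [← h2]
  have e1 : (U.ι ≫ j) ≫ pullback.snd f g = U.ι ≫ pullback.snd (X'.ι ≫ f) g := by simp [j]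
  rw [e1]
  congr 1
  funext u
  have : (j ≫ pullback.fst f g) (U.ι u) = (pullback.fst (X'.ι ≫ f) g ≫ X'.ι) (U.ι u) := by
    simp [j]
  exact congrArg w this.symm

end Groth.Agent.EtaleSplit
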