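import Mathlib
import Groth.Agent.EtaleSplit.Split
import Groth.Agent.EtaleSplit.Weighting
import Groth.Prelude.Def_Hens2

set_option autoImplicit false
set_option backward.isDefEq.respectTransparency false
set_option backward.defeqAttrib.useBackward true
set_option linter.style.haveILetI false

/-!
# Elementary étale neighbourhoods splitting off finite parts
-/

open AlgebraicGeometry CategoryTheory Limits

open scoped Topology

universe u

namespace Groth.Agent.EtaleSplit

theorem residue_bijective_of_section {T S : Scheme.{u}} (g : T ⟶ S) (s : S)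
    (σ : Spec (S.residueField s) ⟶ T) (hσ : σ ≫ g = S.fromSpecResidueField s) :
    g (σ (IsLocalRing.closedPoint _)) = s ∧
      Function.Bijective (g.residueFieldMap (σ (IsLocalRing.closedPoint _))) := by
  let σ' : Spec (CommRingCat.of (S.residueField s)) ⟶ T := σ
  have hσ' : σ' ≫ g = S.fromSpecResidueField s := hσ
  have hpt : pt (σ' ≫ g) = s := by rw [hσ']; exact Scheme.fromSpecResidueField_apply _ _
  refine ⟨hpt, ?_⟩
  have hemb : emb (σ' ≫ g) = (S.residueFieldCongr hpt).hom := by
    apply Spec.map_injective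
    rw [← cancel_mono (S.fromSpecResidueField _), fromSpec_emb,
      Scheme.residueFieldCongr_fromSpecResidueField]
    exact hσ'
  rw [emb_comp] at hemb
  have hbij : Function.Bijective (g.residueFieldMap (pt σ') ≫ emb σ').hom := by
    rw [hemb]; exact ConcreteCategory.bijective_of_isIso _
  refine ⟨(g.residueFieldMap (pt σ')).hom.injective, fun a => ?_⟩
  obtain ⟨b, hb⟩ := hbij.2 ((emb σ').hom a)
  exact ⟨b, (emb σ').hom.injective hb⟩

theorem eq_of_comp_eq {K : Type u} [Field K] {T S : Scheme.{u}} (g : T ⟶ S) (t : T)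
    (ht : Function.Bijective (g.residueFieldMap t)) (a b : Spec (.of K) ⟶ T) (ha : pt a = t)
    (hb : pt b = t) (h : a ≫ g = b ≫ g) : a = b := by
  have hfac : ∀ c : Spec (.of K) ⟶ T, pt c = t → ∃ c', c' ≫ T.fromSpecResidueField t = c := by
    rintro c rfl
    exact ⟨_, fromSpec_emb c⟩
  obtain ⟨a', rfl⟩ := hfac a ha
  obtain ⟨b', rfl⟩ := hfac b hb
  haveI : IsIso (g.residueFieldMap t) :=
    (ConcreteCategory.isIso_iff_bijective _).mpr ht
  simp only [Category.assoc, ← Scheme.Hom.SpecMap_residueFieldMap_fromSpecResidueField] at h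
  rw [← Category.assoc, ← Category.assoc, cancel_mono, cancel_mono] at h
  rw [h]

theorem eq_of_section {X T S : Scheme.{u}} (f : X ⟶ S) (g : T ⟶ S) (x : X) (t : T)
    (ht : Function.Bijective (g.residueFieldMap t)) (σ : Spec (X.residueField x) ⟶ pullback f g)
    (hσ : σ ≫ pullback.fst f g = X.fromSpecResidueField x)
    (hσt : pullback.snd f g (σ (IsLocalRing.closedPoint _)) = t) (w : ↑(pullback f g))
    (hw1 : pullback.fst f g w = x) (hw2 : pullback.snd f g w = t) :
    w = σ (IsLocalRing.closedPoint _) := by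
  let r := (pullback f g).fromSpecResidueField w
  let k := (X.residueFieldCongr hw1.symm).hom ≫ (pullback.fst f g).residueFieldMap w
  have h1 : r ≫ pullback.fst f g = (Spec.map k ≫ σ) ≫ pullback.fst f g := by
    rw [Category.assoc, hσ, Spec.map_comp, Category.assoc,
      Scheme.residueFieldCongr_fromSpecResidueField,
      Scheme.Hom.SpecMap_residueFieldMap_fromSpecResidueField]
  have hr : r = Spec.map k ≫ σ := by
    refine pullback.hom_ext h1 ?_
    refine eq_of_comp_eq (K := (pullback f g).residueField w) g t ht _ _ ?_ ?_ ?_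
    · show pullback.snd f g (r _) = t
      rw [Scheme.fromSpecResidueField_apply]
      exact hw2
    · show pullback.snd f g (σ _) = t
      convert hσt using 3
      exact Subsingleton.elim _ _
    · simp only [Category.assoc, ← pullback.condition]
      rw [← Category.assoc, h1, Category.assoc, Category.assoc]
  have := congrArg (fun m => m (IsLocalRing.closedPoint ((pullback f g).residueField w))) hr
  simp only [r, Scheme.fromSpecResidueField_apply] at this
  rw [this]
  show σ _ = σ _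
  exact congrArg σ (Subsingleton.elim _ _)

/-- 00UJ for schemes, with trivial residue field extensions. -/
theorem exists_nbhd_finite_part {X S : Scheme.{u}} (f : X ⟶ S) [LocallyOfFiniteType f] (x : X)
    (hx : f.QuasiFiniteAt x) :
    ∃ (T : Scheme.{u}) (g : T ⟶ S) (σ : Spec (S.residueField (f x)) ⟶ T)
      (hσ : σ ≫ g = S.fromSpecResidueField (f x)) (V : (pullback f g).Opens),
      Etale g ∧ IsFinite (V.ι ≫ pullback.snd f g) ∧
      (∃ v, v ∈ V ∧ pullback.fst f g v = x ∧
        pullback.snd f g v = σ (IsLocalRing.closedPoint _)) ∧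
      (∀ w, w ∈ V → pullback.snd f g w = σ (IsLocalRing.closedPoint _) →
        pullback.fst f g w = x) := by
  obtain ⟨_, ⟨W : X.Opens, hW, rfl⟩, hxW, -⟩ := X.isBasis_affineOpens.exists_subset_of_mem_open
    (Set.mem_univ x) isOpen_univ
  haveI : IsAffine W.toScheme := hW
  obtain ⟨T, g, σ, V, v, hg, hσ, hvV, hfin, hv1, hv2, hu1, -⟩ :=
    exists_split_point (W.ι ≫ f) ⟨x, hxW⟩
      (Scheme.Hom.quasiFiniteAt_comp_iff_of_isOpenImmersion.mpr hx)
  let j : pullback (W.ι ≫ f) g ⟶ pullback f g :=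
    pullback.map _ _ _ _ W.ι (𝟙 _) (𝟙 _) (by simp) (by simp)
  have hj2 : j ≫ pullback.snd f g = pullback.snd (W.ι ≫ f) g := by simp [j]
  have hj1 : j ≫ pullback.fst f g = pullback.fst (W.ι ≫ f) g ≫ W.ι := by simp [j]
  haveI : IsFinite (V.ι ≫ j ≫ pullback.snd f g) := by rw [hj2]; exact hfin
  refine ⟨T, g, σ, hσ, j ''ᵁ V, hg, isFinite_image _ j V, ⟨j v, ⟨v, hvV, rfl⟩, ?_, ?_⟩, ?_⟩
  · rw [← Scheme.Hom.comp_apply, hj1, Scheme.Hom.comp_apply, hv1]
    rfl
  · rw [← Scheme.Hom.comp_apply, hj2, hv2]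
    rfl
  · rintro _ ⟨w, hw, rfl⟩ hw2
    have hwv : w = v := by
      refine hu1 w hw ?_
      exact (congr($(hj2) w)).symm.trans hw2
    subst hwv
    show (j ≫ pullback.fst f g) w = x
    rw [hj1, Scheme.Hom.comp_apply, hv1]
    rfl

theorem exists_nbhd_finite_parts {X S : Scheme.{u}} (f : X ⟶ S) [LocallyOfFiniteType f] (s : S)
    {ι : Type} [Finite ι] (x : ι → X) (hs : ∀ i, f (x i) = s) (hx : ∀ i, f.QuasiFiniteAt (x i)) :
    ∃ (U : Scheme.{u}) (g : U ⟶ S) (t : U), Hens2.IsEtaleNbhd g t s ∧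
      ∃ (V : ι → (pullback f g).Opens) (v : ι → ↑(pullback f g)), ∀ i, v i ∈ V i ∧
        IsFinite ((V i).ι ≫ pullback.snd f g) ∧ pullback.snd f g (v i) = t ∧
        (∀ w : ↑(pullback f g), w ∈ V i → pullback.snd f g w = t → w = v i) ∧
        pullback.fst f g (v i) = x i ∧
        Function.Bijective ((pullback.fst f g).residueFieldMap (v i)) := by
  haveI := Fintype.ofFinite ι
  choose T g σ hσ V hg hfin hex huniq using fun i => exists_nbhd_finite_part f (x i) (hx i)
  let q : Spec (CommRingCat.of (S.residueField s)) ⟶ S := S.fromSpecResidueField s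
  let qT : ∀ i, Spec (CommRingCat.of (S.residueField s)) ⟶ T i := fun i =>
    Spec.map (S.residueFieldCongr (hs i)).hom ≫ σ i
  have hqT : ∀ i, qT i ≫ g i = q := fun i => by
    rw [Category.assoc, hσ, Scheme.residueFieldCongr_fromSpecResidueField]
  obtain ⟨T', g', q', hg', hq', hk⟩ := exists_refine q Finset.univ T g hg qT hqT
  choose k hk hk' using fun i => hk i (Finset.mem_univ i)
  obtain ⟨ht, hbij⟩ := residue_bijective_of_section g' s q' hq'
  have hσx : ∀ i, X.fromSpecResidueField (x i) ≫ f =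
      (Spec.map ((S.residueFieldCongr (hs i).symm).hom ≫ f.residueFieldMap (x i)) ≫ q') ≫ g' := by
    intro i
    rw [Category.assoc, hq', Spec.map_comp, Category.assoc,
      Scheme.residueFieldCongr_fromSpecResidueField,
      Scheme.Hom.SpecMap_residueFieldMap_fromSpecResidueField]
  let σx : ∀ i, Spec (X.residueField (x i)) ⟶ pullback f g' := fun i =>
    pullback.lift (X.fromSpecResidueField (x i)) _ (hσx i)
  have hσx1 : ∀ i, σx i ≫ pullback.fst f g' = X.fromSpecResidueField (x i) := fun i =>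
    pullback.lift_fst _ _ _
  have hσxt : ∀ i, pullback.snd f g' (σx i (IsLocalRing.closedPoint _)) = pt q' := by
    intro i
    rw [← Scheme.Hom.comp_apply, pullback.lift_snd, Scheme.Hom.comp_apply]
    exact congrArg q' (Subsingleton.elim _ _)
  let m := fun i => pullback.map f g' f (g i) (𝟙 X) (k i) (𝟙 S) (by simp) (by simp [hk i])
  have hm : ∀ i, IsPullback (m i) (pullback.snd f g') (pullback.snd f (g i)) (k i) :=
    fun i => isPullback_pullbackMap f (g i) g' (k i) (hk i)
  have hmfst : ∀ i w, pullback.fst f (g i) (m i w) = pullback.fst f g' w := fun i w => by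
    rw [← Scheme.Hom.comp_apply]; simp [m]
  have hmsnd : ∀ i w, pullback.snd f g' w = pt q' →
      pullback.snd f (g i) (m i w) = σ i (IsLocalRing.closedPoint _) := fun i w hw => by
    rw [← Scheme.Hom.comp_apply, (hm i).w, Scheme.Hom.comp_apply, hw, ← pt_comp, hk']
    exact congrArg (σ i) (Subsingleton.elim _ _)
  refine ⟨T', g', pt q', ⟨hg', ht, hbij⟩, fun i => m i ⁻¹ᵁ V i,
    fun i => σx i (IsLocalRing.closedPoint _), fun i => ?_⟩
  have hv1 : pullback.fst f g' (σx i (IsLocalRing.closedPoint _)) = x i := by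
    rw [← Scheme.Hom.comp_apply, hσx1]
    exact Scheme.fromSpecResidueField_apply _ _
  have hmem : ∀ w, pullback.fst f g' w = x i → pullback.snd f g' w = pt q' →
      w = σx i (IsLocalRing.closedPoint _) := fun w h1 h2 =>
    eq_of_section f g' (x i) _ hbij (σx i) (hσx1 i) (hσxt i) w h1 h2
  obtain ⟨v, hvV, hv, hvt⟩ := hex i
  have hbijm : Function.Bijective ((g i).residueFieldMap (σ i (IsLocalRing.closedPoint _))) :=
    (residue_bijective_of_section (g i) _ (σ i) (hσ i)).2
  refine ⟨?_, ?_, hσxt i, ?_, hv1, ?_⟩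
  · show m i _ ∈ V i
    have hlift : (σx i ≫ m i) ≫ pullback.fst f (g i) = X.fromSpecResidueField (x i) := by
      rw [Category.assoc, pullback.lift_fst, Category.comp_id, hσx1]
    have hsnd : pullback.snd f (g i) ((σx i ≫ m i) (IsLocalRing.closedPoint _)) =
        σ i (IsLocalRing.closedPoint _) := by
      rw [Scheme.Hom.comp_apply]; exact hmsnd i _ (hσxt i)
    have h := eq_of_section f (g i) (x i) _ hbijm (σx i ≫ m i) hlift hsnd v hv hvt
    rw [← Scheme.Hom.comp_apply, ← h]
    exact hvV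
  · haveI := hfin i
    exact isFinite_preimage (hm i) (V i)
  · intro w hw hwt
    exact hmem w ((hmfst i w).symm.trans (huniq i _ hw (hmsnd i w hwt))) hwt
  · exact (residue_bijective_of_section (pullback.fst f g') (x i) (σx i) (hσx1 i)).2

variable {Ω : Type u} [Field Ω]

/-- In the separated case the finite parts may be taken closed and disjoint. -/
theorem exists_split_separated [IsAlgClosed Ω] {X S : Scheme.{u}} (f : X ⟶ S)
    [LocallyOfFiniteType f] [IsSeparated f]
    (q : Spec (.of Ω) ⟶ S) {ι : Type*} [Finite ι] (p : ι → GPts f q) (hinj : Function.Injective p)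
    (hp : ∀ i, f.QuasiFiniteAt (pt (p i).1)) :
    ∃ (T : Scheme.{u}) (g : T ⟶ S) (qT : Spec (.of Ω) ⟶ T) (hq : qT ≫ g = q)
      (V : ι → (pullback f g).Opens),
      Etale g ∧ (∀ i, IsClosed (V i : Set ↑(pullback f g))) ∧
      (∀ i j, i ≠ j → Disjoint (V i : Set ↑(pullback f g)) (V j)) ∧
      ∀ i, IsFinite ((V i).ι ≫ pullback.snd f g) ∧
      pt (pullback.lift (p i).1 qT ((p i).2.trans hq.symm)) ∈ V i ∧
      ∀ r : GPts (pullback.snd f g) qT, pt r.1 ∈ V i →
        r.1 = pullback.lift (p i).1 qT ((p i).2.trans hq.symm) := by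
  classical
  haveI := Fintype.ofFinite ι
  obtain ⟨T, g, qT, hq, V, _, hV⟩ := exists_split f q p (fun _ => ⊤) (fun _ => trivial) hp
  haveI := fun i => (hV i).1
  have hcl : ∀ i, IsClosed (V i : Set ↑(pullback f g)) := fun i => by
    haveI : IsFinite (V i).ι := IsFinite.of_comp _ (pullback.snd f g)
    simpa using (V i).ι.isClosedMap.isClosed_range
  have hev : ∀ᶠ v in 𝓝 (pt qT), ∀ a : ι × ι, a.1 ≠ a.2 →
      ∀ z, z ∈ V a.1 → pullback.snd f g z = v → z ∈ (V a.2 : Set ↑(pullback f g))ᶜ := by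
    refine Filter.eventually_all.mpr fun a => ?_
    by_cases ha : a.1 = a.2
    · exact Filter.Eventually.of_forall fun v h => absurd ha h
    · filter_upwards [eventually_forall_of_fibre (pullback.snd f g) (V a.1) _
        (hcl a.2).isOpen_compl (pt qT) (fun z hz hzt hz2 => by
          haveI : LocallyQuasiFinite ((V a.1).ι ≫ pullback.snd f g) := inferInstance
          obtain ⟨r, hr⟩ := exists_gpt ((V a.1).ι ≫ pullback.snd f g) qT ⟨z, hz⟩ hzt
          have hrz : pt (r.1 ≫ (V a.1).ι) = z := congrArg Subtype.val hr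
          have h1 := (hV a.1).2.2.2 ⟨r.1 ≫ (V a.1).ι, by rw [Category.assoc]; exact r.2⟩
            (by rw [hrz]; exact hz)
          have h2 := (hV a.2).2.2.2 ⟨r.1 ≫ (V a.1).ι, by rw [Category.assoc]; exact r.2⟩
            (by rw [hrz]; exact hz2)
          have h3 := congrArg (· ≫ pullback.fst f g) (h1.symm.trans h2)
          simp only [pullback.lift_fst] at h3
          exact ha (hinj (Subtype.ext h3)))] with v hv _
      exact hv
  obtain ⟨N, hN, hNo, htN⟩ := eventually_nhds_iff.mp hev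
  let N' : T.Opens := ⟨N, hNo⟩
  let q' : Spec (.of Ω) ⟶ N'.toScheme := IsOpenImmersion.lift N'.ι qT (by
    rintro _ ⟨z, rfl⟩
    rw [pt_eq]
    rw [Scheme.Opens.range_ι]
    exact htN)
  have hq'' : q' ≫ N'.ι = qT := IsOpenImmersion.lift_fac _ _ _
  have hq' : q' ≫ N'.ι ≫ g = q := by rw [reassoc_of% hq'', hq]
  let m := pullback.map f (N'.ι ≫ g) f g (𝟙 X) N'.ι (𝟙 S) (by simp) (by simp)
  have hm : IsPullback m (pullback.snd f (N'.ι ≫ g)) (pullback.snd f g) N'.ι :=
    isPullback_pullbackMap f g (N'.ι ≫ g) N'.ι rfl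
  refine ⟨N'.toScheme, N'.ι ≫ g, q', hq', fun i => m ⁻¹ᵁ V i, inferInstance,
    fun i => (hcl i).preimage m.continuous, fun i j hij => ?_, fun i => ⟨?_, ?_, ?_⟩⟩
  · rw [Set.disjoint_left]
    intro z hzi hzj
    refine hN _ ?_ (i, j) hij (m z) hzi rfl hzj
    rw [← Scheme.Hom.comp_apply, hm.w, Scheme.Hom.comp_apply]
    exact (pullback.snd f (N'.ι ≫ g) z).2
  · exact isFinite_preimage hm (V i)
  · show m (pt _) ∈ V i
    rw [← pt_comp]
    have h := (hV i).2.2.1
    convert h using 2
    apply pullback.hom_ext <;> simp [m, hq'']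
  · intro r hr
    have h := (hV i).2.2.2 ⟨r.1 ≫ m, by rw [Category.assoc, hm.w, reassoc_of% r.2, hq'']⟩ hr
    apply hm.hom_ext
    · refine h.trans ?_
      apply pullback.hom_ext <;> simp [m, hq'']
    · rw [r.2, pullback.lift_snd]

theorem purelyInseparable_of_subsingleton [IsAlgClosed Ω] {X S : Scheme.{u}} (f : X ⟶ S)
    (q : Spec (.of Ω) ⟶ S) (x : X) (hx : f x = pt q) (hq : f.QuasiFiniteAt x)
    (h : ∀ r r' : GPts f q, pt r.1 = x → pt r'.1 = x → r.1 = r'.1) :
    letI := (f.residueFieldMap x).hom.toAlgebra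
    Module.Finite (S.residueField (f x)) (X.residueField x) ∧
      IsPurelyInseparable (S.residueField (f x)) (X.residueField x) := by
  letI := (f.residueFieldMap x).hom.toAlgebra
  letI : Algebra (S.residueField (f x)) Ω :=
    ((S.residueFieldCongr hx).hom ≫ emb q).hom.toAlgebra
  haveI : Module.Finite (S.residueField (f x)) (X.residueField x) :=
    finite_residueFieldMap f x hq
  refine ⟨inferInstance, ?_⟩
  rw [isPurelyInseparable_iff_finSepDegree_eq_one]
  refine (Field.finSepDegree_eq_of_isAlgClosed (S.residueField (f x)) (X.residueField x) Ω).trans ?_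
  have hsub : Subsingleton (X.residueField x →ₐ[S.residueField (f x)] Ω) := by
    refine ⟨fun σ τ => ?_⟩
    let mk : (X.residueField x →ₐ[S.residueField (f x)] Ω) → GPts f q := fun ψ =>
      (gptsEquiv f q).symm ⟨⟨x, hx⟩, ⟨CommRingCat.ofHom ψ.toRingHom, by
        ext a; exact ψ.commutes a⟩⟩
    have hmk : ∀ ψ, pt (mk ψ).1 = x := fun ψ => by
      rw [← gptsEquiv_pt, Equiv.apply_symm_apply]
    have := (gptsEquiv f q).symm.injective (Subtype.ext (h _ _ (hmk σ) (hmk τ)))
    simp only [Sigma.mk.injEq, heq_eq_eq, true_and, Subtype.mk.injEq] at this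
    exact AlgHom.ext fun a => RingHom.congr_fun (congrArg CommRingCat.Hom.hom this) a
  haveI : Nonempty (X.residueField x →ₐ[S.residueField (f x)] Ω) := ⟨IsAlgClosed.lift⟩
  exact Nat.card_eq_one_iff_unique.mpr ⟨hsub, inferInstance⟩

theorem finite_gpts_at {X S : Scheme.{u}} [IsAlgClosed Ω] (f : X ⟶ S) (q : Spec (.of Ω) ⟶ S)
    (x : X) (hs : f x = pt q) (hx : f.QuasiFiniteAt x) :
    Finite {r : GPts f q // pt r.1 = x} := by
  letI := (f.residueFieldMap x).hom.toAlgebra
  letI : Algebra (S.residueField (f x)) Ω :=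
    ((S.residueFieldCongr hs).hom ≫ emb q).hom.toAlgebra
  haveI : Module.Finite (S.residueField (f x)) (X.residueField x) :=
    finite_residueFieldMap f x hx
  haveI : Finite (GEmb f q ⟨x, hs⟩) :=
    Finite.of_injective (β := X.residueField x →ₐ[S.residueField (f x)] Ω)
      (fun φ => ⟨φ.1.hom, fun a => RingHom.congr_fun (congrArg CommRingCat.Hom.hom φ.2) a⟩)
      (fun φ φ' h => Subtype.ext (CommRingCat.hom_ext (congrArg AlgHom.toRingHom h)))
  refine Finite.of_surjective
    (fun φ : GEmb f q ⟨x, hs⟩ => (⟨(gptsEquiv f q).symm ⟨⟨x, hs⟩, φ⟩, by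
      rw [← gptsEquiv_pt, Equiv.apply_symm_apply]⟩ : {r : GPts f q // pt r.1 = x})) ?_
  rintro ⟨r, hr⟩
  have hri : (gptsEquiv f q r).1 = ⟨x, hs⟩ := Subtype.ext hr
  generalize h : gptsEquiv f q r = s at hri
  obtain ⟨z, φ⟩ := s
  subst hri
  exact ⟨φ, Subtype.ext ((gptsEquiv f q).symm_apply_eq.mpr h.symm)⟩

/-- Points facts from a splitting of all geometric points above the `x i`. -/
theorem split_point_facts {X S T : Scheme.{u}} [IsAlgClosed Ω] (f : X ⟶ S) [LocallyOfFiniteType f]
    (g : T ⟶ S) (q : Spec (.of Ω) ⟶ S) (qT : Spec (.of Ω) ⟶ T) (hq : qT ≫ g = q) (p : GPts f q)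
    (V : (pullback f g).Opens) [IsFinite (V.ι ≫ pullback.snd f g)]
    (hmem : pt (pullback.lift p.1 qT (p.2.trans hq.symm)) ∈ V)
    (huniq : ∀ r : GPts (pullback.snd f g) qT, pt r.1 ∈ V →
        r.1 = pullback.lift p.1 qT (p.2.trans hq.symm)) :
    let v := pt (pullback.lift p.1 qT (p.2.trans hq.symm))
    pullback.snd f g v = pt qT ∧ pullback.fst f g v = pt p.1 ∧
      (∀ w, w ∈ V → pullback.snd f g w = pt qT → w = v) ∧
      (letI := ((pullback.snd f g).residueFieldMap v).hom.toAlgebra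
       Module.Finite (T.residueField (pullback.snd f g v)) ((pullback f g).residueField v) ∧
       IsPurelyInseparable (T.residueField (pullback.snd f g v))
        ((pullback f g).residueField v)) := by
  intro v
  have h2 : pullback.snd f g v = pt qT := by
    show pullback.snd f g (pt _) = _
    rw [← pt_comp, pullback.lift_snd]
  have hqf : ∀ w, w ∈ V → (pullback.snd f g).QuasiFiniteAt w := fun w hw => by
    have := Scheme.Hom.quasiFiniteAt (V.ι ≫ pullback.snd f g) ⟨w, hw⟩
    exact Scheme.Hom.quasiFiniteAt_comp_iff_of_isOpenImmersion.mp this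
  refine ⟨h2, ?_, fun w hw hwt => ?_, ?_⟩
  · show pullback.fst f g (pt _) = _
    rw [← pt_comp, pullback.lift_fst]
  · obtain ⟨r, hr⟩ := exists_gpt (V.ι ≫ pullback.snd f g) qT ⟨w, hw⟩ hwt
    have hrw : pt (r.1 ≫ V.ι) = w := congrArg Subtype.val hr
    have := huniq ⟨r.1 ≫ V.ι, by rw [Category.assoc]; exact r.2⟩ (by rw [hrw]; exact hw)
    exact hrw.symm.trans (congrArg (fun k => pt k) this)
  · exact purelyInseparable_of_subsingleton (pullback.snd f g) qT v h2 (hqf v hmem)
      fun r r' hr hr' => (huniq r (by rw [hr]; exact hmem)).trans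
        (huniq r' (by rw [hr']; exact hmem)).symm

end Groth.Agent.EtaleSplit

namespace Groth.Agent.EtaleSplit

variable {Ω : Type u} [Field Ω]

theorem exists_gpt_over [IsAlgClosed Ω] {X S T : Scheme.{u}} (f : X ⟶ S) [LocallyOfFiniteType f]
    (g : T ⟶ S) (qT : Spec (.of Ω) ⟶ T) (w : ↑(pullback f g))
    (hw : pullback.snd f g w = pt qT) (hx : f.QuasiFiniteAt (pullback.fst f g w)) :
    ∃ r : GPts (pullback.snd f g) qT, pt r.1 = w := by
  let W := pullback.fst f g ⁻¹ᵁ f.quasiFiniteLocus
  haveI := quasiFiniteAt_lift f g W le_rfl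
  obtain ⟨r, hr⟩ := exists_gpt (W.ι ≫ pullback.snd f g) qT ⟨w, hx⟩ hw
  exact ⟨⟨r.1 ≫ W.ι, by rw [Category.assoc]; exact r.2⟩, congrArg Subtype.val hr⟩

theorem split_cover [IsAlgClosed Ω] {X S T : Scheme.{u}} (f : X ⟶ S) [LocallyOfFiniteType f]
    (g : T ⟶ S) (q : Spec (.of Ω) ⟶ S) (qT : Spec (.of Ω) ⟶ T) (hq : qT ≫ g = q)
    (w : ↑(pullback f g)) (hw : pullback.snd f g w = pt qT)
    (hx : f.QuasiFiniteAt (pullback.fst f g w)) :
    ∃ p : GPts f q, pt p.1 = pullback.fst f g w ∧
      w = pt (pullback.lift p.1 qT (p.2.trans hq.symm)) := by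
  obtain ⟨r, hr⟩ := exists_gpt_over f g qT w hw hx
  refine ⟨⟨r.1 ≫ pullback.fst f g, by
    rw [Category.assoc, pullback.condition, reassoc_of% r.2, hq]⟩, ?_, ?_⟩
  · rw [← hr, pt_comp]
  · rw [← hr]
    congr 1
    apply pullback.hom_ext <;> simp [r.2]

/-- All geometric points over finitely many points, indexed. -/
theorem exists_enum [IsAlgClosed Ω] {X S : Scheme.{u}} (f : X ⟶ S) (q : Spec (.of Ω) ⟶ S)
    {ι : Type} (x : ι → X) (hinj : Function.Injective x) (hs : ∀ i, f (x i) = pt q)
    (hx : ∀ i, f.QuasiFiniteAt (x i)) :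
    ∃ (J : ι → Type) (_ : ∀ i, Finite (J i)) (p : (Σ i, J i) → GPts f q),
      Function.Injective p ∧ (∀ a, pt (p a).1 = x a.1) ∧
      ∀ r i, pt r.1 = x i → ∃ j, p ⟨i, j⟩ = r := by
  haveI := fun i => finite_gpts_at f q (x i) (hs i) (hx i)
  refine ⟨fun i => Fin (Nat.card {r : GPts f q // pt r.1 = x i}), inferInstance,
    fun a => ((Finite.equivFin _).symm a.2).1, ?_, fun a => ((Finite.equivFin _).symm a.2).2, ?_⟩
  · rintro ⟨i, j⟩ ⟨i', j'⟩ h
    have hii : i = i' := hinj (by
      have h1 := ((Finite.equivFin {r : GPts f q // pt r.1 = x i}).symm j).2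
      have h2 := ((Finite.equivFin {r : GPts f q // pt r.1 = x i'}).symm j').2
      simp only at h
      rw [← h1, ← h2, h])
    subst hii
    have := (Finite.equivFin {r : GPts f q // pt r.1 = x i}).symm.injective (Subtype.ext h)
    exact congrArg (Sigma.mk i) this
  · intro r i hr
    exact ⟨Finite.equivFin _ ⟨r, hr⟩, by simp⟩

end Groth.Agent.EtaleSplit
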