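import Mathlib
import Groth.Agent.EtaleSplit.Weighting
import Groth.Agent.FpqcDesc.Basic

set_option autoImplicit false
set_option backward.isDefEq.respectTransparency false
set_option backward.defeqAttrib.useBackward true
set_option linter.style.haveILetI false

/-!
# Integrals of positive weightings of separated morphisms
-/

open AlgebraicGeometry CategoryTheory Limits MoreMor

open scoped Topology

universe u

namespace Groth.Agent.EtaleSplit

theorem isClosed_of_isFinite {X Y : Scheme.{u}} (f : X ⟶ Y) [IsSeparated f] (V : X.Opens)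
    [IsFinite (V.ι ≫ f)] : IsClosed (V : Set X) := by
  haveI : IsFinite V.ι := IsFinite.of_comp _ f
  simpa using V.ι.isClosedMap.isClosed_range

theorem universallyClosed_of_finite_cover {X Y : Scheme.{u}} (f : X ⟶ Y) {ι : Type*} [Finite ι]
    (V : ι → X.Opens) (hV : ∀ x, ∃ i, x ∈ V i) [∀ i, UniversallyClosed (V i).ι] [∀ i,
    UniversallyClosed ((V i).ι ≫ f)] : UniversallyClosed f := by
  constructor
  intro X' Y' h g f' hc' K hK
  have hc := hc'.flip
  have hK' : f' '' K = ⋃ i, ((h ⁻¹ᵁ V i).ι ≫ f') '' ((h ⁻¹ᵁ V i).ι ⁻¹' K) := by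
    ext y
    simp only [Set.mem_iUnion, Set.mem_image]
    constructor
    · rintro ⟨x, hx, rfl⟩
      obtain ⟨i, hi⟩ := hV (h x)
      exact ⟨i, ⟨x, hi⟩, hx, rfl⟩
    · rintro ⟨i, z, hz, rfl⟩
      exact ⟨_, hz, rfl⟩
  rw [hK']
  refine isClosed_iUnion_of_finite fun i => ?_
  haveI : UniversallyClosed ((h ⁻¹ᵁ V i).ι ≫ f') :=
    MorphismProperty.of_isPullback ((isPullback_morphismRestrict h (V i)).paste_vert hc) inferInstance
  exact ((h ⁻¹ᵁ V i).ι ≫ f').isClosedMap _ (hK.preimage (h ⁻¹ᵁ V i).ι.continuous)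

theorem isFinite_of_finite_cover {X Y : Scheme.{u}} (f : X ⟶ Y) [LocallyQuasiFinite f]
    [LocallyOfFiniteType f] [IsSeparated f] {ι : Type*} [Finite ι] (V : ι → X.Opens)
    (hV : ∀ x, ∃ i, x ∈ V i) [∀ i, IsFinite ((V i).ι ≫ f)] : IsFinite f := by
  haveI : ∀ i, IsFinite (V i).ι := fun i => IsFinite.of_comp _ f
  haveI := universallyClosed_of_finite_cover f V hV
  haveI : IsProper f := ⟨⟩
  exact IsFinite.of_isProper_of_locallyQuasiFinite f

theorem fibreIntegral_mono {X Y : Scheme.{u}} (f : X ⟶ Y) (w w' : X → ℤ) (y : Y)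
    (h : ∀ x, f x = y → w x ≤ w' x) (hw : {x | w x ≠ 0 ∧ f x = y}.Finite)
    (hw' : {x | w' x ≠ 0 ∧ f x = y}.Finite) :
    fibreIntegral f w y ≤ fibreIntegral f w' y := by
  refine finsum_le_finsum' ?_ ?_ fun x =>
    mul_le_mul_of_nonneg_right (h x.1 x.2) (Int.natCast_nonneg _)
  · exact (hw.preimage Subtype.val_injective.injOn).subset fun z hz =>
      ⟨left_ne_zero_of_mul hz, z.2⟩
  · exact (hw'.preimage Subtype.val_injective.injOn).subset fun z hz =>
      ⟨left_ne_zero_of_mul hz, z.2⟩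

theorem fibre_finite_baseChange {X Y T : Scheme.{u}} (f : X ⟶ Y) [LocallyQuasiFinite f]
    (g : T ⟶ Y) (hfin : ∀ y : Y, (f ⁻¹' {y}).Finite) (v : T) :
    {z : ↑(pullback f g) | pullback.snd f g z = v}.Finite :=
  (pullback_fibre_finite (IsPullback.of_hasPullback f g) Set.univ v
    ((hfin (g v)).subset fun _ hx => hx.2)).subset fun _ hz => ⟨trivial, hz⟩

set_option maxHeartbeats 800000 in
/-- Near `y`, after étale localization, a separated `f` splits off finite pieces carrying the whole
integral at `y`. -/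
theorem IsWeighting.exists_split_fibre {X Y : Scheme.{u}} {f : X ⟶ Y} [LocallyQuasiFinite f]
    [LocallyOfFiniteType f] [IsSeparated f] (hfin : ∀ y : Y, (f ⁻¹' {y}).Finite) {w : X → ℤ}
    (hw : IsWeighting f w) (hpos : ∀ x, 0 < w x) (y : Y) :
    ∃ (T : Scheme.{u}) (g : T ⟶ Y) (t : T) (N : T.Opens) (ι : Type u) (_ : Finite ι)
      (V : ι → (pullback f g).Opens),
      Etale g ∧ g t = y ∧ t ∈ N ∧ (∀ i, IsFinite ((V i).ι ≫ pullback.snd f g)) ∧
      ∀ v ∈ N, fibreIntegral f w y ≤ fibreIntegral f w (g v) ∧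
        (fibreIntegral f w (g v) ≤ fibreIntegral f w y →
          ∀ z, pullback.snd f g z = v → ∃ i, z ∈ V i) := by
  classical
  let q := geomPt y
  haveI : Finite (GPts f q) := by
    have h := finite_gpts_over f q Set.univ ((hfin (pt q)).subset fun _ hx => hx.2)
    exact Set.finite_univ_iff.mp (h.subset fun p _ => trivial)
  haveI := Fintype.ofFinite (GPts f q)
  obtain ⟨T, g, qT, hqT, V, _, hV⟩ := exists_split f q (fun i : GPts f q => i) (fun _ => ⊤)
    (fun _ => trivial) (fun _ => f.quasiFiniteAt _)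
  haveI := fun i => (hV i).1
  let W : ↑(pullback f g) → ℤ := fun z => w (pullback.fst f g z)
  have hg : ∀ z, pullback.snd f g z = pt qT → ∃ r : GPts (pullback.snd f g) qT, pt r.1 = z :=
    fun z hz => exists_gpt _ qT z hz
  have hi : ∀ (r : GPts (pullback.snd f g) qT) (i : GPts f q), pt r.1 ∈ V i →
      r.1 ≫ pullback.fst f g = i.1 := fun r i hr => by
    rw [(hV i).2.2.2 r hr, pullback.lift_fst]
  have hc : ∀ i j z, z ∈ V i → z ∈ V j → pullback.snd f g z = pt qT → i = j := by
    intro i j z hzi hzj hz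
    obtain ⟨r, rfl⟩ := hg z hz
    exact Subtype.ext ((hi r i hzi).symm.trans (hi r j hzj))
  have hcov : ∀ z, pullback.snd f g z = pt qT → ∃ i, z ∈ V i := by
    intro z hz
    obtain ⟨r, rfl⟩ := hg z hz
    let i : GPts f q := ⟨r.1 ≫ pullback.fst f g, by
      rw [Category.assoc, pullback.condition, reassoc_of% r.2, hqT]⟩
    refine ⟨i, ?_⟩
    have h := (hV i).2.2.1
    convert h using 2
    apply pullback.hom_ext
    · rw [pullback.lift_fst]
    · rw [pullback.lift_snd, r.2]
  have hdis : ∀ᶠ v in 𝓝 (pt qT), ∀ p : GPts f q × GPts f q, p.1 ≠ p.2 →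
      ∀ z, z ∈ V p.1 → pullback.snd f g z = v → z ∈ (V p.2 : Set ↑(pullback f g))ᶜ := by
    refine Filter.eventually_all.mpr fun p => ?_
    by_cases hp : p.1 = p.2
    · exact Filter.Eventually.of_forall fun v h => absurd hp h
    · filter_upwards [eventually_forall_of_fibre (pullback.snd f g) (V p.1) _
        (isClosed_of_isFinite (pullback.snd f g) (V p.2)).isOpen_compl (pt qT)
        (fun z hz hzt hz2 => hp (hc _ _ z hz hz2 hzt))] with v hv _
      exact hv
  have hconst : ∀ᶠ v in 𝓝 (pt qT), ∀ i, fibreIntegral (pullback.snd f g)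
      ((V i : Set _).indicator W) v =
      fibreIntegral (pullback.snd f g) ((V i : Set _).indicator W) (pt qT) :=
    Filter.eventually_all.mpr fun i =>
      (IsWeighting.isLocallyConstant hw g (V i)).eventually_eq (pt qT)
  have hsum : ∀ v, (∀ p : GPts f q × GPts f q, p.1 ≠ p.2 →
      ∀ z, z ∈ V p.1 → pullback.snd f g z = v → z ∈ (V p.2 : Set ↑(pullback f g))ᶜ) →
      fibreIntegral (pullback.snd f g) ((⋃ i, (V i : Set ↑(pullback f g))).indicator W) v =
        ∑ i, fibreIntegral (pullback.snd f g) ((V i : Set _).indicator W) v := by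
    intro v hv
    refine fibreIntegral_sum _ _ _ _ v (fun i _ => finite_support_indicator _ (V i) W v)
      fun z hz => ?_
    by_cases hzU : z ∈ ⋃ i, (V i : Set ↑(pullback f g))
    · obtain ⟨i, hi⟩ := Set.mem_iUnion.mp hzU
      rw [Finset.sum_eq_single i]
      · rw [Set.indicator_of_mem hzU, Set.indicator_of_mem hi]
      · intro j _ hji
        exact Set.indicator_of_notMem (fun hj => hv (j, i) hji z hj hz hi) _
      · intro h; exact absurd (Finset.mem_univ i) h
    · rw [Set.indicator_of_notMem hzU]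
      exact (Finset.sum_eq_zero fun i _ => Set.indicator_of_notMem
        (fun hi => hzU (Set.mem_iUnion.mpr ⟨i, hi⟩)) _).symm
  have hbc : ∀ v, fibreIntegral (pullback.snd f g) W v = fibreIntegral f w (g v) := fun v =>
    fibreIntegral_baseChange (IsPullback.of_hasPullback f g) w v
      ((hfin (g v)).subset fun _ hx => hx.2)
  have hWfin : ∀ (A : Set ↑(pullback f g)) v,
      {z | A.indicator W z ≠ 0 ∧ pullback.snd f g z = v}.Finite := fun A v =>
    (fibre_finite_baseChange f g hfin v).subset fun _ hz => hz.2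
  have ht : g (pt qT) = y := by rw [← pt_comp, hqT, pt_geomPt]
  have hy : fibreIntegral f w y = fibreIntegral (pullback.snd f g)
      ((⋃ i, (V i : Set ↑(pullback f g))).indicator W) (pt qT) := by
    refine (congrArg (fibreIntegral f w) ht).symm.trans ((hbc _).symm.trans ?_)
    refine finsum_congr fun z => ?_
    rw [Set.indicator_of_mem (Set.mem_iUnion.mpr (hcov z.1 z.2))]
  obtain ⟨N, hN, hNo, htN⟩ := eventually_nhds_iff.mp (hdis.and hconst)
  refine ⟨T, g, pt qT, ⟨N, hNo⟩, GPts f q, inferInstance, V, inferInstance, ht, htN,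
    fun i => (hV i).1, fun v hv => ?_⟩
  obtain ⟨hv1, hv2⟩ := hN v hv
  have heq : fibreIntegral f w y = fibreIntegral (pullback.snd f g)
      ((⋃ i, (V i : Set ↑(pullback f g))).indicator W) v := by
    rw [hy, hsum _ (hN _ htN).1, hsum _ hv1]
    exact Finset.sum_congr rfl fun i _ => (hv2 i).symm
  have hle : fibreIntegral (pullback.snd f g)
      ((⋃ i, (V i : Set ↑(pullback f g))).indicator W) v ≤ fibreIntegral (pullback.snd f g) W v :=
    fibreIntegral_mono _ _ _ v
      (fun z _ => Set.indicator_le_self' (fun a _ => (hpos _).le) z) (hWfin _ v)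
      ((fibre_finite_baseChange f g hfin v).subset fun _ hz => hz.2)
  refine ⟨by rw [heq, ← hbc]; exact hle, fun hge z hz => ?_⟩
  by_contra hzne
  push Not at hzne
  have hlt : fibreIntegral (pullback.snd f g)
      ((⋃ i, (V i : Set ↑(pullback f g))).indicator W) v < fibreIntegral (pullback.snd f g) W v := by
    have hdecomp : fibreIntegral (pullback.snd f g) W v = fibreIntegral (pullback.snd f g)
        ((⋃ i, (V i : Set ↑(pullback f g))).indicator W) v + fibreIntegral (pullback.snd f g)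
        ((⋃ i, (V i : Set ↑(pullback f g)))ᶜ.indicator W) v := by
      have := fibreIntegral_sum (pullback.snd f g) (Finset.univ : Finset Bool) W
        (fun b => bif b then (⋃ i, (V i : Set ↑(pullback f g))).indicator W
          else (⋃ i, (V i : Set ↑(pullback f g)))ᶜ.indicator W) v
        (fun b _ => by cases b <;> exact hWfin _ v)
        (fun x _ => by
          simp only [Fintype.sum_bool, cond_true, cond_false]
          exact (Set.indicator_self_add_compl_apply _ W x).symm)
      simpa using this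
    have h1 := le_fibreIntegral (pullback.snd f g)
      ((⋃ i, (V i : Set ↑(pullback f g)))ᶜ.indicator W) z
      (fun a _ => Set.indicator_nonneg (fun b _ => (hpos _).le) a) (hWfin _ _)
    rw [Set.indicator_of_mem (by simpa using hzne), hz] at h1
    have := hpos (pullback.fst f g z)
    simp only [W] at h1 hdecomp ⊢
    omega
  rw [heq, ← hbc] at hge
  omega

theorem IsWeighting.lowerSemicontinuous {X Y : Scheme.{u}} {f : X ⟶ Y} [LocallyQuasiFinite f]
    [LocallyOfFiniteType f] [IsSeparated f] (hfin : ∀ y : Y, (f ⁻¹' {y}).Finite) {w : X → ℤ}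
    (hw : IsWeighting f w) (hpos : ∀ x, 0 < w x) : LowerSemicontinuous (fibreIntegral f w) := by
  intro y n hn
  obtain ⟨T, g, t, N, ι, _, V, _, ht, htN, _, hN⟩ := IsWeighting.exists_split_fibre hfin hw hpos y
  rw [← ht]
  refine Filter.mem_of_superset (g.isOpenMap.image_mem_nhds (N.2.mem_nhds htN)) ?_
  rintro _ ⟨v, hv, rfl⟩
  exact lt_of_lt_of_le hn (hN v hv).1

set_option maxHeartbeats 800000 in
theorem IsWeighting.finite_over_max {X Y : Scheme.{u}} {f : X ⟶ Y} [LocallyQuasiFinite f]
    [LocallyOfFiniteType f] [IsSeparated f] (hfin : ∀ y : Y, (f ⁻¹' {y}).Finite) {w : X → ℤ}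
    (hw : IsWeighting f w) (hpos : ∀ x, 0 < w x) (d : ℤ) (hmax : ∀ y, fibreIntegral f w y ≤ d) :
    ∃ hYd : IsOpen {y : Y | fibreIntegral f w y = d},
      IsFinite (f ∣_ ⟨{y : Y | fibreIntegral f w y = d}, hYd⟩) := by
  have hopen : IsOpen {y : Y | fibreIntegral f w y = d} := by
    have : {y : Y | fibreIntegral f w y = d} = fibreIntegral f w ⁻¹' Set.Ioi (d - 1) := by
      ext y
      have := hmax y
      simp only [Set.mem_preimage, Set.mem_Ioi]
      show fibreIntegral f w y = d ↔ _
      omega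
    rw [this]
    exact (IsWeighting.lowerSemicontinuous hfin hw hpos).isOpen_preimage _
  refine ⟨hopen, ?_⟩
  let Yd : Y.Opens := ⟨_, hopen⟩
  have key : ∀ y : Yd, ∃ W : Y.Opens, y.1 ∈ W ∧ W ≤ Yd ∧ IsFinite (f ∣_ W) := by
    intro y
    obtain ⟨T, g, t, N₀, ι, _, V, _, ht, htN₀, hVfin, hN₀⟩ := IsWeighting.exists_split_fibre hfin hw hpos y.1
    haveI := hVfin
    let N := N₀ ⊓ g ⁻¹ᵁ Yd
    have htN : t ∈ N := ⟨htN₀, by show g t ∈ Yd; rw [ht]; exact y.2⟩
    haveI : Etale (N.ι ≫ g) := inferInstance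
    let W : Y.Opens := ⟨Set.range (N.ι ≫ g), (N.ι ≫ g).isOpenMap.isOpen_range⟩
    refine ⟨W, ⟨⟨t, htN⟩, ht⟩, ?_, ?_⟩
    · rintro _ ⟨v, rfl⟩
      exact v.2.2
    let k : N.toScheme ⟶ W.toScheme := IsOpenImmersion.lift W.ι (N.ι ≫ g) (by simp [W])
    have hk : k ≫ W.ι = N.ι ≫ g := IsOpenImmersion.lift_fac _ _ _
    haveI : Etale (k ≫ W.ι) := by rw [hk]; infer_instance
    haveI : Etale k := Etale.of_comp k W.ι
    haveI : Surjective k := ⟨fun z => by
      obtain ⟨v, hv⟩ := z.2
      refine ⟨v, W.ι.isOpenEmbedding.injective ?_⟩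
      rw [← Scheme.Hom.comp_apply, hk, hv]
      rfl⟩
    have hbig : IsPullback ((pullback.snd f g ⁻¹ᵁ N).ι ≫ pullback.fst f g)
        (pullback.snd f g ∣_ N) f (N.ι ≫ g) :=
      (isPullback_morphismRestrict (pullback.snd f g) N).flip.paste_horiz
        (IsPullback.of_hasPullback f g)
    rw [← hk] at hbig
    let l : (pullback.snd f g ⁻¹ᵁ N).toScheme ⟶ (f ⁻¹ᵁ W).toScheme :=
      (isPullback_morphismRestrict f W).lift (pullback.snd f g ∣_ N ≫ k)
        ((pullback.snd f g ⁻¹ᵁ N).ι ≫ pullback.fst f g) (by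
          rw [Category.assoc]; exact hbig.w.symm)
    have hl : IsPullback l (pullback.snd f g ∣_ N) (f ∣_ W) k := by
      refine IsPullback.of_right (h₁₂ := (f ⁻¹ᵁ W).ι) (h₂₂ := W.ι) ?_ ?_
        (isPullback_morphismRestrict f W).flip
      · rw [IsPullback.lift_snd]; exact hbig
      · exact IsPullback.lift_fst _ _ _ _
    have hfinN : IsFinite (pullback.snd f g ∣_ N) := by
      haveI := fun i => isFinite_preimage
        (isPullback_morphismRestrict (pullback.snd f g) N).flip (V i)
      refine isFinite_of_finite_cover _ (fun i => (pullback.snd f g ⁻¹ᵁ N).ι ⁻¹ᵁ V i) fun z => ?_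
      have hz : pullback.snd f g z.1 ∈ N := z.2
      obtain ⟨i, hi⟩ := (hN₀ _ hz.1).2 (le_of_le_of_eq (hmax _) y.2.symm) z.1 rfl
      exact ⟨i, hi⟩
    haveI := Groth.Agent.FpqcDesc.isFinite_descends.{u}
    exact MorphismProperty.of_isPullback_of_descendsAlong (P := @IsFinite)
      (Q := @Surjective ⊓ @Flat ⊓ @LocallyOfFinitePresentation) hl.flip
      ⟨⟨inferInstance, inferInstance⟩, inferInstance⟩ hfinN
  choose W hyW hWle hWfin using key
  refine (IsZariskiLocalAtTarget.iff_of_iSup_eq_top (P := @IsFinite)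
    (fun y : Yd => Yd.ι ⁻¹ᵁ W y) ?_).mpr fun y => ?_
  · exact top_le_iff.mp fun z _ => TopologicalSpace.Opens.mem_iSup.mpr ⟨z, hyW z⟩
  · haveI := hWfin y
    refine (MorphismProperty.arrow_mk_iso_iff @IsFinite
      (morphismRestrictRestrict f Yd (Yd.ι ⁻¹ᵁ W y) ≪≫
        morphismRestrictEq f ?_)).mpr ‹_›
    ext z
    constructor
    · rintro ⟨a, ha, rfl⟩; exact ha
    · exact fun hz => ⟨⟨z, hWle y hz⟩, hz, rfl⟩

end Groth.Agent.EtaleSplit
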