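import Mathlib
import Groth.Agent.EtaleSplit.Nbhd
import Groth.Agent.EtaleSplit.Weighting2
import Groth.Agent.FpqcDesc.Basic
/-!
Degrees of the fibres of flat, separated, quasi-finite morphisms.
-/

set_option autoImplicit false
set_option backward.isDefEq.respectTransparency false
set_option backward.defeqAttrib.useBackward true
set_option linter.style.haveILetI false

open AlgebraicGeometry CategoryTheory Limits

universe u

namespace Groth.Agent.EtaleSplit

/-- Over a field a closed subscheme of a finite scheme has smaller degree, with equality only for the whole. -/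
theorem finrank_comp_closedImmersion {K : Type u} [Field K] {Z X : Scheme.{u}} (f : X ⟶ Spec (.of K))
    [IsFinite f] [Flat f] (j : Z ⟶ X) [IsClosedImmersion j] [Flat (j ≫ f)] (s : Spec (CommRingCat.of K)) :
    (j ≫ f).finrank s ≤ f.finrank s ∧ ((j ≫ f).finrank s = f.finrank s → Surjective j) := by
  haveI : IsAffine X := isAffine_of_isAffineHom f
  obtain ⟨φ, hφ⟩ : ∃ φ : CommRingCat.of K ⟶ Γ(X, ⊤), Spec.map φ = X.isoSpec.inv ≫ f :=
    ⟨_, Spec.map_preimage _⟩
  obtain ⟨I, e, hI⟩ := IsClosedImmersion.Spec_iff.mp (inferInstance : IsClosedImmersion (j ≫ X.isoSpec.hom))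
  have hf : f = X.isoSpec.hom ≫ Spec.map φ := by rw [hφ, Iso.hom_inv_id_assoc]
  let π : Γ(X, ⊤) ⟶ .of (Γ(X, ⊤) ⧸ I) := CommRingCat.ofHom (Ideal.Quotient.mk I)
  have hjf : j ≫ f = e.hom ≫ Spec.map (φ ≫ π) := by
    rw [Spec.map_comp, ← Category.assoc, ← hI, Category.assoc, hf]
  have hfin : φ.hom.Finite := by
    rw [← IsFinite.SpecMap_iff, hφ]; infer_instance
  algebraize [φ.hom]
  haveI : Module.Finite K Γ(X, ⊤) := hfin
  haveI : IsFinite (Spec.map φ) := (IsFinite.SpecMap_iff _).mpr hfin
  haveI : Flat (Spec.map φ) := by rw [hφ]; infer_instance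
  haveI : IsFinite (Spec.map (φ ≫ π)) := (IsFinite.SpecMap_iff _).mpr
    ((RingHom.Finite.of_surjective π.hom Ideal.Quotient.mk_surjective).comp hfin)
  haveI : Flat (Spec.map (φ ≫ π)) := by
    have : Spec.map (φ ≫ π) = e.inv ≫ j ≫ f := by rw [hjf, Iso.inv_hom_id_assoc]
    rw [this]; infer_instance
  have h1 : f.finrank s = Module.finrank K Γ(X, ⊤) := by
    rw [hf, Scheme.Hom.finrank_comp_left_of_isIso]
    have := Scheme.Hom.finrank_SpecMap_algebraMap K Γ(X, ⊤) s
    rw [RingHom.algebraMap_toAlgebra] at this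
    exact this.trans (congrFun (Module.rankAtStalk_eq_finrank_of_free) s)
  have h2 : (j ≫ f).finrank s = Module.finrank K (Γ(X, ⊤) ⧸ I) := by
    rw [hjf, Scheme.Hom.finrank_comp_left_of_isIso]
    have := Scheme.Hom.finrank_SpecMap_algebraMap K (Γ(X, ⊤) ⧸ I) s
    exact this.trans (congrFun (Module.rankAtStalk_eq_finrank_of_free) s)
  have h3 := Submodule.finrank_quotient_add_finrank (I.restrictScalars K)
  have h4 : Module.finrank K (Γ(X, ⊤) ⧸ I.restrictScalars K) = Module.finrank K (Γ(X, ⊤) ⧸ I) :=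
    (Submodule.Quotient.restrictScalarsEquiv K I).finrank_eq
  rw [h1, h2]
  refine ⟨by omega, fun heq => ?_⟩
  have hI0 : I = ⊥ := by
    have : I.restrictScalars K = ⊥ := Submodule.finrank_eq_zero.mp (by omega)
    simpa using this
  haveI : IsIso (CommRingCat.ofHom (Ideal.Quotient.mk I)) :=
    (ConcreteCategory.isIso_iff_bijective _).mpr
      ⟨fun a b h => sub_eq_zero.mp (by simpa [hI0] using Ideal.Quotient.eq.mp h), Ideal.Quotient.mk_surjective⟩
  haveI : IsIso (j ≫ X.isoSpec.hom) := by rw [hI]; infer_instance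
  haveI : IsIso j := IsIso.of_isIso_comp_right j X.isoSpec.hom
  infer_instance

/-- All fibres are finite. -/
abbrev FinFib {X Y : Scheme.{u}} (f : X ⟶ Y) : Prop :=
  ∀ y : Y, IsFinite (pullback.snd f (Y.fromSpecResidueField y))

/-- The degree of the fibre over a point. -/
noncomputable def fdeg {X Y : Scheme.{u}} (f : X ⟶ Y) (y : Y) : ℕ :=
  (pullback.snd f (Y.fromSpecResidueField y)).finrank (IsLocalRing.closedPoint (Y.residueField y))

/-- The degree can be computed along any field valued point. -/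
theorem fdeg_of_fieldPoint {X Y P : Scheme.{u}} (f : X ⟶ Y) [Flat f] (hf : FinFib f) {K : Type u} [Field K]
    {q : Spec (.of K) ⟶ Y} {a : P ⟶ X} {b : P ⟶ Spec (.of K)} (sq : IsPullback a b f q) (s : Spec (CommRingCat.of K)) :
    IsFinite b ∧ b.finrank s = fdeg f (pt q) := by
  let y := pt q
  haveI := hf y
  have hq : Spec.map (emb q) ≫ Y.fromSpecResidueField y = q := fromSpec_emb q
  let l : P ⟶ pullback f (Y.fromSpecResidueField y) := pullback.lift a (b ≫ Spec.map (emb q)) (by
    rw [Category.assoc, hq]; exact sq.w)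
  have hl : IsPullback l b (pullback.snd f (Y.fromSpecResidueField y)) (Spec.map (emb q)) := by
    refine IsPullback.of_right ?_ (pullback.lift_snd _ _ _) (IsPullback.of_hasPullback _ _)
    rw [hq, pullback.lift_fst]
    exact sq
  refine ⟨MorphismProperty.of_isPullback (P := @IsFinite) hl (hf y), ?_⟩
  rw [Scheme.Hom.finrank_of_isPullback _ _ _ _ hl s]
  exact congrArg (pullback.snd f (Y.fromSpecResidueField y)).finrank (Subsingleton.elim _ _)

theorem finFib_baseChange {X Y X' Y' : Scheme.{u}} {f : X ⟶ Y} [Flat f] (hf : FinFib f) {f' : X' ⟶ Y'}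
    {h : X' ⟶ X} {g : Y' ⟶ Y} (sq : IsPullback h f' f g) :
    FinFib f' ∧ ∀ y', fdeg f' y' = fdeg f (g y') := by
  have key := fun y' : Y' => fdeg_of_fieldPoint f hf
    (((IsPullback.of_hasPullback f' (Y'.fromSpecResidueField y')).paste_horiz sq)) (IsLocalRing.closedPoint _)
  refine ⟨fun y' => (key y').1, fun y' => (key y').2.trans ?_⟩
  exact congrArg (fdeg f) (congrArg g (Scheme.fromSpecResidueField_apply _ _))

theorem fdeg_eq_finrank {X Y : Scheme.{u}} (f : X ⟶ Y) [Flat f] [IsFinite f] (y : Y) :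
    fdeg f y = f.finrank y := by
  rw [fdeg, Scheme.Hom.finrank_pullback_snd]
  exact congrArg f.finrank (Scheme.fromSpecResidueField_apply _ _)

/-- A finite open part has smaller degree, with equality only if it contains the fibre. -/
theorem finrank_part_le {X Y : Scheme.{u}} (f : X ⟶ Y) [Flat f] [IsSeparated f] (hf : FinFib f) (V : X.Opens)
    [IsFinite (V.ι ≫ f)] (y : Y) :
    (V.ι ≫ f).finrank y ≤ fdeg f y ∧ ((V.ι ≫ f).finrank y = fdeg f y → ∀ x, f x = y → x ∈ V) := by
  haveI := hf y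
  haveI : IsFinite V.ι := IsFinite.of_comp _ f
  haveI : IsClosedImmersion V.ι := .of_isPreimmersion _ V.ι.isClosedMap.isClosed_range
  let p₁ := pullback.fst f (Y.fromSpecResidueField y)
  let p₂ := pullback.snd f (Y.fromSpecResidueField y)
  have sq : IsPullback (pullback.fst V.ι p₁) (pullback.snd V.ι p₁ ≫ p₂) (V.ι ≫ f) (Y.fromSpecResidueField y) :=
    (IsPullback.of_hasPullback V.ι p₁).paste_vert (IsPullback.of_hasPullback f _)
  haveI : Flat (pullback.snd V.ι p₁ ≫ p₂) := MorphismProperty.of_isPullback (P := @Flat) sq inferInstance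
  have h1 := finrank_comp_closedImmersion p₂ (pullback.snd V.ι p₁) (IsLocalRing.closedPoint (Y.residueField y))
  rw [Scheme.Hom.finrank_of_isPullback _ _ _ _ sq, Scheme.fromSpecResidueField_apply] at h1
  refine ⟨h1.1, fun heq x hx => ?_⟩
  haveI := h1.2 heq
  obtain ⟨z, hz, -⟩ := Scheme.Pullback.exists_preimage_pullback x
    (IsLocalRing.closedPoint (Y.residueField y)) (by rw [hx, Scheme.fromSpecResidueField_apply])
  obtain ⟨w, rfl⟩ := (pullback.snd V.ι p₁).surjective z
  have : V.ι (pullback.fst V.ι p₁ w) = p₁ (pullback.snd V.ι p₁ w) := by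
    rw [← Scheme.Hom.comp_apply, pullback.condition, Scheme.Hom.comp_apply]
  exact hz ▸ this ▸ (pullback.fst V.ι p₁ w).2

/-- Points over an etale neighbourhood without residue extension are determined by their image. -/
theorem fst_injOn_fibre {X Y U : Scheme.{u}} (f : X ⟶ Y) (g : U ⟶ Y) (t : U)
    (ht : Function.Bijective (g.residueFieldMap t)) :
    Set.InjOn (pullback.fst f g) (pullback.snd f g ⁻¹' {t}) := by
  intro w hw w' hw' e
  haveI : IsIso (g.residueFieldMap t) := (ConcreteCategory.isIso_iff_bijective _).mpr ht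
  let q := U.fromSpecResidueField t ≫ g
  have sq1 := (IsPullback.of_hasPullback (pullback.snd f g) (U.fromSpecResidueField t)).paste_horiz
    (IsPullback.of_hasPullback f g)
  have sq : IsPullback (pullback.fst (pullback.snd f g) (U.fromSpecResidueField t) ≫ pullback.fst f g)
      (pullback.snd (pullback.snd f g) (U.fromSpecResidueField t) ≫ Spec.map (g.residueFieldMap t)) f
      (Y.fromSpecResidueField (g t)) := by
    refine IsPullback.of_iso sq1 (Iso.refl _) (Iso.refl _) (asIso (Spec.map (g.residueFieldMap t))) (Iso.refl _)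
      (by simp) (by simp) (by simp) ?_
    simp
  have hinj : Function.Injective ⇑(pullback.fst (pullback.snd f g) (U.fromSpecResidueField t) ≫ pullback.fst f g) := by
    rw [← sq.isoPullback_hom_fst, Scheme.Hom.comp_base, TopCat.coe_comp]
    exact (pullback.fst f (Y.fromSpecResidueField (g t))).isEmbedding.injective.comp
      sq.isoPullback.hom.homeomorph.injective
  obtain ⟨z, rfl, -⟩ := Scheme.Pullback.exists_preimage_pullback (f := pullback.snd f g)
    (g := U.fromSpecResidueField t) w (IsLocalRing.closedPoint (U.residueField t))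
    (by rw [Scheme.fromSpecResidueField_apply]; exact hw)
  obtain ⟨z', rfl, -⟩ := Scheme.Pullback.exists_preimage_pullback (f := pullback.snd f g)
    (g := U.fromSpecResidueField t) w' (IsLocalRing.closedPoint (U.residueField t))
    (by rw [Scheme.fromSpecResidueField_apply]; exact hw')
  rw [hinj (a₁ := z) (a₂ := z') (by rw [Scheme.Hom.comp_apply, Scheme.Hom.comp_apply]; exact e)]

/-- The degree is lower semicontinuous, and where it is constant the morphism is finite after etale localization. -/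
theorem exists_nbhd_deg {X Y : Scheme.{u}} (f : X ⟶ Y) [Flat f] [IsSeparated f] [LocallyOfFinitePresentation f]
    [LocallyQuasiFinite f] (hf : FinFib f) (y : Y) :
    ∃ (U : Scheme.{u}) (g : U ⟶ Y), Etale g ∧ y ∈ Set.range g ∧ (∀ u, fdeg f y ≤ fdeg f (g u)) ∧
      ((∀ u, fdeg f (g u) = fdeg f y) → IsFinite (pullback.snd f g)) := by
  haveI := hf y
  let F := (f ⁻¹' {y} : Set X)
  have hF : F.Finite := by
    haveI : Finite ↥(pullback f (Y.fromSpecResidueField y)) := Set.finite_univ_iff.mp (by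
      simpa using (pullback.snd f (Y.fromSpecResidueField y)).finite_preimage (Set.toFinite Set.univ))
    refine (Set.finite_range (pullback.fst f (Y.fromSpecResidueField y))).subset fun x hx => ?_
    obtain ⟨z, hz, -⟩ := Scheme.Pullback.exists_preimage_pullback (f := f) (g := Y.fromSpecResidueField y) x
      (IsLocalRing.closedPoint (Y.residueField y)) (by rw [Scheme.fromSpecResidueField_apply]; exact hx)
    exact ⟨z, hz⟩
  haveI := hF.fintype
  let x : Fin (Fintype.card ↥F) → X := fun i => ((Fintype.equivFin ↥F).symm i).1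
  obtain ⟨U, g, t, ⟨hg, ht, hbij⟩, V, v, hv⟩ := exists_nbhd_finite_parts f y x
    (fun i => ((Fintype.equivFin ↥F).symm i).2) (fun i => f.quasiFiniteAt _)
  haveI := hg
  let f' := pullback.snd f g
  obtain ⟨hf', hdeg⟩ := finFib_baseChange hf (IsPullback.of_hasPullback f g)
  let V₀ : (pullback f g).Opens := ⨆ i, V i
  have hall : ∀ w, f' w = t → w ∈ V₀ := fun w hw => by
    have hwF : pullback.fst f g w ∈ F := by
      show f _ = y
      rw [← Scheme.Hom.comp_apply, pullback.condition, Scheme.Hom.comp_apply, hw, ht]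
    obtain ⟨h1, -, h3, -, h5, -⟩ := hv (Fintype.equivFin ↥F ⟨_, hwF⟩)
    have : w = v (Fintype.equivFin ↥F ⟨_, hwF⟩) := fst_injOn_fibre f g t hbij hw h3 (by
      rw [h5]; simp [x])
    exact this ▸ TopologicalSpace.Opens.mem_iSup.2 ⟨_, h1⟩
  haveI : IsFinite (V₀.ι ≫ f') := by
    haveI : ∀ i, IsFinite ((V₀.ι ⁻¹ᵁ V i).ι ≫ V₀.ι ≫ f') := fun i => by
      haveI := (hv i).2.1
      have hle : V i ≤ V₀ := le_iSup V i
      let e : (V₀.ι ⁻¹ᵁ V i).toScheme ⟶ (V i).toScheme := IsOpenImmersion.lift (V i).ι ((V₀.ι ⁻¹ᵁ V i).ι ≫ V₀.ι)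
        (by rw [Scheme.Opens.range_ι]; rintro _ ⟨z, rfl⟩; exact z.2)
      haveI : IsIso e := by
        haveI : IsOpenImmersion (e ≫ (V i).ι) := by rw [IsOpenImmersion.lift_fac]; infer_instance
        haveI : IsOpenImmersion e := IsOpenImmersion.of_comp e (V i).ι
        haveI : Surjective e := ⟨fun z => ⟨⟨⟨z.1, hle z.2⟩, z.2⟩, (V i).ι.isOpenEmbedding.injective (by
          rw [← Scheme.Hom.comp_apply, IsOpenImmersion.lift_fac]; rfl)⟩⟩
        haveI : Epi e.base := (TopCat.epi_iff_surjective _).2 e.surjective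
        exact IsOpenImmersion.isIso _
      have he : e ≫ (V i).ι = (V₀.ι ⁻¹ᵁ V i).ι ≫ V₀.ι := IsOpenImmersion.lift_fac _ _ _
      rw [← Category.assoc, ← he, Category.assoc]
      haveI : IsFinite ((V i).ι ≫ f') := (hv i).2.1
      infer_instance
    exact isFinite_of_finite_cover _ (fun i => V₀.ι ⁻¹ᵁ V i) fun z => by
      obtain ⟨i, hi⟩ := TopologicalSpace.Opens.mem_iSup.1 z.2
      exact ⟨i, hi⟩
  have hrt : (V₀.ι ≫ f').finrank t = fdeg f y := by
    haveI : IsFinite V₀.ι := IsFinite.of_comp _ f'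
    haveI := hf' t
    let p₁ := pullback.fst f' (U.fromSpecResidueField t)
    haveI : Surjective (pullback.snd V₀.ι p₁) := ⟨fun z => by
      have hz : p₁ z ∈ V₀ := hall _ (by
        rw [← Scheme.Hom.comp_apply, pullback.condition, Scheme.Hom.comp_apply]
        exact (congrArg _ (Subsingleton.elim _ _)).trans (Scheme.fromSpecResidueField_apply _ (IsLocalRing.closedPoint _)))
      obtain ⟨w, -, hw⟩ := Scheme.Pullback.exists_preimage_pullback (f := V₀.ι) (g := p₁) ⟨p₁ z, hz⟩ z rfl
      exact ⟨w, hw⟩⟩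
    haveI : Epi (pullback.snd V₀.ι p₁).base := (TopCat.epi_iff_surjective _).2 (pullback.snd V₀.ι p₁).surjective
    haveI : IsIso (pullback.snd V₀.ι p₁) := IsOpenImmersion.isIso _
    have sq := (IsPullback.of_hasPullback V₀.ι p₁).paste_vert (IsPullback.of_hasPullback f' (U.fromSpecResidueField t))
    have h := Scheme.Hom.finrank_of_isPullback _ _ _ _ sq (IsLocalRing.closedPoint (U.residueField t))
    rw [Scheme.fromSpecResidueField_apply, Scheme.Hom.finrank_comp_left_of_isIso] at h
    rw [← h, ← ht, ← hdeg t]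
    rfl
  let O : U.Opens := ⟨{u | (V₀.ι ≫ f').finrank u = fdeg f y},
    (Scheme.Hom.isLocallyConstant_finrank (V₀.ι ≫ f')) {fdeg f y}⟩
  have hle : ∀ u : O, fdeg f y ≤ fdeg f (g u.1) := fun u => by
    rw [← hdeg, ← u.2]; exact (finrank_part_le f' hf' V₀ u.1).1
  refine ⟨O, O.ι ≫ g, inferInstance, ⟨⟨t, hrt⟩, ht⟩, hle, fun hconst => ?_⟩
  haveI : IsFinite (f' ∣_ O) := by
    haveI : IsFinite (((f' ⁻¹ᵁ O).ι ⁻¹ᵁ V₀).ι ≫ f' ∣_ O) :=
      isFinite_preimage (isPullback_morphismRestrict f' O).flip V₀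
    refine isFinite_of_finite_cover _ (fun _ : Unit => (f' ⁻¹ᵁ O).ι ⁻¹ᵁ V₀) fun z => ⟨(), ?_⟩
    refine (finrank_part_le f' hf' V₀ (f' z.1)).2 ?_ z.1 rfl
    rw [hdeg]
    exact (show _ = fdeg f y from z.2).trans (hconst ⟨_, z.2⟩).symm
  have sq := ((isPullback_morphismRestrict f' O).flip.paste_horiz (IsPullback.of_hasPullback f g))
  rw [← sq.isoPullback_inv_snd]
  infer_instance

/-- The locus of bounded degree is closed. -/
theorem isClosed_fdeg_le {X Y : Scheme.{u}} (f : X ⟶ Y) [Flat f] [IsSeparated f] [LocallyOfFinitePresentation f]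
    [LocallyQuasiFinite f] (hf : FinFib f) (r : ℕ) : IsClosed {y | fdeg f y < r} := by
  rw [← isOpen_compl_iff, isOpen_iff_forall_mem_open]
  intro y hy
  obtain ⟨U, g, hg, hyg, hle, -⟩ := exists_nbhd_deg f hf y
  haveI := hg
  refine ⟨Set.range g, ?_, g.isOpenMap.isOpen_range, hyg⟩
  rintro _ ⟨u, rfl⟩ h
  exact hy (lt_of_le_of_lt (hle u) h)

/-- Constant degree implies finite. -/
theorem isFinite_of_fdeg_eq {X Y : Scheme.{u}} (f : X ⟶ Y) [Flat f] [IsSeparated f] [LocallyOfFinitePresentation f]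
    [LocallyQuasiFinite f] (hf : FinFib f) (r : ℕ) (hr : ∀ y, fdeg f y = r) : IsFinite f := by
  have key : ∀ y : Y, ∃ W : Y.Opens, y ∈ W ∧ IsFinite (f ∣_ W) := fun y => by
    obtain ⟨U, g, hg, hyg, -, hfin⟩ := exists_nbhd_deg f hf y
    haveI := hg
    let W : Y.Opens := ⟨Set.range g, g.isOpenMap.isOpen_range⟩
    refine ⟨W, hyg, ?_⟩
    let k : U ⟶ W.toScheme := IsOpenImmersion.lift W.ι g (by simp [W])
    have hk : k ≫ W.ι = g := IsOpenImmersion.lift_fac _ _ _
    haveI : Etale (k ≫ W.ι) := by rw [hk]; infer_instance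
    haveI : Etale k := Etale.of_comp k W.ι
    haveI : Surjective k := ⟨fun z => by
      obtain ⟨v, hv⟩ := z.2
      refine ⟨v, W.ι.isOpenEmbedding.injective ?_⟩
      rw [← Scheme.Hom.comp_apply, hk, hv]
      rfl⟩
    let l : pullback f g ⟶ (f ⁻¹ᵁ W).toScheme := (isPullback_morphismRestrict f W).lift
      (pullback.snd f g ≫ k) (pullback.fst f g) (by rw [Category.assoc, hk, pullback.condition])
    have hl : IsPullback l (pullback.snd f g) (f ∣_ W) k := by
      refine IsPullback.of_right (h₁₂ := (f ⁻¹ᵁ W).ι) (h₂₂ := W.ι) ?_ ?_ (isPullback_morphismRestrict f W).flip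
      · rw [IsPullback.lift_snd, hk]; exact IsPullback.of_hasPullback f g
      · exact IsPullback.lift_fst _ _ _ _
    haveI := Groth.Agent.FpqcDesc.isFinite_descends.{u}
    exact MorphismProperty.of_isPullback_of_descendsAlong (P := @IsFinite)
      (Q := @Surjective ⊓ @Flat ⊓ @LocallyOfFinitePresentation) hl.flip
      ⟨⟨inferInstance, inferInstance⟩, inferInstance⟩ (hfin fun u => by rw [hr, hr])
  choose W hyW hW using key
  exact (IsZariskiLocalAtTarget.iff_of_iSup_eq_top (P := @IsFinite) W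
    (top_le_iff.mp fun y _ => TopologicalSpace.Opens.mem_iSup.mpr ⟨y, hyW y⟩)).mpr hW

end Groth.Agent.EtaleSplit
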