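import Mathlib
import Groth.Agent.EtaleSplit.DegStrat
import Groth.Agent.Unibranch.Open
/-!
An etale equivalence relation on a generically finite scheme is finite over an open neighbourhood.
-/

set_option autoImplicit false
set_option backward.isDefEq.respectTransparency false
set_option backward.defeqAttrib.useBackward true
set_option linter.style.haveILetI false

open AlgebraicGeometry CategoryTheory Limits

universe u

namespace Groth.Agent.EtaleSplit

theorem isFinite_snd_of_le {X Y : Scheme.{u}} (f : X ⟶ Y) {W W' : Y.Opens} (h : W' ≤ W) [IsFinite (f ∣_ W)] :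
    IsFinite (pullback.snd f W'.ι) := by
  have sq := isPullback_morphismRestrict f W
  have h' := IsPullback.of_hasPullback f W'.ι
  have hj : Y.homOfLE h ≫ W.ι = W'.ι := Scheme.homOfLE_ι _ _
  let l : pullback f W'.ι ⟶ (f ⁻¹ᵁ W).toScheme := sq.lift (pullback.snd f W'.ι ≫ Y.homOfLE h) (pullback.fst f W'.ι)
    (by rw [Category.assoc, hj, pullback.condition])
  have hl : IsPullback l (pullback.snd f W'.ι) (f ∣_ W) (Y.homOfLE h) := by
    refine IsPullback.of_right (h₁₂ := (f ⁻¹ᵁ W).ι) (h₂₂ := W.ι) ?_ (sq.lift_fst _ _ _) sq.flip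
    rw [sq.lift_snd, hj]
    exact h'
  exact MorphismProperty.of_isPullback (P := @IsFinite) hl ‹_›

/-- Let `π` be finite over `T₁ ∋ v`, all points of the source generalise to the fibre of `v`, whose points have no
proper generalisation. A relation etale and separated over the source is finite over a neighbourhood of `v`. -/
theorem exists_finite_nbhd {A T R : Scheme.{u}} (π : A ⟶ T) (t s : R ⟶ A) [Etale s] [IsSeparated s]
    (hts : t ≫ π = s ≫ π) (hmono : Mono (pullback.lift t s hts)) (T₁ : T.Opens) [IsFinite (π ∣_ T₁)] (v : T)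
    (hv : v ∈ T₁) (hmin : ∀ a, π a = v → ∀ w, w ⤳ a → w = a) (hgen : ∀ a, ∃ η, η ⤳ a ∧ π η = v) :
    ∃ W : T.Opens, IsAffineOpen W ∧ v ∈ W ∧ W ≤ T₁ ∧ IsFinite (pullback.snd π W.ι) ∧
      IsFinite (pullback.snd (s ≫ π) W.ι) := by
  let U₁ : A.Opens := π ⁻¹ᵁ T₁
  let s₁ := s ∣_ U₁
  haveI : IsSeparated s₁ := IsZariskiLocalAtTarget.restrict ‹IsSeparated s› U₁
  haveI : Etale s₁ := IsZariskiLocalAtTarget.restrict ‹Etale s› U₁
  haveI : LocallyQuasiFinite s₁ := Groth.Agent.Unibranch.locallyQuasiFinite_of_etale _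
  have hff : FinFib s₁ := by
    intro a
    let fa := U₁.toScheme.fromSpecResidueField a ≫ U₁.ι
    let Pr := pullback s₁ (U₁.toScheme.fromSpecResidueField a)
    have sqs : IsPullback (pullback.fst s₁ (U₁.toScheme.fromSpecResidueField a) ≫ (s ⁻¹ᵁ U₁).ι)
        (pullback.snd s₁ (U₁.toScheme.fromSpecResidueField a)) s fa :=
      (IsPullback.of_hasPullback _ _).paste_horiz (isPullback_morphismRestrict s U₁).flip
    let M := pullback π (fa ≫ π)
    have hr : Set.range (fa ≫ π) ⊆ Set.range T₁.ι := by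
      rintro _ ⟨z, rfl⟩
      rw [Scheme.Opens.range_ι, Scheme.Hom.comp_apply, Scheme.Hom.comp_apply]
      exact (U₁.toScheme.fromSpecResidueField a z).2
    have hM : IsFinite (pullback.snd π (fa ≫ π)) := by
      rw [← IsOpenImmersion.lift_fac T₁.ι (fa ≫ π) hr]
      let g := IsOpenImmersion.lift T₁.ι (fa ≫ π) hr
      have sq := isPullback_morphismRestrict π T₁
      have h' := IsPullback.of_hasPullback π (g ≫ T₁.ι)
      let l := sq.lift (pullback.snd π (g ≫ T₁.ι) ≫ g) (pullback.fst π (g ≫ T₁.ι))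
        (by rw [Category.assoc, pullback.condition])
      have hl : IsPullback l (pullback.snd π (g ≫ T₁.ι)) (π ∣_ T₁) g := by
        refine IsPullback.of_right (h₁₂ := U₁.ι) (h₂₂ := T₁.ι) ?_ (sq.lift_fst _ _ _) sq.flip
        rw [sq.lift_snd]
        exact h'
      exact MorphismProperty.of_isPullback (P := @IsFinite) hl ‹_›
    let j : Pr ⟶ M := pullback.lift ((pullback.fst s₁ (U₁.toScheme.fromSpecResidueField a) ≫ (s ⁻¹ᵁ U₁).ι) ≫ t)
      (pullback.snd s₁ (U₁.toScheme.fromSpecResidueField a)) (by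
        rw [Category.assoc, hts, ← Category.assoc, sqs.w, Category.assoc])
    haveI : Mono j := ⟨fun x y e => by
      have e1 := congrArg (· ≫ pullback.fst _ _) e
      have e2 := congrArg (· ≫ pullback.snd _ _) e
      simp only [j, Category.assoc, pullback.lift_fst, pullback.lift_snd] at e1 e2
      refine sqs.hom_ext ?_ e2
      haveI := hmono
      refine (cancel_mono (pullback.lift t s hts)).1 (pullback.hom_ext ?_ ?_)
      · simpa only [Category.assoc, pullback.lift_fst] using e1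
      · simp only [Category.assoc, pullback.lift_snd]
        rw [← Category.assoc _ _ s, sqs.w, reassoc_of% e2]⟩
    haveI := hM
    haveI : Finite ↥M := Set.finite_univ_iff.mp (by
      simpa using (pullback.snd π (fa ≫ π)).finite_preimage (Set.toFinite Set.univ))
    haveI : Finite ↥Pr := Finite.of_injective j j.injective
    haveI : CompactSpace ↥Pr := inferInstance
    haveI : LocallyQuasiFinite (pullback.snd s₁ (U₁.toScheme.fromSpecResidueField a)) := inferInstance
    haveI : QuasiCompact (pullback.snd s₁ (U₁.toScheme.fromSpecResidueField a)) := quasiCompact_of_compactSpace _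
    exact IsFinite.of_locallyQuasiFinite _
  haveI hfv : Finite {a : U₁.toScheme // π a.1 = v} := by
    have := ((π ∣_ T₁).finite_preimage_singleton ⟨v, hv⟩)
    refine Set.Finite.to_subtype (this.subset fun a ha => ?_)
    refine T₁.ι.isOpenEmbedding.injective ?_
    rw [← Scheme.Hom.comp_apply, morphismRestrict_ι]
    exact ha
  let other : {a : U₁.toScheme // π a.1 = v} → Set U₁.toScheme := fun η => ⋃ η' ∈ {η' | η' ≠ η}, closure {η'.1}
  let O : {a : U₁.toScheme // π a.1 = v} → U₁.toScheme.Opens := fun η =>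
    ⟨{a | ¬ fdeg s₁ a < fdeg s₁ η.1} ∩ (other η)ᶜ,
      (isClosed_fdeg_le s₁ hff _).isOpen_compl.inter
        ((Set.toFinite _).isClosed_biUnion fun _ _ => isClosed_closure).isOpen_compl⟩
  have hgen₁ : ∀ a : U₁.toScheme, ∃ η : {a : U₁.toScheme // π a.1 = v}, η.1 ⤳ a := fun a => by
    obtain ⟨η, hη, hηv⟩ := hgen a.1
    refine ⟨⟨⟨η, show π η ∈ T₁ by rw [hηv]; exact hv⟩, hηv⟩, ?_⟩
    exact (U₁.ι.isEmbedding.isInducing.specializes_iff).1 hη
  have hηO : ∀ η, η.1 ∈ O η := fun η => ⟨lt_irrefl _, fun h => by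
    obtain ⟨η', hne, hη'⟩ := Set.mem_iUnion₂.1 h
    refine hne (Subtype.ext (Subtype.ext ?_))
    exact hmin η.1.1 η.2 η'.1.1 ((U₁.ι.isEmbedding.isInducing.specializes_iff).2 (specializes_iff_mem_closure.2 hη'))⟩
  have hdeg : ∀ η, ∀ a ∈ O η, fdeg s₁ a = fdeg s₁ η.1 := fun η a ha => by
    refine le_antisymm (not_lt.1 fun hlt => ?_) (not_lt.1 ha.1)
    obtain ⟨η', hη'⟩ := hgen₁ a
    have heq : η' = η := by
      by_contra hne
      exact ha.2 (Set.mem_iUnion₂.2 ⟨η', hne, hη'.mem_closure⟩)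
    subst heq
    exact (hη'.mem_open (isClosed_fdeg_le s₁ hff _).isOpen_compl (lt_irrefl (fdeg s₁ a))) hlt
  let O₀ : U₁.toScheme.Opens := ⨆ η, O η
  have hfin₀ : IsFinite (s₁ ∣_ O₀) := by
    have hO : ∀ η, IsFinite (s₁ ∣_ O η) := fun η => by
      haveI : IsSeparated (s₁ ∣_ O η) := IsZariskiLocalAtTarget.restrict ‹IsSeparated s₁› _
      haveI : Etale (s₁ ∣_ O η) := IsZariskiLocalAtTarget.restrict ‹Etale s₁› _
      haveI : LocallyQuasiFinite (s₁ ∣_ O η) := Groth.Agent.Unibranch.locallyQuasiFinite_of_etale _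
      obtain ⟨h1, h2⟩ := finFib_baseChange hff (isPullback_morphismRestrict s₁ (O η)).flip
      exact isFinite_of_fdeg_eq _ h1 (fdeg s₁ η.1) fun a => (h2 a).trans (hdeg η _ a.2)
    refine (IsZariskiLocalAtTarget.iff_of_iSup_eq_top (P := @IsFinite) (fun η => O₀.ι ⁻¹ᵁ O η)
      (top_le_iff.mp fun a _ => ?_)).mpr fun η => ?_
    · obtain ⟨η, hη⟩ := TopologicalSpace.Opens.mem_iSup.1 a.2
      exact TopologicalSpace.Opens.mem_iSup.2 ⟨η, hη⟩
    · refine (MorphismProperty.arrow_mk_iso_iff @IsFinite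
        (morphismRestrictRestrict s₁ O₀ (O₀.ι ⁻¹ᵁ O η) ≪≫ morphismRestrictEq s₁ ?_)).mpr (hO η)
      ext z
      exact ⟨fun ⟨w, hw, e⟩ => e ▸ hw, fun hz => ⟨⟨z, le_iSup O η hz⟩, hz, rfl⟩⟩
  haveI : IsFinite (π ∣_ T₁) := ‹_›
  have hclosed : IsClosed ((π ∣_ T₁) '' (O₀ : Set U₁.toScheme)ᶜ) :=
    (π ∣_ T₁).isClosedMap _ O₀.2.isClosed_compl
  let W₀ : T.Opens := T₁.ι ''ᵁ ⟨((π ∣_ T₁) '' (O₀ : Set U₁.toScheme)ᶜ)ᶜ, hclosed.isOpen_compl⟩
  have hvW : v ∈ W₀ := by
    refine ⟨⟨v, hv⟩, ?_, rfl⟩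
    rintro ⟨a, ha, hav⟩
    have : π a.1 = v := by
      have := congrArg T₁.ι hav
      rwa [← Scheme.Hom.comp_apply, morphismRestrict_ι] at this
    exact ha (TopologicalSpace.Opens.mem_iSup.2 ⟨⟨a, this⟩, hηO ⟨a, this⟩⟩)
  obtain ⟨W, hW, hvW', hle⟩ := exists_isAffineOpen_mem_and_subset (x := v) hvW
  have hle₁ : W ≤ T₁ := fun z hz => by
    obtain ⟨z', -, rfl⟩ := hle hz
    exact z'.2
  have hsub : π ⁻¹ᵁ W ≤ U₁.ι ''ᵁ O₀ := fun a ha => by
    refine ⟨⟨a, hle₁ ha⟩, ?_, rfl⟩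
    by_contra hne
    obtain ⟨z', hz', e⟩ := hle ha
    refine hz' ⟨⟨a, hle₁ ha⟩, hne, T₁.ι.isOpenEmbedding.injective ?_⟩
    rw [← Scheme.Hom.comp_apply, morphismRestrict_ι]
    exact e.symm
  haveI := isFinite_snd_of_le π hle₁
  refine ⟨W, hW, hvW', hle₁, inferInstance, ?_⟩
  haveI : IsFinite (s ∣_ (U₁.ι ''ᵁ O₀)) :=
    (MorphismProperty.arrow_mk_iso_iff @IsFinite (morphismRestrictRestrict s U₁ O₀)).mp hfin₀
  haveI := isFinite_snd_of_le s hsub
  have sqW := isPullback_morphismRestrict π W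
  haveI : IsFinite (π ∣_ W) := by
    rw [← sqW.flip.isoPullback_hom_snd]; infer_instance
  have sq2 := (IsPullback.of_hasPullback s (π ⁻¹ᵁ W).ι).paste_vert sqW.flip
  rw [← sq2.isoPullback_inv_snd]
  infer_instance

end Groth.Agent.EtaleSplit
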