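import Mathlib

set_option autoImplicit false
set_option backward.isDefEq.respectTransparency false
set_option backward.defeqAttrib.useBackward true
set_option linter.style.haveILetI false

/-!
# Finite algebras radicial over a prime are radicial over a constructible neighbourhood
-/

universe u

namespace Groth.Agent.EtaleSplit

variable {R B : Type u} [CommRing R] [CommRing B] [Algebra R B]

theorem exists_mul_pow_mem_map (p : Ideal R) [p.IsPrime] (x : B)
    (h : ∀ q : Ideal B, q.IsPrime → q.comap (algebraMap R B) = p → x ∈ q) :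
    ∃ (N : ℕ) (s : R), s ∉ p ∧ algebraMap R B s * x ^ N ∈ p.map (algebraMap R B) := by
  by_contra! hne
  let S : Submonoid B := (p.primeCompl.map (algebraMap R B : R →* B)) ⊔ Submonoid.powers x
  have hS : Disjoint ((p.map (algebraMap R B) : Ideal B) : Set B) S := by
    rw [Set.disjoint_right]
    intro z hz
    obtain ⟨a, ⟨s, hs, rfl⟩, _, ⟨N, rfl⟩, rfl⟩ := Submonoid.mem_sup.mp hz
    exact hne N s hs
  obtain ⟨q, hq, hpq, hqS⟩ := Ideal.exists_le_prime_disjoint _ S hS
  have hcomap : q.comap (algebraMap R B) = p := by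
    refine le_antisymm (fun a ha => ?_) fun a ha => hpq (Ideal.mem_map_of_mem _ ha)
    by_contra hap
    exact Set.disjoint_left.mp hqS ha (Submonoid.mem_sup_left ⟨a, hap, rfl⟩)
  exact Set.disjoint_left.mp hqS (h q hq hcomap)
    (Submonoid.mem_sup_right (Submonoid.mem_powers x))

/-- The kernel points of a finite algebra over a prime are seen by a single algebraically closed
field. -/
theorem exists_hom_ker [Module.Finite R B] (p : Ideal R) [p.IsPrime] (q : Ideal B) [q.IsPrime]
    (hq : q.comap (algebraMap R B) = p) :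
    ∃ σ : B →ₐ[R] AlgebraicClosure p.ResidueField, RingHom.ker σ.toRingHom = q := by
  haveI : q.LiesOver p := ⟨hq.symm⟩
  letI := Localization.AtPrime.algebraOfLiesOver p q
  haveI : Module.Finite p.ResidueField q.ResidueField := inferInstance
  let e : q.ResidueField →ₐ[p.ResidueField] AlgebraicClosure p.ResidueField := IsAlgClosed.lift
  refine ⟨(e.restrictScalars R).comp (IsScalarTower.toAlgHom R B q.ResidueField), ?_⟩
  ext b
  show e (algebraMap B q.ResidueField b) = 0 ↔ b ∈ q
  exact (map_eq_zero_iff _ (RingHom.injective e.toRingHom)).trans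
    Ideal.algebraMap_residueField_eq_zero

open Classical in
theorem exists_pow_eq_on_fibre [Module.Finite R B] (p : Ideal R) [p.IsPrime]
    (huniq : Subsingleton (B →ₐ[R] AlgebraicClosure p.ResidueField)) (b : B) :
    ∃ (n : ℕ) (r s : R), s ∉ p ∧ ∀ q : Ideal B, q.IsPrime → q.comap (algebraMap R B) = p →
      algebraMap R B s * b ^ (ringExpChar p.ResidueField) ^ n - algebraMap R B r ∈ q := by
  let κ := p.ResidueField
  let Ω := AlgebraicClosure κ
  by_cases hne : Nonempty (B →ₐ[R] Ω)
  swap
  · refine ⟨0, 0, 1, fun h => (Ideal.IsPrime.ne_top ‹_›) ((Ideal.eq_top_iff_one _).mpr h),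
      fun q hq hqp => (hne ?_).elim⟩
    haveI := hq
    exact ⟨(exists_hom_ker p q hqp).choose⟩
  obtain ⟨σ⟩ := hne
  have hα : ∀ g : Ω ≃ₐ[κ] Ω, g (σ b) = σ b := fun g =>
    AlgHom.congr_fun (Subsingleton.elim ((g.toAlgHom.restrictScalars R).comp σ) σ) b
  have hsep : (minpoly κ (σ b)).natSepDegree = 1 := by
    rw [Polynomial.natSepDegree_eq_of_isAlgClosed Ω]
    refine Finset.card_eq_one.mpr ⟨σ b, ?_⟩
    ext y
    simp only [Multiset.mem_toFinset, Finset.mem_singleton, Polynomial.mem_aroots]
    constructor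
    · rintro ⟨-, hy⟩
      have hmin : minpoly κ (σ b) = minpoly κ y :=
        minpoly.eq_of_irreducible_of_monic (minpoly.irreducible (Algebra.IsIntegral.isIntegral _))
          hy (minpoly.monic (Algebra.IsIntegral.isIntegral _))
      obtain ⟨g, hg⟩ := (Normal.minpoly_eq_iff_mem_orbit Ω).mp hmin.symm
      rw [← hg]
      exact hα g
    · rintro rfl
      exact ⟨minpoly.ne_zero (Algebra.IsIntegral.isIntegral _), minpoly.aeval _ _⟩
  obtain ⟨n, c, hc⟩ :=
    (minpoly.natSepDegree_eq_one_iff_pow_mem (ringExpChar κ)).mp hsep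
  obtain ⟨r, s, hs, hrs⟩ : ∃ (r s : R), s ∉ p ∧ algebraMap R κ s * c = algebraMap R κ r := by
    obtain ⟨a, t, ht, hat⟩ := IsFractionRing.div_surjective (A := R ⧸ p) c
    obtain ⟨r, rfl⟩ := Ideal.Quotient.mk_surjective a
    obtain ⟨s, rfl⟩ := Ideal.Quotient.mk_surjective t
    refine ⟨r, s, fun hsp => nonZeroDivisors.ne_zero ht (Ideal.Quotient.eq_zero_iff_mem.mpr hsp), ?_⟩
    have hne : algebraMap (R ⧸ p) κ (Ideal.Quotient.mk p s) ≠ 0 :=
      IsFractionRing.to_map_ne_zero_of_mem_nonZeroDivisors ht
    rw [IsScalarTower.algebraMap_apply R (R ⧸ p) κ, IsScalarTower.algebraMap_apply R (R ⧸ p) κ,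
      ← hat]
    exact mul_div_cancel₀ _ hne
  refine ⟨n, r, s, hs, fun q hq hqp => ?_⟩
  haveI := hq
  obtain ⟨τ, hτ⟩ := exists_hom_ker p q hqp
  rw [← hτ, RingHom.mem_ker, Subsingleton.elim τ σ]
  show σ _ = 0
  rw [map_sub, map_mul, map_pow, AlgHom.commutes, AlgHom.commutes, ← hc,
    IsScalarTower.algebraMap_apply R κ Ω, ← map_mul, hrs, ← IsScalarTower.algebraMap_apply,
    sub_self]

open Classical in
/-- If `p` has at most one geometric point in `B`, so do the primes of a constructible
neighbourhood. -/
theorem exists_radicial_nbhd [Module.Finite R B] (p : Ideal R) [p.IsPrime]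
    (huniq : Subsingleton (B →ₐ[R] AlgebraicClosure p.ResidueField)) :
    ∃ (I : Finset R) (s : R), (∀ a ∈ I, a ∈ p) ∧ s ∉ p ∧
      ∀ (K : Type u) [Field K] (ψ : R →+* K), (∀ a ∈ I, ψ a = 0) → ψ s ≠ 0 →
        ∀ σ τ : B →+* K, σ.comp (algebraMap R B) = ψ → τ.comp (algebraMap R B) = ψ → σ = τ := by
  obtain ⟨G, hG⟩ := (Module.Finite.fg_top : (⊤ : Submodule R B).FG)
  choose n r s hs hx using fun b : B => exists_pow_eq_on_fibre p huniq b
  choose N t ht hmem using fun b : B =>
    exists_mul_pow_mem_map p (algebraMap R B (s b) * b ^ (ringExpChar p.ResidueField) ^ n b -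
      algebraMap R B (r b)) (hx b)
  have hspan : ∀ b : B, ∃ J : Finset R, (∀ a ∈ J, a ∈ p) ∧ algebraMap R B (t b) *
      (algebraMap R B (s b) * b ^ (ringExpChar p.ResidueField) ^ n b -
      algebraMap R B (r b)) ^ N b ∈ Ideal.map (algebraMap R B) (Ideal.span (J : Set R)) := by
    intro b
    obtain ⟨T, hT, hTm⟩ := Submodule.mem_span_finite_of_mem_span (R := B) (hmem b)
    rw [Finset.subset_set_image_iff] at hT
    obtain ⟨J, hJ, rfl⟩ := hT
    refine ⟨J, fun a ha => hJ ha, ?_⟩
    rw [Ideal.map_span, ← Finset.coe_image]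
    exact hTm
  choose J hJ hJm using hspan
  let q := ringExpChar p.ResidueField
  let I := (G.biUnion J) ∪ (if q = 1 then ∅ else {(q : R)})
  refine ⟨I, ∏ b ∈ G, (t b * s b), ?_, ?_, ?_⟩
  · intro a ha
    rcases Finset.mem_union.mp ha with ha | ha
    · obtain ⟨b, -, hab⟩ := Finset.mem_biUnion.mp ha
      exact hJ b a hab
    · by_cases hq : q = 1
      · simp [hq] at ha
      · simp only [hq, if_false, Finset.mem_singleton] at ha
        subst ha
        have hP : (ringExpChar p.ResidueField).Prime :=
          (expChar_is_prime_or_one p.ResidueField (ringExpChar p.ResidueField)).resolve_right hq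
        have hq' : q.Prime := hP
        haveI : ExpChar p.ResidueField q := ringExpChar.expChar _
        rw [← Ideal.algebraMap_residueField_eq_zero, map_natCast]
        have key : ∀ m : ℕ, ExpChar p.ResidueField m → m ≠ 1 → (m : p.ResidueField) = 0 := by
          intro m hm hm1
          cases hm with
          | zero => exact absurd rfl hm1
          | prime _ => exact CharP.cast_eq_zero _ _
        exact key q inferInstance hq
  · refine fun h => ?_
    obtain ⟨b, -, hb⟩ := (Ideal.IsPrime.prod_mem_iff (p := p)).mp h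
    exact (Ideal.IsPrime.mem_or_mem ‹_› hb).elim (ht b) (hs b)
  · intro K _ ψ hI hψ σ τ hσ hτ
    letI := ψ.toAlgebra
    have hb : ∀ b ∈ G, σ b = τ b := by
      intro b hbG
      have hs0 : ψ (t b) ≠ 0 ∧ ψ (s b) ≠ 0 := by
        rw [map_prod, Finset.prod_ne_zero_iff] at hψ
        have := hψ b hbG
        rw [map_mul] at this
        exact ⟨left_ne_zero_of_mul this, right_ne_zero_of_mul this⟩
      have key : ∀ ρ : B →+* K, ρ.comp (algebraMap R B) = ψ →
          (ρ b) ^ q ^ n b = ψ (r b) / ψ (s b) := by
        intro ρ hρ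
        have hker : Ideal.map (algebraMap R B) (Ideal.span (J b : Set R)) ≤ RingHom.ker ρ := by
          rw [Ideal.map_le_iff_le_comap, Ideal.span_le]
          intro a ha
          show ρ (algebraMap R B a) = 0
          rw [← RingHom.comp_apply, hρ]
          exact hI a (Finset.mem_union_left _ (Finset.mem_biUnion.mpr ⟨b, hbG, ha⟩))
        have h0 := RingHom.mem_ker.mp (hker (hJm b))
        simp only [map_mul, map_pow, map_sub, ← RingHom.comp_apply, hρ, mul_eq_zero, hs0.1,
          false_or, pow_eq_zero_iff', sub_eq_zero] at h0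
        rw [eq_div_iff hs0.2, mul_comm]
        exact h0.1
      by_cases hq : q = 1
      · have h1 := key σ hσ
        have h2 := key τ hτ
        simp only [hq, one_pow, pow_one] at h1 h2
        exact h1.trans h2.symm
      haveI : ExpChar K q := by
        have hP : q.Prime :=
          (expChar_is_prime_or_one p.ResidueField q).resolve_right hq
        have h0 : (q : K) = 0 := by
          rw [← map_natCast ψ]
          exact hI _ (Finset.mem_union_right _ (by simp [hq]))
        haveI : CharP K q := (CharP.charP_iff_prime_eq_zero hP).mpr h0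
        exact ExpChar.prime hP
      have h := sub_pow_expChar_pow (R := K) (p := q) (n := n b) (x := σ b) (y := τ b)
      rw [key σ hσ, key τ hτ, sub_self] at h
      exact sub_eq_zero.mp (eq_zero_of_pow_eq_zero h)
    refine RingHom.ext fun x => ?_
    have hx : x ∈ Submodule.span R (G : Set B) := hG.symm ▸ Submodule.mem_top
    induction hx using Submodule.span_induction with
    | mem y hy => exact hb y hy
    | zero => rw [map_zero, map_zero]
    | add y z _ _ hy hz => rw [map_add, map_add, hy, hz]
    | smul a y _ hy =>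
      rw [Algebra.smul_def, map_mul, map_mul, hy, ← RingHom.comp_apply, hσ, ← RingHom.comp_apply,
        hτ]

end Groth.Agent.EtaleSplit
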