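import Mathlib
import Groth.Agent.EtaleSplit.Weighting
import Groth.Agent.EtaleSplit.Radicial
import Groth.Agent.SpectralLib.Basic

set_option autoImplicit false
set_option backward.isDefEq.respectTransparency false
set_option backward.defeqAttrib.useBackward true
set_option linter.style.haveILetI false

/-!
# Level sets of weightings are locally constructible
-/

open AlgebraicGeometry CategoryTheory Limits MoreMor

open scoped Topology

universe u

namespace Groth.Agent.EtaleSplit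

theorem subsingleton_gpts_of_fibre_one {U T : Scheme.{u}} (π : U ⟶ T) [IsFinite π] (t : T)
    (h1 : fibreIntegral π (fun _ => 1) t = 1) {Ω : Type u} [Field Ω] [IsAlgClosed Ω]
    (q : Spec (.of Ω) ⟶ T) (hq : pt q = t) : Subsingleton (GPts π q) := by
  subst hq
  have hfin := finite_gpts_over π q Set.univ ((π.finite_preimage_singleton _).subset fun x hx => hx.2)
  haveI : Finite (GPts π q) :=
    Set.finite_univ_iff.mp (hfin.subset fun p _ => trivial)
  haveI := Fintype.ofFinite (GPts π q)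
  rw [← gint_eq π _ q ((π.finite_preimage_singleton _).subset fun x hx => hx.2), gint,
    finsum_eq_sum_of_fintype] at h1
  simp only [Finset.sum_const, Finset.card_univ, nsmul_eq_mul, mul_one, Nat.cast_eq_one] at h1
  exact Fintype.card_le_one_iff_subsingleton.mp h1.le

theorem pt_specMap_fromSpec {T : Scheme.{u}} {N : T.Opens} (hN : IsAffineOpen N) {K : Type u}
    [Field K] (ψ : Γ(T, N) ⟶ .of K) (a : Γ(T, N)) :
    pt (Spec.map ψ ≫ hN.fromSpec) ∈ T.basicOpen a ↔ ψ.hom a ≠ 0 := by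
  show (Spec.map ψ) (IsLocalRing.closedPoint K) ∈ hN.fromSpec ⁻¹ᵁ T.basicOpen a ↔ _
  rw [hN.fromSpec_preimage_basicOpen]
  show ψ.hom a ∉ IsLocalRing.maximalIdeal K ↔ _
  rw [IsLocalRing.maximalIdeal_eq_bot, Ideal.mem_bot]

/-- Factorisation of field valued points through an affine open. -/
theorem exists_factor_fromSpec {T : Scheme.{u}} {N : T.Opens} (hN : IsAffineOpen N) {K : Type u}
    [Field K] (q : Spec (.of K) ⟶ T) (hq : pt q ∈ N) :
    ∃ ψ : Γ(T, N) ⟶ .of K, Spec.map ψ ≫ hN.fromSpec = q := by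
  let l := IsOpenImmersion.lift hN.fromSpec q (by
    rintro _ ⟨z, rfl⟩
    rw [hN.range_fromSpec, pt_eq]
    exact hq)
  exact ⟨Spec.preimage l, by rw [Spec.map_preimage]; exact IsOpenImmersion.lift_fac _ _ _⟩

theorem exists_radicial_open {U T : Scheme.{u}} (π : U ⟶ T) [IsFinite π] (N : T.Opens)
    (hN : IsAffineOpen N) (t : T) (ht : t ∈ N) (h1 : fibreIntegral π (fun _ => 1) t = 1) :
    ∃ (I : Finset Γ(T, N)) (s : Γ(T, N)), (∀ a ∈ I, t ∉ T.basicOpen a) ∧ t ∈ T.basicOpen s ∧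
      ∀ v, v ∈ T.basicOpen s → (∀ a ∈ I, v ∉ T.basicOpen a) →
        Subsingleton (GPts π (geomPt v)) := by
  have hW : IsAffineOpen (π ⁻¹ᵁ N) := hN.preimage π
  let φ := π.app N
  letI : Algebra Γ(T, N) Γ(U, π ⁻¹ᵁ N) := φ.hom.toAlgebra
  haveI : Module.Finite Γ(T, N) Γ(U, π ⁻¹ᵁ N) := π.finite_app N hN
  let p := (hN.primeIdealOf ⟨t, ht⟩).asIdeal
  have hnat : Spec.map φ ≫ hN.fromSpec = hW.fromSpec ≫ π := by
    have := IsAffineOpen.SpecMap_appLE_fromSpec π hN hW le_rfl
    rwa [← Scheme.Hom.app_eq_appLE] at this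
  -- homomorphisms give geometric points
  have hgp : ∀ {K : Type u} [Field K] (σ : Γ(U, π ⁻¹ᵁ N) ⟶ .of K) (ψ : Γ(T, N) ⟶ .of K),
      φ ≫ σ = ψ → (Spec.map σ ≫ hW.fromSpec) ≫ π = Spec.map ψ ≫ hN.fromSpec := by
    intro K _ σ ψ h
    rw [Category.assoc, ← hnat, ← Spec.map_comp_assoc, h]
  have huniq : Subsingleton (Γ(U, π ⁻¹ᵁ N) →ₐ[Γ(T, N)] AlgebraicClosure p.ResidueField) := by
    let ψ : Γ(T, N) ⟶ .of (AlgebraicClosure p.ResidueField) :=
      CommRingCat.ofHom (algebraMap Γ(T, N) (AlgebraicClosure p.ResidueField))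
    have hq : pt (Spec.map ψ ≫ hN.fromSpec) = t := by
      show hN.fromSpec ((Spec.map ψ) (IsLocalRing.closedPoint _)) = t
      have hp : (Spec.map ψ) (IsLocalRing.closedPoint _) = hN.primeIdealOf ⟨t, ht⟩ := by
        refine PrimeSpectrum.ext (Ideal.ext fun a => ?_)
        show ψ.hom a ∈ IsLocalRing.maximalIdeal _ ↔ a ∈ p
        rw [IsLocalRing.maximalIdeal_eq_bot, Ideal.mem_bot]
        show algebraMap Γ(T, N) (AlgebraicClosure p.ResidueField) a = 0 ↔ _
        rw [IsScalarTower.algebraMap_apply Γ(T, N) p.ResidueField,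
          map_eq_zero_iff _ (algebraMap p.ResidueField _).injective,
          Ideal.algebraMap_residueField_eq_zero]
      rw [hp]
      exact hN.fromSpec_primeIdealOf ⟨t, ht⟩
    haveI := subsingleton_gpts_of_fibre_one π t h1 _ hq
    refine ⟨fun σ τ => AlgHom.coe_ringHom_injective ?_⟩
    have h : ∀ ρ : Γ(U, π ⁻¹ᵁ N) →ₐ[Γ(T, N)] AlgebraicClosure p.ResidueField,
        φ ≫ CommRingCat.ofHom ρ.toRingHom = ψ := fun ρ => by
      ext a; exact ρ.commutes a
    have h2 : (⟨_, hgp _ ψ (h σ)⟩ : GPts π (Spec.map ψ ≫ hN.fromSpec)) = ⟨_, hgp _ ψ (h τ)⟩ :=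
      Subsingleton.elim _ _
    exact congrArg CommRingCat.Hom.hom (Spec.map_injective
      ((cancel_mono hW.fromSpec).mp (congrArg Subtype.val h2)))
  obtain ⟨I, s, hI, hs, hkey⟩ := exists_radicial_nbhd (B := Γ(U, π ⁻¹ᵁ N)) p huniq
  have hmem : ∀ a : Γ(T, N), t ∈ T.basicOpen a ↔ a ∉ p := by
    intro a
    rw [← Scheme.evaluation_ne_zero_iff_mem_basicOpen T t ht a]
    exact (primeIdealOf_eq hN t ht a).not.symm
  refine ⟨I, s, fun a ha h => (hmem a).mp h (hI a ha), (hmem s).mpr hs, fun v hvs hvI => ?_⟩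
  obtain ⟨ψ, hψ⟩ := exists_factor_fromSpec hN (geomPt v)
    (by rw [pt_geomPt]; exact T.basicOpen_le s hvs)
  have hψv : ∀ a : Γ(T, N), v ∈ T.basicOpen a ↔ ψ.hom a ≠ 0 := fun a => by
    rw [← pt_specMap_fromSpec hN ψ a, hψ, pt_geomPt]
  refine ⟨fun r r' => Subtype.ext ?_⟩
  have hf : ∀ r : GPts π (geomPt v), ∃ σ : Γ(U, π ⁻¹ᵁ N) ⟶ .of _,
      Spec.map σ ≫ hW.fromSpec = r.1 ∧ φ ≫ σ = ψ := by
    intro r
    obtain ⟨σ, hσ⟩ := exists_factor_fromSpec hW r.1 (by
      show π (pt r.1) ∈ N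
      rw [r.map_pt, pt_geomPt]; exact T.basicOpen_le s hvs)
    refine ⟨σ, hσ, ?_⟩
    apply Spec.map_injective
    rw [← cancel_mono hN.fromSpec, Spec.map_comp, Category.assoc, hnat, reassoc_of% hσ, hψ, r.2]
  obtain ⟨σ, hσ, hσψ⟩ := hf r
  obtain ⟨τ, hτ, hτψ⟩ := hf r'
  have := hkey _ ψ.hom (fun a ha => not_not.mp fun h => hvI a ha ((hψv a).mpr h))
    ((hψv s).mp hvs) σ.hom τ.hom (congrArg CommRingCat.Hom.hom hσψ)
    (congrArg CommRingCat.Hom.hom hτψ)
  rw [← hσ, ← hτ, CommRingCat.hom_ext this]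

theorem isConstructible_preimage_basicOpen {W T : Scheme.{u}} [IsAffine W] (g : W ⟶ T)
    {N : T.Opens} (hN : IsAffineOpen N) (hg : ∀ z, g z ∈ N) (a : Γ(T, N)) :
    Topology.IsConstructible (g ⁻¹' (T.basicOpen a : Set T)) := by
  refine IsCompact.isConstructible ?_ ((T.basicOpen a).2.preimage g.continuous)
  have h : g ⁻¹ᵁ T.basicOpen a = W.basicOpen (g.appLE N ⊤ (fun z _ => hg z) a) := by
    rw [Scheme.Hom.appLE, CommRingCat.comp_apply, Scheme.basicOpen_res]
    rw [Scheme.preimage_basicOpen]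
    simp
  show IsCompact ((g ⁻¹ᵁ T.basicOpen a : W.Opens) : Set W)
  rw [h]
  exact ((isAffineOpen_top W).basicOpen _).isCompact

set_option maxHeartbeats 800000 in
/-- A weighting is constant on a constructible neighbourhood of each point. -/
theorem IsWeighting.exists_constructible_const {X Y : Scheme.{u}} {f : X ⟶ Y}
    [LocallyQuasiFinite f] [LocallyOfFiniteType f] {w : X → ℤ} (hw : IsWeighting f w)
    (O : X.Opens) (hO : IsAffineOpen O) (x : X) (hx : x ∈ O) :
    ∃ Z : Set O.toScheme, Topology.IsConstructible Z ∧ ⟨x, hx⟩ ∈ Z ∧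
      ∀ z ∈ Z, w (O.ι z) = w x := by
  let q := geomPt (f x)
  obtain ⟨r, hr⟩ := exists_gpt f q x (pt_geomPt (f x)).symm
  obtain ⟨T, g, qT, hqT, V, _, hV⟩ := exists_split f q (fun _ : Unit => r) (fun _ => O)
    (fun _ => hr.symm ▸ hx) (fun _ => f.quasiFiniteAt _)
  obtain ⟨hfin, hle, hmem, huniq⟩ := hV ()
  haveI := hfin
  let π := (V ()).ι ≫ pullback.snd f g
  let pT := pullback.lift r.1 qT (r.2.trans hqT.symm)
  let l : Spec (.of _) ⟶ (V ()).toScheme := IsOpenImmersion.lift (V ()).ι pT (by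
    rintro _ ⟨z, rfl⟩
    rw [Scheme.Opens.range_ι, pt_eq]
    exact hmem)
  have hl : l ≫ (V ()).ι = pT := IsOpenImmersion.lift_fac _ _ _
  haveI hsub : Subsingleton (GPts π qT) := by
    refine ⟨fun a b => Subtype.ext ((cancel_mono (V ()).ι).mp ?_)⟩
    have h : ∀ c : GPts π qT, c.1 ≫ (V ()).ι = pT := fun c =>
      huniq ⟨c.1 ≫ (V ()).ι, by rw [Category.assoc]; exact c.2⟩ ((pt c.1 : (V ()).toScheme).2)
    rw [h a, h b]
  let l' : GPts π qT := ⟨l, by
    show l ≫ (V ()).ι ≫ pullback.snd f g = qT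
    rw [reassoc_of% hl, pullback.lift_snd]⟩
  have hfx : pullback.fst f g ((V ()).ι (pt l)) = x := by
    rw [← Scheme.Hom.comp_apply, ← pt_comp, reassoc_of% hl, pullback.lift_fst, hr]
  have h1 : fibreIntegral π (fun _ => 1) (pt qT) = 1 := by
    rw [← gint_eq π _ qT ((π.finite_preimage_singleton _).subset fun z hz => hz.2), gint,
      finsum_eq_single _ l' fun c hc => (hc (Subsingleton.elim _ _)).elim]
  let W' : (V ()).toScheme → ℤ := fun z => w (pullback.fst f g ((V ()).ι z))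
  have hFt : fibreIntegral π W' (pt qT) = w x := by
    rw [← gint_eq π _ qT ((π.finite_preimage_singleton _).subset fun z hz => hz.2), gint,
      finsum_eq_single _ l' fun c hc => (hc (Subsingleton.elim _ _)).elim]
    exact congrArg w hfx
  have hev : ∀ᶠ v in 𝓝 (pt qT), fibreIntegral π W' v = w x :=
    ((hw T g (V ()) hfin).eventually_eq (pt qT)).mono fun v hv => hv.trans hFt
  obtain ⟨N₀, hN₀, hN₀o, htN₀⟩ := eventually_nhds_iff.mp hev
  obtain ⟨_, ⟨N : T.Opens, hN, rfl⟩, htN, hNN₀⟩ :=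
    T.isBasis_affineOpens.exists_subset_of_mem_open htN₀ hN₀o
  obtain ⟨I, s, hI, hs, hrad⟩ := exists_radicial_open π N hN (pt qT) htN h1
  let W : (V ()).toScheme.Opens := π ⁻¹ᵁ N
  haveI : IsAffine W.toScheme := hN.preimage π
  haveI : IsAffine O.toScheme := hO
  let k : W.toScheme ⟶ O.toScheme :=
    IsOpenImmersion.lift O.ι (W.ι ≫ (V ()).ι ≫ pullback.fst f g) (by
      rintro _ ⟨z, rfl⟩
      rw [Scheme.Opens.range_ι]
      exact hle (W.ι z).2)
  have hk : k ≫ O.ι = W.ι ≫ (V ()).ι ≫ pullback.fst f g := IsOpenImmersion.lift_fac _ _ _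
  haveI : LocallyOfFinitePresentation (k ≫ O.ι) := by rw [hk]; infer_instance
  haveI : LocallyOfFinitePresentation k :=
    MorphismProperty.of_postcomp (W' := @IsOpenImmersion) _ k O.ι inferInstance inferInstance
  have hgN : ∀ z : W.toScheme, (W.ι ≫ π) z ∈ N := fun z => z.2
  let E : Set W.toScheme := (W.ι ≫ π) ⁻¹' (T.basicOpen s : Set T) ∩
    ⋂ a ∈ I, ((W.ι ≫ π) ⁻¹' (T.basicOpen a : Set T))ᶜ
  have hE : Topology.IsConstructible E :=
    (isConstructible_preimage_basicOpen (W.ι ≫ π) hN hgN s).inter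
      (Topology.IsConstructible.biInter I.finite_toSet fun a _ =>
        (isConstructible_preimage_basicOpen (W.ι ≫ π) hN hgN a).compl)
  refine ⟨k '' E, k.isConstructible_image hE, ?_, ?_⟩
  · have hlW : pt l ∈ W := by
      show π (pt l) ∈ N
      rw [show π (pt l) = pt qT from (l'.map_pt)]
      exact htN
    refine ⟨⟨pt l, hlW⟩, ⟨?_, ?_⟩, ?_⟩
    · show π (pt l) ∈ T.basicOpen s
      rw [show π (pt l) = pt qT from l'.map_pt]
      exact hs
    · refine Set.mem_iInter₂.mpr fun a ha h => hI a ha ?_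
      rw [← show π (pt l) = pt qT from l'.map_pt]
      exact h
    · apply O.ι.isOpenEmbedding.injective
      show (k ≫ O.ι) _ = x
      rw [hk]
      exact hfx
  · rintro _ ⟨z, ⟨hzs, hzI⟩, rfl⟩
    have hz : (k ≫ O.ι) z = pullback.fst f g ((V ()).ι z.1) := by rw [hk]; rfl
    show w (O.ι (k z)) = w x
    rw [← Scheme.Hom.comp_apply, hz]
    obtain ⟨c, hc⟩ := exists_gpt π (geomPt (π z.1)) z.1 (pt_geomPt _).symm
    haveI := hrad (π z.1) hzs fun a ha => Set.mem_iInter₂.mp hzI a ha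
    have hF := hN₀ (π z.1) (hNN₀ z.2)
    rw [← pt_geomPt (π z.1), ← gint_eq π _ _ ((π.finite_preimage_singleton _).subset fun a ha => ha.2),
      gint, finsum_eq_single _ c fun d hd => (hd (Subsingleton.elim _ _)).elim, hc] at hF
    exact hF

theorem exists_finite_cover_constructible {α : Type u} [TopologicalSpace α] [SpectralSpace α]
    (Z : α → Set α) (hZ : ∀ z, Topology.IsConstructible (Z z)) (hmem : ∀ z, z ∈ Z z) :
    ∃ F : Finset α, ∀ y, ∃ z ∈ F, y ∈ Z z := by
  have hopen : ∀ z, IsOpen[constructibleTopology α] (Z z) :=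
    fun z => (SpectralLib.isClopen_C_of_isConstructible (hZ z)).2
  have hcompact := SpectralLib.compactSpace_C (X := α)
  letI := constructibleTopology α
  obtain ⟨F, hF⟩ := (@isCompact_univ α _ hcompact).elim_finite_subcover Z hopen
    fun z _ => Set.mem_iUnion.mpr ⟨z, hmem z⟩
  exact ⟨F, fun y => by simpa using hF (Set.mem_univ y)⟩

/-- On an affine open a weighting takes finitely many values, with constructible level sets. -/
theorem IsWeighting.finite_values {X Y : Scheme.{u}} {f : X ⟶ Y}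
    [LocallyQuasiFinite f] [LocallyOfFiniteType f] {w : X → ℤ} (hw : IsWeighting f w)
    (O : X.Opens) (hO : IsAffineOpen O) :
    (w '' (O : Set X)).Finite ∧
      ∀ n : ℤ, Topology.IsConstructible {z : O.toScheme | w (O.ι z) = n} := by
  classical
  haveI : IsAffine O.toScheme := hO
  haveI : SpectralSpace O.toScheme := ⟨⟩
  choose Z hZc hxZ hZw using fun z : O.toScheme =>
    IsWeighting.exists_constructible_const hw O hO z.1 z.2
  obtain ⟨F, hF⟩ := exists_finite_cover_constructible Z hZc hxZ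
  refine ⟨(F.image fun z => w z.1).finite_toSet.subset ?_, fun n => ?_⟩
  · rintro _ ⟨x, hx, rfl⟩
    obtain ⟨z, hz, hxz⟩ := hF ⟨x, hx⟩
    exact Finset.mem_coe.mpr (Finset.mem_image.mpr ⟨z, hz, (hZw z _ hxz).symm⟩)
  · have : {z : O.toScheme | w (O.ι z) = n} = ⋃ z ∈ F.filter (fun z => w z.1 = n), Z z := by
      ext x
      simp only [Set.mem_iUnion, Finset.mem_filter, exists_prop]
      constructor
      · intro hx
        obtain ⟨z, hz, hxz⟩ := hF x
        exact ⟨z, ⟨hz, (hZw z _ hxz).symm.trans hx⟩, hxz⟩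
      · rintro ⟨z, ⟨-, hz⟩, hxz⟩
        exact (hZw z _ hxz).trans hz
    rw [this]
    exact Topology.IsConstructible.biUnion (Finset.finite_toSet _) fun z _ => hZc z

theorem IsWeighting.isLocallyConstructible {X Y : Scheme.{u}} {f : X ⟶ Y}
    [LocallyQuasiFinite f] [LocallyOfFiniteType f] {w : X → ℤ} (hw : IsWeighting f w) (n : ℤ) :
    Topology.IsLocallyConstructible {x : X | w x = n} := by
  intro x
  obtain ⟨_, ⟨O : X.Opens, hO, rfl⟩, hxO, -⟩ := X.isBasis_affineOpens.exists_subset_of_mem_open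
    (Set.mem_univ x) isOpen_univ
  exact ⟨O, O.2.mem_nhds hxO, O.2, (IsWeighting.finite_values hw O hO).2 n⟩

end Groth.Agent.EtaleSplit
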