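import Mathlib
import Groth.Agent.EtaleSplit.Constructible

set_option autoImplicit false
set_option backward.isDefEq.respectTransparency false
set_option backward.defeqAttrib.useBackward true
set_option linter.style.haveILetI false

/-!
# Uniform bound on the geometric points in the fibres of a quasi-finite morphism
-/

open AlgebraicGeometry CategoryTheory Limits MoreMor

universe u

namespace Groth.Agent.EtaleSplit

open Classical in
theorem exists_bound_homs {R S : Type u} [CommRing R] [CommRing S] [Algebra R S]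
    [Algebra.FiniteType R S] [Algebra.QuasiFinite R S] :
    ∃ N : ℕ, ∀ (K : Type u) [Field K] (ψ : R →+* K),
      Finite {σ : S →+* K // σ.comp (algebraMap R S) = ψ} ∧
        Nat.card {σ : S →+* K // σ.comp (algebraMap R S) = ψ} ≤ N := by
  choose S' hfg r hr hbij using fun p : PrimeSpectrum S =>
    Algebra.QuasiFiniteAt.exists_fg_and_exists_notMem_and_awayMap_bijective (R := R) p.asIdeal
  obtain ⟨F, hF⟩ := (isCompact_univ (X := PrimeSpectrum S)).elim_finite_subcover
    (fun p => (PrimeSpectrum.basicOpen (r p).1 : Set (PrimeSpectrum S)))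
    (fun p => (PrimeSpectrum.basicOpen (r p).1).2) (fun p _ => Set.mem_iUnion.mpr ⟨p, hr p⟩)
  choose G hG using fun p => hfg p
  have hmem : ∀ p, ∀ b ∈ G p, b ∈ S' p := fun p b hb => by
    have h := Submodule.subset_span (R := R) (Finset.mem_coe.mpr hb)
    rw [hG p] at h
    exact h
  have hint : ∀ p, ∀ b ∈ G p, ∃ m : Polynomial R, m.Monic ∧ m.eval₂ (algebraMap R S) b = 0 := by
    intro p b hb
    haveI : Module.Finite R (S' p).toSubmodule := Module.Finite.iff_fg.mpr (hfg p)
    haveI : Module.Finite R (S' p) := ‹Module.Finite R (S' p).toSubmodule›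
    obtain ⟨m, hm, hm0⟩ := Algebra.IsIntegral.isIntegral (R := R) (⟨b, hmem p b hb⟩ : S' p)
    refine ⟨m, hm, ?_⟩
    have h := congrArg (S' p).val hm0
    rw [map_zero, ← Polynomial.aeval_def, ← Polynomial.aeval_algHom_apply] at h
    exact h
  choose m hm hm0 using hint
  refine ⟨∑ p : F, ∏ b : G p.1, (m p.1 b.1 b.2).natDegree, fun K _ ψ => ?_⟩
  have hex : ∀ σ : {σ : S →+* K // σ.comp (algebraMap R S) = ψ},
      ∃ p : F, σ.1 (r p.1).1 ≠ 0 := by
    intro σ
    haveI := RingHom.ker_isPrime σ.1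
    obtain ⟨p, hp, hpσ⟩ := Set.mem_iUnion₂.mp (hF (Set.mem_univ ⟨RingHom.ker σ.1, ‹_›⟩))
    exact ⟨⟨p, hp⟩, hpσ⟩
  choose pσ hpσ using hex
  have hroot : ∀ (σ : {σ : S →+* K // σ.comp (algebraMap R S) = ψ}) (p : F) (b : G p.1),
      σ.1 b.1 ∈ ((m p.1 b.1 b.2).map ψ).roots.toFinset := by
    intro σ p b
    rw [Multiset.mem_toFinset, Polynomial.mem_roots', Polynomial.IsRoot, Polynomial.eval_map]
    refine ⟨((hm p.1 b.1 b.2).map ψ).ne_zero, ?_⟩
    refine (congrArg (fun φ => Polynomial.eval₂ φ (σ.1 b.1) (m p.1 b.1 b.2)) σ.2.symm).trans ?_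
    rw [← Polynomial.hom_eval₂, hm0, map_zero]
  let Φ : {σ : S →+* K // σ.comp (algebraMap R S) = ψ} →
      Σ p : F, ∀ b : G p.1, ((m p.1 b.1 b.2).map ψ).roots.toFinset :=
    fun σ => ⟨pσ σ, fun b => ⟨σ.1 b.1, hroot σ (pσ σ) b⟩⟩
  have hΦ : Function.Injective Φ := by
    intro σ τ h
    have hp : pσ σ = pσ τ := congrArg Sigma.fst h
    have hval : ∀ b : G (pσ σ).1, σ.1 b.1 = τ.1 b.1 := by
      intro b
      have h2 := congrArg (fun s : Σ p : F, ∀ b : G p.1, ((m p.1 b.1 b.2).map ψ).roots.toFinset =>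
        fun c : S => if hc : c ∈ G s.1.1 then (s.2 ⟨c, hc⟩).1 else 0) h
      have h3 := congrFun h2 b.1
      simp only [Φ] at h3
      rwa [dif_pos b.2, dif_pos (hp ▸ b.2)] at h3
    have hS' : ∀ a ∈ S' (pσ σ).1, σ.1 a = τ.1 a := by
      intro a ha
      have ha' : a ∈ Submodule.span R (G (pσ σ).1 : Set S) := by rw [hG]; exact ha
      induction ha' using Submodule.span_induction with
      | mem y hy => exact hval ⟨y, hy⟩
      | zero => rw [map_zero, map_zero]
      | add y z hy' hz' hy hz =>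
        rw [map_add, map_add, hy (hG _ ▸ hy' : y ∈ (S' (pσ σ).1).toSubmodule),
          hz (hG _ ▸ hz' : z ∈ (S' (pσ σ).1).toSubmodule)]
      | smul c y hy' hy =>
        rw [Algebra.smul_def, map_mul, map_mul, hy (hG _ ▸ hy' : y ∈ (S' (pσ σ).1).toSubmodule),
          ← RingHom.comp_apply, σ.2, ← RingHom.comp_apply, τ.2]
    apply Subtype.ext
    refine RingHom.ext fun a => ?_
    obtain ⟨c, k, hk⟩ := Localization.awayMap_surjective_iff.mp (hbij (pσ σ).1).2 a
    have h1 : σ.1 (c : S) = τ.1 (c : S) := hS' _ c.2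
    change (c : S) = ((r (pσ σ).1 : S' (pσ σ).1) : S) ^ k * a at hk
    rw [hk, map_mul, map_mul, map_pow, map_pow, ← hS' _ (r (pσ σ).1).2] at h1
    exact mul_left_cancel₀ (pow_ne_zero _ (hpσ σ)) h1
  haveI := Finite.of_injective Φ hΦ
  refine ⟨this, (Nat.card_le_card_of_injective Φ hΦ).trans ?_⟩
  rw [Nat.card_sigma]
  refine Finset.sum_le_sum fun p _ => ?_
  rw [Nat.card_pi]
  refine Finset.prod_le_prod' fun b _ => ?_
  rw [Nat.card_eq_fintype_card, Fintype.card_coe]
  exact (Multiset.toFinset_card_le _).trans ((Polynomial.card_roots' _).trans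
    Polynomial.natDegree_map_le)

theorem exists_bound_gpts_affine {X Y : Scheme.{u}} (f : X ⟶ Y) [IsAffine X] [IsAffine Y]
    [LocallyQuasiFinite f] [LocallyOfFiniteType f] :
    ∃ N : ℕ, ∀ (K : Type u) [Field K] (q : Spec (.of K) ⟶ Y),
      Finite (GPts f q) ∧ Nat.card (GPts f q) ≤ N := by
  let hX := isAffineOpen_top X
  let hY := isAffineOpen_top Y
  let φ := f.appLE ⊤ ⊤ (by simp)
  letI : Algebra Γ(Y, ⊤) Γ(X, ⊤) := φ.hom.toAlgebra
  haveI : Algebra.FiniteType Γ(Y, ⊤) Γ(X, ⊤) :=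
    RingHom.finiteType_algebraMap.mp (f.finiteType_appLE hY hX _)
  haveI : Algebra.QuasiFinite Γ(Y, ⊤) Γ(X, ⊤) :=
    RingHom.quasiFinite_algebraMap.mp (LocallyQuasiFinite.quasiFinite_appLE (f := f) hY hX _)
  obtain ⟨N, hN⟩ := exists_bound_homs (R := Γ(Y, ⊤)) (S := Γ(X, ⊤))
  refine ⟨N, fun K _ q => ?_⟩
  obtain ⟨ψ, hψ⟩ := exists_factor_fromSpec hY q trivial
  have hf : ∀ p : GPts f q, ∃ σ : {σ : Γ(X, ⊤) →+* K // σ.comp (algebraMap Γ(Y, ⊤) Γ(X, ⊤)) = ψ.hom},
      Spec.map (CommRingCat.ofHom σ.1) ≫ hX.fromSpec = p.1 := by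
    intro p
    obtain ⟨σ, hσ⟩ := exists_factor_fromSpec hX p.1 trivial
    refine ⟨⟨σ.hom, congrArg CommRingCat.Hom.hom (?_ : φ ≫ σ = ψ)⟩, hσ⟩
    apply Spec.map_injective
    rw [← cancel_mono hY.fromSpec, Spec.map_comp, Category.assoc,
      IsAffineOpen.SpecMap_appLE_fromSpec f hY hX, reassoc_of% hσ, hψ, p.2]
  choose Φ hΦ using hf
  have hinj : Function.Injective Φ := fun p p' h => Subtype.ext (by rw [← hΦ p, ← hΦ p', h])
  obtain ⟨hfin, hcard⟩ := hN K ψ.hom
  exact ⟨Finite.of_injective Φ hinj, (Nat.card_le_card_of_injective Φ hinj).trans hcard⟩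

/-- The number of geometric points in the fibres is bounded for quasi-compact sources. -/
theorem exists_bound_gpts {X Y : Scheme.{u}} (f : X ⟶ Y) [CompactSpace X]
    [LocallyQuasiFinite f] [LocallyOfFiniteType f] :
    ∃ N : ℕ, ∀ (K : Type u) [Field K] (q : Spec (.of K) ⟶ Y),
      Finite (GPts f q) ∧ Nat.card (GPts f q) ≤ N := by
  have key : ∀ x : X, ∃ (U : Y.Opens) (W : X.Opens), IsAffineOpen U ∧ IsAffineOpen W ∧ x ∈ W ∧
      W ≤ f ⁻¹ᵁ U := by
    intro x
    obtain ⟨_, ⟨U : Y.Opens, hU, rfl⟩, hxU, -⟩ := Y.isBasis_affineOpens.exists_subset_of_mem_open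
      (Set.mem_univ (f x)) isOpen_univ
    obtain ⟨_, ⟨W : X.Opens, hW, rfl⟩, hxW, hWU⟩ :=
      X.isBasis_affineOpens.exists_subset_of_mem_open hxU (f ⁻¹ᵁ U).2
    exact ⟨U, W, hU, hW, hxW, hWU⟩
  choose U W hU hW hxW hWU using key
  obtain ⟨F, hF⟩ := (isCompact_univ (X := X)).elim_finite_subcover (fun x => (W x : Set X))
    (fun x => (W x).2) (fun x _ => Set.mem_iUnion.mpr ⟨x, hxW x⟩)
  have hb : ∀ x : X, ∃ N : ℕ, ∀ (K : Type u) [Field K] (q : Spec (.of K) ⟶ Y),
      Finite {p : GPts f q // pt p.1 ∈ W x} ∧ Nat.card {p : GPts f q // pt p.1 ∈ W x} ≤ N := by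
    intro x
    haveI : IsAffine (U x).toScheme := hU x
    haveI : IsAffine (W x).toScheme := hW x
    let g := f.resLE (U x) (W x) (hWU x)
    obtain ⟨N, hN⟩ := exists_bound_gpts_affine g
    refine ⟨N, fun K _ q => ?_⟩
    by_cases hq : pt q ∈ U x
    · let q' := IsOpenImmersion.lift (U x).ι q (by
        rintro _ ⟨z, rfl⟩
        rw [Scheme.Opens.range_ι, pt_eq]; exact hq)
      have hf : ∀ p : {p : GPts f q // pt p.1 ∈ W x}, ∃ p' : GPts g q', p'.1 ≫ (W x).ι = p.1.1 := by
        intro p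
        let l := IsOpenImmersion.lift (W x).ι p.1.1 (by
          rintro _ ⟨z, rfl⟩
          rw [Scheme.Opens.range_ι, pt_eq]; exact p.2)
        refine ⟨⟨l, ?_⟩, IsOpenImmersion.lift_fac _ _ _⟩
        rw [← cancel_mono (U x).ι, Category.assoc, Scheme.Hom.resLE_comp_ι, ← Category.assoc,
          IsOpenImmersion.lift_fac, IsOpenImmersion.lift_fac, p.1.2]
      choose Φ hΦ using hf
      have hinj : Function.Injective Φ := fun p p' h =>
        Subtype.ext (Subtype.ext (by rw [← hΦ p, ← hΦ p', h]))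
      obtain ⟨hfin, hcard⟩ := hN K q'
      exact ⟨Finite.of_injective Φ hinj, (Nat.card_le_card_of_injective Φ hinj).trans hcard⟩
    · haveI : IsEmpty {p : GPts f q // pt p.1 ∈ W x} := ⟨fun p => hq (by
        rw [← p.1.map_pt]; exact hWU x p.2)⟩
      exact ⟨inferInstance, by simp⟩
  choose N hN using hb
  refine ⟨∑ x : F, N x.1, fun K _ q => ?_⟩
  haveI := fun x : F => (hN x.1 K q).1
  have hex : ∀ p : GPts f q, ∃ x : F, pt p.1 ∈ W x.1 := fun p => by
    obtain ⟨x, hx, hpx⟩ := Set.mem_iUnion₂.mp (hF (Set.mem_univ (pt p.1)))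
    exact ⟨⟨x, hx⟩, hpx⟩
  choose xp hxp using hex
  let Φ : GPts f q → Σ x : F, {p : GPts f q // pt p.1 ∈ W x.1} := fun p => ⟨xp p, p, hxp p⟩
  have hinj : Function.Injective Φ := fun p p' h =>
    congrArg (fun s : Σ x : F, {p : GPts f q // pt p.1 ∈ W x.1} => s.2.1) h
  refine ⟨Finite.of_injective Φ hinj, (Nat.card_le_card_of_injective Φ hinj).trans ?_⟩
  rw [Nat.card_sigma]
  exact Finset.sum_le_sum fun x _ => (hN x.1 K q).2

theorem encard_irreducibleComponents_of_discrete (α : Type u) [TopologicalSpace α]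
    [DiscreteTopology α] : (irreducibleComponents α).encard = ENat.card α := by
  have hs : ∀ s : Set α, IsIrreducible s → s.Subsingleton := fun s hs =>
    (hs.2.isPreconnected).subsingleton
  have : irreducibleComponents α = Set.range (fun a : α => ({a} : Set α)) := by
    ext s
    constructor
    · intro hsc
      obtain ⟨a, ha⟩ := hsc.1.1
      exact ⟨a, ((hs s hsc.1).eq_singleton_of_mem ha).symm⟩
    · rintro ⟨a, rfl⟩
      refine ⟨isIrreducible_singleton, fun t ht hat => ?_⟩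
      rw [(hs t ht).eq_singleton_of_mem (hat rfl)]
  rw [this]
  rw [← Set.image_univ, Set.singleton_injective.encard_image, Set.encard_univ]

theorem card_connectedComponents_of_discrete (α : Type u) [TopologicalSpace α]
    [DiscreteTopology α] : ENat.card (ConnectedComponents α) = ENat.card α := by
  refine (ENat.card_congr (Equiv.ofBijective ConnectedComponents.mk
    ⟨fun a b h => ?_, ConnectedComponents.surjective_coe⟩)).symm
  have := ConnectedComponents.coe_eq_coe.mp h
  rw [connectedComponent_eq_singleton, connectedComponent_eq_singleton] at this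
  exact Set.singleton_eq_singleton_iff.mp this

theorem geomFiber_discrete {X Y : Scheme.{u}} (f : X ⟶ Y) [LocallyQuasiFinite f] (y : Y) :
    DiscreteTopology ↥(geomFiber f y) := by
  haveI : LocallyQuasiFinite (f.fiberToSpecResidueField y) :=
    MorphismProperty.pullback_snd _ _ inferInstance
  let g := Spec.map (CommRingCat.ofHom
    (algebraMap (Y.residueField y) (SeparableClosure (Y.residueField y))))
  haveI : IsLocallyArtinian (pullback (f.fiberToSpecResidueField y) g) :=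
    IsLocallyArtinian.of_locallyQuasiFinite (pullback.snd (f.fiberToSpecResidueField y) g)
  exact inferInstanceAs (DiscreteTopology ↥(pullback (f.fiberToSpecResidueField y) g))

theorem exists_bound_geomFiber {X Y : Scheme.{u}} (f : X ⟶ Y) [CompactSpace X]
    [LocallyQuasiFinite f] [LocallyOfFiniteType f] :
    ∃ d : ℕ, ∀ y : Y, ENat.card ↥(geomFiber f y) ≤ d := by
  obtain ⟨N, hN⟩ := exists_bound_gpts f
  refine ⟨N, fun y => ?_⟩
  let g := Spec.map (CommRingCat.ofHom
    (algebraMap (Y.residueField y) (SeparableClosure (Y.residueField y))))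
  let π := pullback.snd (f.fiberToSpecResidueField y) g
  haveI : LocallyQuasiFinite (f.fiberToSpecResidueField y) :=
    MorphismProperty.pullback_snd _ _ inferInstance
  haveI : LocallyQuasiFinite π := MorphismProperty.pullback_snd _ _ inferInstance
  let Ω := AlgebraicClosure (SeparableClosure (Y.residueField y))
  let q₀ : Spec (.of Ω) ⟶ Spec (.of (SeparableClosure (Y.residueField y))) :=
    Spec.map (CommRingCat.ofHom (algebraMap _ Ω))
  have hc : IsPullback (pullback.fst _ g ≫ f.fiberι y) π f (g ≫ Y.fromSpecResidueField y) :=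
    (IsPullback.of_hasPullback _ g).paste_horiz (IsPullback.of_hasPullback f _)
  have hpt : ∀ z : ↥(geomFiber f y), π z = pt q₀ := fun z => Subsingleton.elim _ _
  choose p hp using fun z => exists_gpt π q₀ z (hpt z)
  let Φ : ↥(geomFiber f y) → GPts f (q₀ ≫ g ≫ Y.fromSpecResidueField y) := fun z =>
    gptsBaseChange hc q₀ (p z)
  have hinj : Function.Injective Φ := fun z z' h => by
    rw [← hp z, ← hp z', (gptsBaseChange hc q₀).injective h]
  obtain ⟨hfin, hcard⟩ := hN Ω (q₀ ≫ g ≫ Y.fromSpecResidueField y)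
  haveI := Finite.of_injective Φ hinj
  rw [ENat.card_eq_coe_natCard]
  exact_mod_cast (Nat.card_le_card_of_injective Φ hinj).trans hcard

theorem IsWeighting.exists_max {X Y : Scheme.{u}} {f : X ⟶ Y} [LocallyQuasiFinite f]
    [LocallyOfFiniteType f] [CompactSpace X] [Nonempty Y] {w : X → ℤ} (hw : IsWeighting f w) :
    ∃ y₀ : Y, ∀ y : Y, fibreIntegral f w y ≤ fibreIntegral f w y₀ := by
  obtain ⟨N, hN⟩ := exists_bound_gpts f
  choose O hO hxO using fun x : X => (show ∃ O : X.Opens, IsAffineOpen O ∧ x ∈ O by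
    obtain ⟨_, ⟨O : X.Opens, hO, rfl⟩, hxO, -⟩ := X.isBasis_affineOpens.exists_subset_of_mem_open
      (Set.mem_univ x) isOpen_univ
    exact ⟨O, hO, hxO⟩)
  obtain ⟨F, hF⟩ := (isCompact_univ (X := X)).elim_finite_subcover (fun x => (O x : Set X))
    (fun x => (O x).2) (fun x _ => Set.mem_iUnion.mpr ⟨x, hxO x⟩)
  have hfinw : (Set.range w).Finite := by
    refine (F.finite_toSet.biUnion fun x _ => (IsWeighting.finite_values hw (O x) (hO x)).1).subset ?_
    rintro _ ⟨z, rfl⟩
    obtain ⟨x, hx, hzx⟩ := Set.mem_iUnion₂.mp (hF (Set.mem_univ z))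
    exact Set.mem_iUnion₂.mpr ⟨x, hx, z, hzx, rfl⟩
  obtain ⟨M, hM⟩ := (hfinw.image fun a : ℤ => |a|).bddAbove
  have hbdd : ∀ y, fibreIntegral f w y ≤ |M| * N := by
    intro y
    obtain ⟨hfin, hcard⟩ := hN _ (geomPt y)
    haveI := Fintype.ofFinite (GPts f (geomPt y))
    have hfib : {x | w x ≠ 0 ∧ f x = pt (geomPt y)}.Finite := by
      refine ((Set.finite_univ (α := GPts f (geomPt y))).image fun p => pt p.1).subset ?_
      rintro x ⟨-, hx⟩
      obtain ⟨p, hp⟩ := exists_gpt f (geomPt y) x hx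
      exact ⟨p, trivial, hp⟩
    rw [← pt_geomPt y, ← gint_eq f w (geomPt y) hfib, gint, finsum_eq_sum_of_fintype]
    refine (Finset.sum_le_card_nsmul _ _ |M| fun p _ => ?_).trans ?_
    · exact (le_abs_self _).trans ((hM ⟨_, ⟨_, rfl⟩, rfl⟩).trans (le_abs_self M))
    · rw [nsmul_eq_mul, mul_comm |M|, Finset.card_univ, ← Nat.card_eq_fintype_card]
      exact mul_le_mul_of_nonneg_right (by exact_mod_cast hcard) (abs_nonneg M)
  obtain ⟨d, ⟨y₀, rfl⟩, hd⟩ := Int.exists_greatest_of_bdd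
    (P := fun d => ∃ y, fibreIntegral f w y = d) ⟨|M| * N, fun d ⟨y, hy⟩ => hy ▸ hbdd y⟩
    ⟨_, Classical.arbitrary Y, rfl⟩
  exact ⟨y₀, fun y => hd _ ⟨y, rfl⟩⟩

end Groth.Agent.EtaleSplit
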