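import Mathlib
import Groth.Agent.EtaleSplit.Nbhd
import Groth.Agent.EtaleSplit.Weighting2
import Groth.Agent.Hensel.Sections

set_option autoImplicit false
set_option backward.isDefEq.respectTransparency false
set_option backward.defeqAttrib.useBackward true
set_option linter.style.haveILetI false

/-!
# Finite parts over Henselian local rings
-/

open AlgebraicGeometry CategoryTheory Limits IsLocalRing

universe u

namespace Groth.Agent.EtaleSplit

theorem eq_of_fst_snd {X T S : Scheme.{u}} (f : X ⟶ S) (g : T ⟶ S) (t : T)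
    (ht : Function.Bijective (g.residueFieldMap t)) (v w : ↑(pullback f g))
    (h1 : pullback.fst f g v = pullback.fst f g w) (hv : pullback.snd f g v = t)
    (hw : pullback.snd f g w = t) : v = w := by
  haveI : IsIso (g.residueFieldMap t) := (ConcreteCategory.isIso_iff_bijective _).mpr ht
  have hfx : g t = f (pullback.fst f g v) := by
    rw [← hv]; exact congr($(pullback.condition (f := f) (g := g)) v).symm
  let σ' : Spec (X.residueField (pullback.fst f g v)) ⟶ T :=
    Spec.map (inv (g.residueFieldMap t) ≫ (S.residueFieldCongr hfx).hom ≫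
      f.residueFieldMap _) ≫ T.fromSpecResidueField t
  have hσ' : X.fromSpecResidueField (pullback.fst f g v) ≫ f = σ' ≫ g := by
    simp only [σ', Category.assoc, ← Scheme.Hom.SpecMap_residueFieldMap_fromSpecResidueField,
      Spec.map_comp]
    rw [reassoc_of% (show Spec.map (inv (g.residueFieldMap t)) ≫ Spec.map (g.residueFieldMap t) =
      𝟙 _ by rw [← Spec.map_comp, IsIso.hom_inv_id, Spec.map_id])]
    rw [Scheme.residueFieldCongr_fromSpecResidueField]
  let σ := pullback.lift (X.fromSpecResidueField (pullback.fst f g v)) σ' hσ'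
  have hσt : pullback.snd f g (σ (closedPoint _)) = t := by
    rw [← Scheme.Hom.comp_apply, pullback.lift_snd, Scheme.Hom.comp_apply]
    exact Scheme.fromSpecResidueField_apply _ _
  exact (eq_of_section f g _ t ht σ (pullback.lift_fst _ _ _) hσt v rfl hv).trans
    (eq_of_section f g _ t ht σ (pullback.lift_fst _ _ _) hσt w h1.symm hw).symm

variable {A : Type u} [CommRing A]

theorem exists_lift_of_residue_bijective {K : Type u} [Field K] {T S : Scheme.{u}} (g : T ⟶ S)
    (t : T) (hbij : Function.Bijective (g.residueFieldMap t)) (q : Spec (.of K) ⟶ S)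
    (hq : g t = pt q) : ∃ qT : Spec (.of K) ⟶ T, qT ≫ g = q ∧ pt qT = t := by
  haveI : IsIso (g.residueFieldMap t) := (ConcreteCategory.isIso_iff_bijective _).mpr hbij
  refine ⟨Spec.map (inv (g.residueFieldMap t) ≫ (S.residueFieldCongr hq).hom ≫ emb q) ≫
    T.fromSpecResidueField t, ?_, ?_⟩
  swap
  · rw [pt_comp]
    exact Scheme.fromSpecResidueField_apply _ _
  simp only [Category.assoc, ← Scheme.Hom.SpecMap_residueFieldMap_fromSpecResidueField,
    Spec.map_comp]
  rw [reassoc_of% (show Spec.map (inv (g.residueFieldMap t)) ≫ Spec.map (g.residueFieldMap t) =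
    𝟙 _ by rw [← Spec.map_comp, IsIso.hom_inv_id, Spec.map_id])]
  rw [Scheme.residueFieldCongr_fromSpecResidueField, fromSpec_emb]

variable [IsLocalRing A]

theorem pt_residue :
    pt (Spec.map (CommRingCat.ofHom (residue A)) : Spec (.of (ResidueField A)) ⟶ _) =
      closedPoint A :=
  PrimeSpectrum.comap_residue A _

theorem exists_section_of_lift [HenselianRing A (maximalIdeal A)]
    {T : Scheme.{u}} (g : T ⟶ Spec (CommRingCat.of A)) [Etale g]
    (qT : Spec (.of (ResidueField A)) ⟶ T)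
    (hqT : qT ≫ g = Spec.map (CommRingCat.ofHom (residue A))) :
    ∃ u : Spec (CommRingCat.of A) ⟶ T, u ≫ g = 𝟙 _ ∧
      Spec.map (CommRingCat.ofHom (residue A)) ≫ u = qT := by
  obtain ⟨S, _, _, j, hj, ⟨p, hp⟩, hjg⟩ := Hensel.exists_affine_presentation g (pt qT)
  have het : Etale (Spec.map (CommRingCat.ofHom (algebraMap A S))) := by
    rw [← hjg]; infer_instance
  rw [HasRingHomProperty.Spec_iff (P := @Etale)] at het
  have : Algebra.Etale A S := RingHom.etale_algebraMap.1 het
  let ψ := IsOpenImmersion.lift j qT (by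
    rintro _ ⟨z, rfl⟩
    rw [pt_eq]
    exact ⟨p, hp⟩)
  have hψ : ψ ≫ j = qT := IsOpenImmersion.lift_fac _ _ _
  have hψ2 : CommRingCat.ofHom (algebraMap A S) ≫ Spec.preimage ψ =
      CommRingCat.ofHom (residue A) := by
    apply Spec.map_injective
    rw [Spec.map_comp, Spec.map_preimage, ← hjg, reassoc_of% hψ, hqT]
  let σ : S →ₐ[A] A ⧸ maximalIdeal A :=
    { toRingHom := (Spec.preimage ψ).hom
      commutes' := fun a => congr($(hψ2).hom a) }
  obtain ⟨τ, hτ⟩ := Hensel.exists_lift_of_etale σ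
  refine ⟨Spec.map (CommRingCat.ofHom τ.toRingHom) ≫ j, ?_, ?_⟩
  · rw [Category.assoc, hjg, ← Spec.map_comp, ← Spec.map_id]
    congr 1
    exact CommRingCat.hom_ext (RingHom.ext τ.commutes)
  · rw [← hψ, ← Spec.map_preimage ψ, ← Spec.map_comp_assoc]
    congr 2
    exact CommRingCat.hom_ext (congrArg AlgHom.toRingHom hτ)

theorem exists_section_of_residue_bijective [HenselianRing A (maximalIdeal A)]
    {T : Scheme.{u}} (g : T ⟶ Spec (CommRingCat.of A)) [Etale g] (t : T)
    (ht : g t = closedPoint A) (hbij : Function.Bijective (g.residueFieldMap t)) :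
    ∃ u : Spec (CommRingCat.of A) ⟶ T, u ≫ g = 𝟙 _ ∧ u (closedPoint A) = t := by
  obtain ⟨qT, hqT, hpt⟩ :=
    exists_lift_of_residue_bijective g t hbij _ (ht.trans pt_residue.symm)
  obtain ⟨u, hu, hu'⟩ := exists_section_of_lift g qT hqT
  refine ⟨u, hu, ?_⟩
  rw [← hpt, ← hu', pt_comp, pt_residue]

/-- Over a Henselian local base the points of the closed fibre lie in a finite clopen part. -/
theorem exists_finite_clopen_part [HenselianRing A (maximalIdeal A)]
    {X : Scheme.{u}} (f : X ⟶ Spec (CommRingCat.of A)) [LocallyOfFiniteType f] [QuasiCompact f]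
    [IsSeparated f] [LocallyQuasiFinite f] :
    ∃ U : X.Opens, IsClosed (U : Set X) ∧ IsFinite (U.ι ≫ f) ∧
      ∀ x : X, f x = closedPoint A → x ∈ U := by
  haveI : Finite (f ⁻¹' {closedPoint A}) := (f.finite_preimage_singleton _).to_subtype
  let x : Fin (Nat.card (f ⁻¹' {closedPoint A})) → X := fun i =>
    ((Finite.equivFin (f ⁻¹' {closedPoint A})).symm i).1
  obtain ⟨T, g, t, ⟨_, hgt, hbij⟩, V, v, hv⟩ :=
    exists_nbhd_finite_parts f (closedPoint A) x
      (fun i => ((Finite.equivFin (f ⁻¹' {closedPoint A})).symm i).2) (fun i => f.quasiFiniteAt _)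
  obtain ⟨s, hs, hst⟩ := exists_section_of_residue_bijective g t hgt hbij
  let m : X ⟶ pullback f g := pullback.lift (𝟙 X) (f ≫ s) (by simp [hs])
  have hm : IsPullback m f (pullback.snd f g) s := by
    refine IsPullback.of_right ?_ (pullback.lift_snd _ _ _) (IsPullback.of_hasPullback f g)
    rw [pullback.lift_fst, hs]
    exact IsPullback.of_horiz_isIso ⟨by simp⟩
  haveI : ∀ i, IsFinite ((m ⁻¹ᵁ V i).ι ≫ f) := fun i => by
    haveI := (hv i).2.1
    exact isFinite_preimage hm (V i)
  let U : X.Opens := ⨆ i, m ⁻¹ᵁ V i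
  refine ⟨U, ?_, ?_, ?_⟩
  · have : (U : Set X) = ⋃ i, ((m ⁻¹ᵁ V i : X.Opens) : Set X) := by simp [U]
    rw [this]
    exact isClosed_iUnion_of_finite fun i => isClosed_of_isFinite f _
  · have hfin : ∀ i, IsFinite ((U.ι ⁻¹ᵁ m ⁻¹ᵁ V i).ι ≫ U.ι ≫ f) := fun i => by
      have hr : Set.range ((U.ι ⁻¹ᵁ m ⁻¹ᵁ V i).ι ≫ U.ι) = Set.range (m ⁻¹ᵁ V i).ι := by
        ext z
        constructor
        · rintro ⟨a, rfl⟩; exact ⟨⟨_, a.2⟩, rfl⟩
        · rintro ⟨a, rfl⟩
          exact ⟨⟨⟨a.1, le_iSup (fun i => m ⁻¹ᵁ V i) i a.2⟩, a.2⟩, rfl⟩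
      rw [← Category.assoc,
        ← IsOpenImmersion.isoOfRangeEq_hom_fac ((U.ι ⁻¹ᵁ m ⁻¹ᵁ V i).ι ≫ U.ι) _ hr, Category.assoc]
      infer_instance
    exact isFinite_of_finite_cover _ (fun i => U.ι ⁻¹ᵁ m ⁻¹ᵁ V i) fun z =>
      (TopologicalSpace.Opens.mem_iSup (s := fun i => m ⁻¹ᵁ V i)).mp z.2
  · intro y hy
    let i := Finite.equivFin (f ⁻¹' {closedPoint A}) ⟨y, hy⟩
    refine TopologicalSpace.Opens.mem_iSup.mpr ⟨i, ?_⟩
    show m y ∈ V i
    have hmy : m y = v i := by
      refine eq_of_fst_snd f g t hbij _ _ ?_ ?_ (hv i).2.2.1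
      · rw [(hv i).2.2.2.2.1, ← Scheme.Hom.comp_apply, pullback.lift_fst]
        simp [x, i]
      · rw [← Scheme.Hom.comp_apply, pullback.lift_snd, Scheme.Hom.comp_apply, hy, hst]
    rw [hmy]
    exact (hv i).1

end Groth.Agent.EtaleSplit
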