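import Groth.Agent.EtaleSplit.FibreCount
import Groth.Agent.EtaleSplit.Weighting2

/-!
A weighting can be tested on finitely many étale charts: an étale `g : T ⟶ Y` with finitely many open
parts of `X ×_Y T`, finite over `T`, which split all the geometric points over some set of points of `T`.
-/

set_option autoImplicit false
set_option backward.isDefEq.respectTransparency false
set_option linter.style.haveILetI false

open AlgebraicGeometry CategoryTheory Limits Topology MoreMor TopologicalSpace

open scoped Topology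

universe u

noncomputable section

namespace Groth.Agent.EtaleSplit

section

variable {X Y T : Scheme.{u}} (f : X ⟶ Y) (g : T ⟶ Y) {ι : Type u} (V : ι → (pullback f g).Opens)

/-- The points over which every point lies in exactly one part and every part has at most one geometric
point. -/
def splitSet : Set T :=
  {t | (∀ l, fibreIntegral (pullback.snd f g) ((V l : Set ↑(pullback f g)).indicator 1) t ≤ 1) ∧
    ∀ z, pullback.snd f g z = t → ∃! l, z ∈ V l}

/-- The integral over one part. -/
def partInt (w : X → ℤ) (l : ι) (t : T) : ℤ :=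
  fibreIntegral (pullback.snd f g) ((V l : Set ↑(pullback f g)).indicator fun x => w (pullback.fst f g x)) t

variable [LocallyQuasiFinite f] [QuasiCompact f]

theorem mem_splitSet_baseChange {X' Y' T' : Scheme.{u}} {f' : X' ⟶ Y'} {g' : T' ⟶ Y'}
    {m : pullback f' g' ⟶ pullback f g} {φ : T' ⟶ T}
    (sq : IsPullback m (pullback.snd f' g') (pullback.snd f g) φ) {V' : ι → (pullback f' g').Opens}
    (hV : ∀ l, V' l = m ⁻¹ᵁ V l) (t' : T') :
    t' ∈ splitSet f' g' V' ↔ φ t' ∈ splitSet f g V := by
  haveI : LocallyQuasiFinite (pullback.snd f' g') := MorphismProperty.of_isPullback sq inferInstance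
  have h1 : ∀ l, fibreIntegral (pullback.snd f' g') ((V' l : Set ↑(pullback f' g')).indicator 1) t' =
      fibreIntegral (pullback.snd f g) ((V l : Set ↑(pullback f g)).indicator 1) (φ t') := by
    intro l
    rw [← fibreIntegral_baseChange sq ((V l : Set ↑(pullback f g)).indicator 1) t'
      (((pullback.snd f g).finite_preimage_singleton _).subset fun x hx => hx.2)]
    congr 1
    funext z
    rw [hV l]
    rfl
  simp only [splitSet, Set.mem_setOf_eq, h1]
  refine and_congr_right fun _ => ⟨fun h z hz => ?_, fun h z' hz' => ?_⟩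
  · obtain ⟨z'', h1', h2'⟩ := Scheme.Pullback.exists_preimage_pullback (f := pullback.snd f g) (g := φ) z t' hz
    have hz'1 : m (sq.isoPullback.inv z'') = z := by
      rw [← Scheme.Hom.comp_apply, sq.isoPullback_inv_fst]; exact h1'
    have hz'2 : pullback.snd f' g' (sq.isoPullback.inv z'') = t' := by
      rw [← Scheme.Hom.comp_apply, sq.isoPullback_inv_snd]; exact h2'
    generalize sq.isoPullback.inv z'' = z' at hz'1 hz'2
    obtain ⟨l, hl, hl'⟩ := h z' hz'2
    refine ⟨l, ?_, fun l₂ hl₂ => hl' l₂ ?_⟩
    · rw [hV l] at hl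
      rw [← hz'1]; exact hl
    · show z' ∈ V' l₂
      rw [hV l₂]
      show m z' ∈ V l₂
      rw [hz'1]; exact hl₂
  · have hz : pullback.snd f g (m z') = φ t' := by
      rw [← Scheme.Hom.comp_apply, sq.w, Scheme.Hom.comp_apply, hz']
    obtain ⟨l, hl, hl'⟩ := h (m z') hz
    refine ⟨l, ?_, fun l₂ hl₂ => hl' l₂ ?_⟩
    · show z' ∈ V' l
      rw [hV l]; exact hl
    · change z' ∈ V' l₂ at hl₂
      rw [hV l₂] at hl₂; exact hl₂

theorem partInt_baseChange {X' Y' T' : Scheme.{u}} {f' : X' ⟶ Y'} {g' : T' ⟶ Y'}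
    {m : pullback f' g' ⟶ pullback f g} {φ : T' ⟶ T}
    (sq : IsPullback m (pullback.snd f' g') (pullback.snd f g) φ) {V' : ι → (pullback f' g').Opens}
    (hV : ∀ l, V' l = m ⁻¹ᵁ V l) {w : X → ℤ} {w' : X' → ℤ}
    (hw : ∀ z, w' (pullback.fst f' g' z) = w (pullback.fst f g (m z))) (l : ι) (t' : T') :
    partInt f' g' V' w' l t' = partInt f g V w l (φ t') := by
  classical
  haveI : LocallyQuasiFinite (pullback.snd f' g') := MorphismProperty.of_isPullback sq inferInstance
  unfold partInt
  rw [← fibreIntegral_baseChange sq ((V l : Set ↑(pullback f g)).indicator fun x => w (pullback.fst f g x)) t'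
    (((pullback.snd f g).finite_preimage_singleton _).subset fun x hx => hx.2)]
  congr 1
  funext z
  simp only [Set.indicator_apply, hV l]
  rw [hw]
  rfl

theorem splitSet_eq : splitSet f g V =
    ((⋂ l, {t : T | (2 : ℕ) ≤ fibreIntegral (pullback.snd f g) ((V l : Set ↑(pullback f g)).indicator 1) t}ᶜ) ∩
      (pullback.snd f g '' (⋃ l, (V l : Set ↑(pullback f g)))ᶜ)ᶜ) ∩
      ⋂ p ∈ {p : ι × ι | p.1 ≠ p.2},
        (pullback.snd f g '' ((V p.1 : Set ↑(pullback f g)) ∩ (V p.2 : Set ↑(pullback f g))))ᶜ := by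
  ext t
  simp only [splitSet, Set.mem_setOf_eq, Set.mem_inter_iff, Set.mem_iInter, Set.mem_compl_iff, Set.mem_image,
    Set.mem_iUnion, not_exists, not_and, SetLike.mem_coe]
  constructor
  · rintro ⟨h1, h2⟩
    refine ⟨⟨fun l hl => ?_, fun z hz hzt => ?_⟩, fun p hp z hz hzt => ?_⟩
    · have := h1 l; omega
    · obtain ⟨l, hl, -⟩ := h2 z hzt
      exact hz l hl
    · obtain ⟨l, -, hl⟩ := h2 z hzt
      exact hp ((hl _ hz.1).trans (hl _ hz.2).symm)
  · rintro ⟨⟨h1, h2⟩, h3⟩
    refine ⟨fun l => by have := h1 l; omega, fun z hz => ?_⟩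
    by_contra hne
    refine h2 z (fun l hl => hne ⟨l, hl, fun l' hl' => ?_⟩) hz
    by_contra hll
    exact h3 (l', l) hll z ⟨hl', hl⟩ hz

variable [LocallyOfFinitePresentation f] [QuasiSeparated f] [CompactSpace T] [QuasiSeparatedSpace T] [Finite ι]

theorem isConstructible_splitSet (hV : ∀ l, IsCompact (V l : Set ↑(pullback f g))) :
    IsConstructible (splitSet f g V) := by
  haveI : QuasiSeparatedSpace ↑(pullback f g) := quasiSeparatedSpace_of_quasiSeparated (pullback.snd f g)
  have hc : ∀ l, IsConstructible (V l : Set ↑(pullback f g)) := fun l => (hV l).isConstructible (V l).isOpen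
  rw [splitSet_eq]
  refine ((IsConstructible.iInter fun l => (isConstructible_count _ (hc l) 2).compl).inter
    (Scheme.Hom.isConstructible_image _ (IsConstructible.iUnion hc).compl).compl).inter ?_
  exact IsConstructible.biInter (Set.toFinite _) fun p _ =>
    (Scheme.Hom.isConstructible_image _ ((hc p.1).inter (hc p.2))).compl

theorem isConstructible_partInt (hV : ∀ l, IsCompact (V l : Set ↑(pullback f g))) {w : X → ℤ}
    (hfin : (Set.range w).Finite) (hlev : ∀ v, IsConstructible {x | w x = v}) (l : ι) (n : ℤ) :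
    IsConstructible {t : T | partInt f g V w l t = n} := by
  classical
  haveI : QuasiSeparatedSpace ↑(pullback f g) := quasiSeparatedSpace_of_quasiSeparated (pullback.snd f g)
  haveI : CompactSpace ↑(pullback f g) := QuasiCompact.compactSpace_of_compactSpace (pullback.snd f g)
  have hl : IsConstructible (V l : Set ↑(pullback f g)) := (hV l).isConstructible (V l).isOpen
  refine isConstructible_fibreIntegral (pullback.snd f g) _ ?_ (fun v => ?_) n
  · refine (hfin.insert 0).subset ?_
    rintro _ ⟨z, rfl⟩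
    by_cases hz : z ∈ (V l : Set ↑(pullback f g))
    · rw [Set.indicator_of_mem hz]; exact Or.inr ⟨_, rfl⟩
    · rw [Set.indicator_of_notMem hz]; exact Or.inl rfl
  · have hfst : IsConstructible (pullback.fst f g ⁻¹' {x | w x = v}) :=
      (pullback.fst f g).isConstructible_preimage (hlev v)
    by_cases hv : v = 0
    · have : {z | (V l : Set ↑(pullback f g)).indicator (fun x => w (pullback.fst f g x)) z = v} =
          ((V l : Set ↑(pullback f g)) ∩ pullback.fst f g ⁻¹' {x | w x = v}) ∪ (V l : Set ↑(pullback f g))ᶜ := by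
        ext z
        by_cases hz : z ∈ (V l : Set ↑(pullback f g)) <;>
          simp_all [Set.indicator_apply]
      rw [this]
      exact (hl.inter hfst).union hl.compl
    · have : {z | (V l : Set ↑(pullback f g)).indicator (fun x => w (pullback.fst f g x)) z = v} =
          (V l : Set ↑(pullback f g)) ∩ pullback.fst f g ⁻¹' {x | w x = v} := by
        ext z
        by_cases hz : z ∈ (V l : Set ↑(pullback f g)) <;>
          simp_all [Set.indicator_apply, Ne.symm hv]
      rw [this]
      exact hl.inter hfst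

end

/-- A weighting is a function whose integrals over the parts of charts covering `Y` are locally constant. -/
theorem isWeighting_of_charts {X Y : Scheme.{u}} (f : X ⟶ Y) [LocallyQuasiFinite f] [LocallyOfFiniteType f]
    [QuasiCompact f] (w : X → ℤ)
    {K : Type*} (T : K → Scheme.{u}) (g : ∀ k, T k ⟶ Y) [∀ k, Etale (g k)] {ι : K → Type u} [∀ k, Finite (ι k)]
    (V : ∀ k, ι k → (pullback f (g k)).Opens) (hfin : ∀ k l, IsFinite ((V k l).ι ≫ pullback.snd f (g k)))
    (hcov : ∀ y : Y, ∃ k, ∃ t ∈ splitSet f (g k) (V k), g k t = y)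
    (hconst : ∀ k l, IsLocallyConstant (partInt f (g k) (V k) w l)) : IsWeighting f w := by
  classical
  intro V' g' _ U hU
  haveI := hU
  rw [IsLocallyConstant.iff_eventually_eq]
  intro v₀
  obtain ⟨k, t, ht, hgt⟩ := hcov (g' v₀)
  obtain ⟨p, hp1, hp2⟩ := Scheme.Pullback.exists_preimage_pullback (f := g') (g := g k) v₀ t hgt.symm
  let a := pullback.fst g' (g k)
  let b := pullback.snd g' (g k)
  let γ := a ≫ g'
  let m₁ := pullback.map f γ f g' (𝟙 X) a (𝟙 Y) (by simp) (by simp [γ])
  let m₂ := pullback.map f γ f (g k) (𝟙 X) b (𝟙 Y) (by simp) (by simp [γ, a, b, pullback.condition])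
  have sq₁ : IsPullback m₁ (pullback.snd f γ) (pullback.snd f g') a := isPullback_pullbackMap f g' γ a rfl
  have sq₂ : IsPullback m₂ (pullback.snd f γ) (pullback.snd f (g k)) b :=
    isPullback_pullbackMap f (g k) γ b pullback.condition.symm
  let W : ι k → (pullback f γ).Opens := fun l => m₂ ⁻¹ᵁ V k l
  haveI : IsFinite ((m₁ ⁻¹ᵁ U).ι ≫ pullback.snd f γ) := isFinite_preimage sq₁ U
  haveI : ∀ l, IsFinite ((W l).ι ≫ pullback.snd f γ) := fun l => by
    haveI := hfin k l
    exact isFinite_preimage sq₂ (V k l)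
  obtain ⟨hone, huniq⟩ := (mem_splitSet_baseChange f (g k) (V k) sq₂ (V' := W) (fun l => rfl) p).2 (hp2.symm ▸ ht)
  -- two points of one part over `p` coincide
  have hsub : ∀ l z z', z ∈ W l → z' ∈ W l → pullback.snd f γ z = p → pullback.snd f γ z' = p → z = z' := by
    intro l z z' hz hz' hzp hz'p
    by_contra hne
    have hmem : ∀ {a : ↑(pullback f γ)}, {x | ({a} : Set ↑(pullback f γ)).indicator (1 : ↑(pullback f γ) → ℤ) x ≠ 0 ∧
        pullback.snd f γ x = p}.Finite := fun {a} =>
      ((pullback.snd f γ).finite_preimage_singleton p).subset fun x hx => hx.2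
    have h2 := fibreIntegral_sum (pullback.snd f γ) (Finset.univ : Finset Bool)
      (({z, z'} : Set ↑(pullback f γ)).indicator 1)
      (fun b => bif b then ({z} : Set ↑(pullback f γ)).indicator 1 else ({z'} : Set ↑(pullback f γ)).indicator 1) p
      (fun b _ => by cases b <;> exact hmem)
      (fun x _ => by
        simp only [Fintype.sum_bool, cond_true, cond_false]
        by_cases h1 : x = z <;> by_cases h2 : x = z' <;> simp_all [Set.indicator_apply])
    simp only [Fintype.sum_bool, cond_true, cond_false] at h2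
    have hz1 := le_fibreIntegral (pullback.snd f γ) (({z} : Set ↑(pullback f γ)).indicator 1) z
      (fun a _ => Set.indicator_nonneg (fun _ _ => zero_le_one) a) (hzp ▸ hmem)
    have hz2 := le_fibreIntegral (pullback.snd f γ) (({z'} : Set ↑(pullback f γ)).indicator 1) z'
      (fun a _ => Set.indicator_nonneg (fun _ _ => zero_le_one) a) (hz'p ▸ hmem)
    rw [hzp] at hz1
    rw [hz'p] at hz2
    simp only [Set.indicator_of_mem (Set.mem_singleton _), Pi.one_apply] at hz1 hz2
    have h3 := fibreIntegral_mono (pullback.snd f γ) (({z, z'} : Set ↑(pullback f γ)).indicator 1)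
      ((W l : Set ↑(pullback f γ)).indicator 1) p
      (fun x _ => Set.indicator_le_indicator_of_subset (Set.insert_subset hz (Set.singleton_subset_iff.2 hz'))
        (fun _ => zero_le_one) x)
      (((pullback.snd f γ).finite_preimage_singleton p).subset fun x hx => hx.2)
      (((pullback.snd f γ).finite_preimage_singleton p).subset fun x hx => hx.2)
    have := hone l
    omega
  let J := {l : ι k // ∃ z, z ∈ W l ∧ pullback.snd f γ z = p ∧ z ∈ m₁ ⁻¹ᵁ U}
  haveI := Fintype.ofFinite J
  have hev := eventually_integral_eq_sum (pullback.snd f γ) (fun z => w (pullback.fst f γ z)) p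
    (m₁ ⁻¹ᵁ U) (fun l : J => W l.1)
    (fun x hxU hx => by
      obtain ⟨l, hl, -⟩ := huniq x hx
      exact ⟨⟨l, x, hl, hx, hxU⟩, hl⟩)
    (fun l x hxl hx => by
      obtain ⟨z, hz, hzp, hzU⟩ := l.2
      rw [hsub l.1 x z hxl hz hx hzp]; exact hzU)
    (fun l l' x hxl hxl' hx => Subtype.ext ((huniq x hx).unique hxl hxl'))
  have hW : ∀ᶠ v in 𝓝 p, ∀ l : J, partInt f γ W w l.1 v = partInt f γ W w l.1 p := by
    refine Filter.eventually_all.mpr fun l => ?_
    filter_upwards [b.continuous.continuousAt.eventually ((hconst k l.1).eventually_eq (b p))] with v hv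
    have e : ∀ z, w (pullback.fst f γ z) = w (pullback.fst f (g k) (m₂ z)) := fun z => by
      rw [← Scheme.Hom.comp_apply]; simp [m₂]
    rw [partInt_baseChange f (g k) (V k) sq₂ (fun l => rfl) e, partInt_baseChange f (g k) (V k) sq₂ (fun l => rfl) e]
    exact hv
  have hUv : ∀ v, fibreIntegral (pullback.snd f γ) ((m₁ ⁻¹ᵁ U : Set ↑(pullback f γ)).indicator
      fun z => w (pullback.fst f γ z)) v = fibreIntegral (pullback.snd f g')
        ((U : Set ↑(pullback f g')).indicator fun x => w (pullback.fst f g' x)) (a v) := fun v => by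
    rw [← fibreIntegral_baseChange sq₁ _ v (finite_support_indicator _ U _ _)]
    congr 1
    funext z
    have e : pullback.fst f g' (m₁ z) = pullback.fst f γ z := by
      rw [← Scheme.Hom.comp_apply]; simp [m₁]
    simp only [Set.indicator_apply, e]
    rfl
  have hconv : ∀ v, fibreIntegral (U.ι ≫ pullback.snd f g') (fun u => w (pullback.fst f g' (U.ι u))) v =
      fibreIntegral (pullback.snd f g') ((U : Set ↑(pullback f g')).indicator fun x => w (pullback.fst f g' x)) v :=
    fun v => fibreIntegral_open (pullback.snd f g') U (fun x => w (pullback.fst f g' x)) v (finite_fibre_open _ U v)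
  haveI : Etale a := inferInstance
  rw [← hp1, Filter.eventually_iff]
  refine Filter.mem_of_superset (a.isOpenMap.image_mem_nhds (hev.and hW)) ?_
  rintro _ ⟨v, ⟨hv1, hv2⟩, rfl⟩
  obtain ⟨ht1, -⟩ := (hev.and hW).self_of_nhds
  show fibreIntegral (U.ι ≫ pullback.snd f g') _ (a v) = _
  rw [hconv, hconv, ← hUv, ← hUv, hv1, ht1]
  exact Finset.sum_congr rfl fun l _ => hv2 l

/-- Every point of the base is split by an affine chart. -/
theorem exists_chart {X Y : Scheme.{u}} (f : X ⟶ Y) [LocallyQuasiFinite f] [LocallyOfFiniteType f]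
    [QuasiCompact f] (y : Y) :
    ∃ (T : Scheme.{u}) (g : T ⟶ Y) (ι : Type u) (_ : Finite ι) (V : ι → (pullback f g).Opens),
      IsAffine T ∧ Etale g ∧ (∀ l, IsFinite ((V l).ι ≫ pullback.snd f g)) ∧
      ∃ t ∈ splitSet f g V, g t = y := by
  classical
  let q := geomPt y
  haveI : Finite (GPts f q) := by
    have h := finite_gpts_over f q Set.univ ((f.finite_preimage_singleton (pt q)).subset fun _ hx => hx.2)
    exact Set.finite_univ_iff.mp (h.subset fun p _ => trivial)
  obtain ⟨T₀, g₀, qT, hqT, V, hg, hV⟩ := exists_split f q (fun i : GPts f q => i) (fun _ => ⊤)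
    (fun _ => trivial) (fun _ => f.quasiFiniteAt _)
  haveI := hg
  have hS : pt qT ∈ splitSet f g₀ V := by
    refine ⟨fun l => ?_, fun z hz => ?_⟩
    · rw [fibreIntegral_indicator_eq_card (pullback.snd f g₀) _ qT
        ((pullback.snd f g₀).finite_preimage_singleton _)]
      haveI hss : Subsingleton {r : GPts (pullback.snd f g₀) qT | pt r.1 ∈ (V l : Set ↑(pullback f g₀))} :=
        ⟨fun r r' => Subtype.ext (Subtype.ext (((hV l).2.2.2 r.1 r.2).trans ((hV l).2.2.2 r'.1 r'.2).symm))⟩
      exact_mod_cast Finite.card_le_one_iff_subsingleton.2 hss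
    · obtain ⟨r, rfl⟩ := exists_gpt (pullback.snd f g₀) qT z hz
      let i : GPts f q := ⟨r.1 ≫ pullback.fst f g₀, by
        rw [Category.assoc, pullback.condition, reassoc_of% r.2, hqT]⟩
      have hi : r.1 = pullback.lift i.1 qT (i.2.trans hqT.symm) := by
        apply pullback.hom_ext
        · rw [pullback.lift_fst]
        · rw [pullback.lift_snd, r.2]
      refine ⟨i, ?_, fun l hl => ?_⟩
      · show pt r.1 ∈ V i
        rw [hi]; exact (hV i).2.2.1
      · have h := (hV l).2.2.2 r hl
        refine Subtype.ext ?_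
        show l.1 = r.1 ≫ pullback.fst f g₀
        rw [h, pullback.lift_fst]
  obtain ⟨_, ⟨N : T₀.Opens, hN, rfl⟩, htN, -⟩ :=
    T₀.isBasis_affineOpens.exists_subset_of_mem_open (Set.mem_univ (pt qT)) isOpen_univ
  let g := N.ι ≫ g₀
  let m := pullback.map f g f g₀ (𝟙 X) N.ι (𝟙 Y) (by simp) (by simp [g])
  have sq : IsPullback m (pullback.snd f g) (pullback.snd f g₀) N.ι := isPullback_pullbackMap f g₀ g N.ι rfl
  refine ⟨N, g, GPts f q, inferInstance, fun l => m ⁻¹ᵁ V l, hN, inferInstance, fun l => ?_, ⟨pt qT, htN⟩, ?_, ?_⟩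
  · haveI := (hV l).1
    exact isFinite_preimage sq (V l)
  · exact (mem_splitSet_baseChange f g₀ V sq (fun l => rfl) _).2 hS
  · show g₀ (pt qT) = y
    rw [← pt_comp, hqT, pt_geomPt]

end Groth.Agent.EtaleSplit
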