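import Groth.Agent.EtaleSplit.Chart
import Groth.Agent.AffLim.Constructible
import Groth.Agent.AffLim.DescendMore
import Groth.Agent.FlatStage.Smooth
import Groth.Agent.FPModelLib.Affine
import Groth.Agent.FPModelLib.BaseId

/-!
Weightings of quasi-finite morphisms of affine schemes descend along cofiltered limits: charts and
constructible level sets come from the stages, and covering and local constancy hold at some stage.
-/

set_option autoImplicit false
set_option backward.isDefEq.respectTransparency false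
set_option linter.style.haveILetI false
set_option linter.unusedSectionVars false
set_option maxHeartbeats 1000000

open AlgebraicGeometry CategoryTheory Limits Topology MoreMor TopologicalSpace

universe u

noncomputable section

namespace Groth.Agent.EtaleSplit.Stage

open Groth.Agent

theorem cond {A B S A' B' S' : Scheme.{u}} {f : A ⟶ S} {g : B ⟶ S} {f' : A' ⟶ S'} {g' : B' ⟶ S'}
    {p : A' ⟶ A} {q : B' ⟶ B} {a : S' ⟶ S} (hA : IsPullback p f' f a) (hB : IsPullback q g' g a) :
    IsPullback (pullback.map f' g' f g p q a hA.w.symm hB.w.symm) (pullback.snd f' g') (pullback.snd f g) q := by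
  refine IsPullback.of_right ?_ (pullback.lift_snd _ _ _) (IsPullback.of_hasPullback f g)
  rw [pullback.lift_fst, hB.w]
  exact (IsPullback.of_hasPullback f' g').paste_horiz hA

theorem map_comp_map {A B S A' B' S' A'' B'' S'' : Scheme.{u}} {f : A ⟶ S} {g : B ⟶ S} {f' : A' ⟶ S'} {g' : B' ⟶ S'}
    {f'' : A'' ⟶ S''} {g'' : B'' ⟶ S''} {p : A' ⟶ A} {q : B' ⟶ B} {a : S' ⟶ S} (h1 h2)
    {p' : A'' ⟶ A'} {q' : B'' ⟶ B'} {a' : S'' ⟶ S'} (h1' h2') {p'' : A'' ⟶ A} {q'' : B'' ⟶ B} {a'' : S'' ⟶ S} (h1'' h2'')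
    (hp : p' ≫ p = p'') (hq : q' ≫ q = q'') :
    pullback.map f'' g'' f' g' p' q' a' h1' h2' ≫ pullback.map f' g' f g p q a h1 h2 =
      pullback.map f'' g'' f g p'' q'' a'' h1'' h2'' := by
  apply pullback.hom_ext
  · simp [pullback.map, hp]
  · simp [pullback.map, hq]

theorem exists_common {J : Type u} [Category.{u} J] [IsCofiltered J] {α : Type*} [Finite α] (j : α → J) :
    ∃ m : J, ∀ a, Nonempty (m ⟶ j a) := by
  classical
  haveI := Fintype.ofFinite α
  obtain ⟨m, hm⟩ := IsCofiltered.inf_objs_exists (Finset.univ.image j)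
  exact ⟨m, fun a => ⟨(hm (Finset.mem_image_of_mem _ (Finset.mem_univ a))).some⟩⟩

/-- Finitely many constructible sets carry constructible functions. -/
theorem levels_sum {α : Type*} [TopologicalSpace α] (s : Finset ℤ) (E : ℤ → Set α)
    (hE : ∀ v ∈ s, IsConstructible (E v)) :
    (Set.range fun x => ∑ v ∈ s, (E v).indicator (fun _ => v) x).Finite ∧
      ∀ n, IsConstructible {x | (∑ v ∈ s, (E v).indicator (fun _ => v) x) = n} := by
  classical
  induction s using Finset.induction_on with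
  | empty =>
    refine ⟨(Set.finite_singleton 0).subset (by rintro _ ⟨x, rfl⟩; simp), fun n => ?_⟩
    by_cases hn : n = 0
    · simp [hn]
    · simp [Ne.symm hn]
  | insert a s ha ih =>
    obtain ⟨hfin, hlev⟩ := ih fun v hv => hE v (Finset.mem_insert_of_mem hv)
    simp only [Finset.sum_insert ha]
    have hEa := hE a (Finset.mem_insert_self a s)
    refine ⟨((hfin.image fun y => a + y).union hfin).subset ?_, fun n => ?_⟩
    · rintro _ ⟨x, rfl⟩
      by_cases hx : x ∈ E a
      · exact Or.inl ⟨_, ⟨x, rfl⟩, by simp [hx]⟩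
      · exact Or.inr ⟨x, by simp [hx]⟩
    · have : {x | (E a).indicator (fun _ => a) x + ∑ v ∈ s, (E v).indicator (fun _ => v) x = n} =
          (E a ∩ {x | (∑ v ∈ s, (E v).indicator (fun _ => v) x) = n - a}) ∪
            ((E a)ᶜ ∩ {x | (∑ v ∈ s, (E v).indicator (fun _ => v) x) = n}) := by
        ext x
        by_cases hx : x ∈ E a
        · simp [hx, eq_sub_iff_add_eq']
        · simp [hx]
      rw [this]
      exact (hEa.inter (hlev _)).union (hEa.compl.inter (hlev _))

variable {I : Type u} [SmallCategory I] [IsCofiltered I] (D : I ⥤ Scheme.{u}) (c : Cone D)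
  [∀ i, IsAffine (D.obj i)] (i₀ : I) {X₀ X : Scheme.{u}} [IsAffine X₀] (f₀ : X₀ ⟶ D.obj i₀)
  {f : X ⟶ c.pt} {qX : X ⟶ X₀} (hX : IsPullback qX f f₀ (c.π.app i₀))

instance isAffineHom_map {i j : I} (a : i ⟶ j) : IsAffineHom (D.map a) := isAffineHom_of_isAffine _

/-- The base change to a stage. -/
abbrev fS (k : Over i₀) : (AffLim.baseChange D i₀ f₀).obj k ⟶ D.obj k.left := pullback.snd f₀ (D.map k.hom)

omit [IsCofiltered I] in
theorem fS_lim (k : Over i₀) :
    IsPullback (FlatStage.vMap D c i₀ f₀ hX k) f (fS D i₀ f₀ k) (c.π.app k.left) := by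
  refine IsPullback.of_right ?_ (FlatStage.vMap_snd D c i₀ f₀ hX k) (IsPullback.of_hasPullback f₀ (D.map k.hom))
  rw [FlatStage.vMap_fst, c.w]
  exact hX

omit [IsCofiltered I] in
theorem fS_map {l k : Over i₀} (a : l ⟶ k) :
    IsPullback ((AffLim.baseChange D i₀ f₀).map a) (fS D i₀ f₀ l) (fS D i₀ f₀ k) (D.map a.left) := by
  have h1 : (AffLim.baseChange D i₀ f₀).map a ≫ pullback.fst f₀ (D.map k.hom) = pullback.fst f₀ (D.map l.hom) := by
    simp [AffLim.baseChange]
  have h2 : (AffLim.baseChange D i₀ f₀).map a ≫ pullback.snd f₀ (D.map k.hom) =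
      pullback.snd f₀ (D.map l.hom) ≫ D.map a.left := by
    simp [AffLim.baseChange]
  refine IsPullback.of_right ?_ h2 (IsPullback.of_hasPullback f₀ (D.map k.hom))
  rw [h1, ← D.map_comp, Over.w a]
  exact IsPullback.of_hasPullback f₀ (D.map l.hom)

/-- A model at the stage `k` of a chart `(T, g, V)` of the limit. -/
structure Model {T : Scheme.{u}} (g : T ⟶ c.pt) {ι : Type u} (V : ι → (pullback f g).Opens)
    (k : Over i₀) : Type (u + 1) where
  obj : Scheme.{u}
  hom : obj ⟶ D.obj k.left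
  q : T ⟶ obj
  affine : IsAffine obj
  etale : Etale hom
  sq : IsPullback q g hom (c.π.app k.left)
  opens : ι → (pullback (fS D i₀ f₀ k) hom).Opens
  compact : ∀ l, IsCompact (opens l : Set ↑(pullback (fS D i₀ f₀ k) hom))
  hV : ∀ l, V l = pullback.map f g (fS D i₀ f₀ k) hom (FlatStage.vMap D c i₀ f₀ hX k) q (c.π.app k.left)
    (fS_lim D c i₀ f₀ hX k).w.symm sq.w.symm ⁻¹ᵁ opens l

variable {T : Scheme.{u}} {g : T ⟶ c.pt} {ι : Type u} {V : ι → (pullback f g).Opens}

variable {D c i₀ f₀ hX}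

namespace Model

variable {k l : Over i₀} (M : Model D c i₀ f₀ hX g V k)

/-- The comparison from the limit. -/
abbrev m : pullback f g ⟶ pullback (fS D i₀ f₀ k) M.hom :=
  pullback.map f g (fS D i₀ f₀ k) M.hom (FlatStage.vMap D c i₀ f₀ hX k) M.q (c.π.app k.left)
    (fS_lim D c i₀ f₀ hX k).w.symm M.sq.w.symm

theorem sq_m : IsPullback M.m (pullback.snd f g) (pullback.snd (fS D i₀ f₀ k) M.hom) M.q :=
  cond (fS_lim D c i₀ f₀ hX k) M.sq

/-- Push a model to a later stage. -/
def push (a : l ⟶ k) : Model D c i₀ f₀ hX g V l where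
  obj := pullback M.hom (D.map a.left)
  hom := pullback.snd M.hom (D.map a.left)
  q := pullback.lift M.q (g ≫ c.π.app l.left) (by rw [Category.assoc, c.w]; exact M.sq.w)
  affine := haveI := M.affine; inferInstance
  etale := haveI := M.etale; inferInstance
  sq := by
    refine IsPullback.of_right ?_ (pullback.lift_snd _ _ _) (IsPullback.of_hasPullback M.hom (D.map a.left))
    rw [pullback.lift_fst, c.w]
    exact M.sq
  opens i := pullback.map (fS D i₀ f₀ l) (pullback.snd M.hom (D.map a.left)) (fS D i₀ f₀ k) M.hom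
    ((AffLim.baseChange D i₀ f₀).map a) (pullback.fst M.hom (D.map a.left)) (D.map a.left)
    (fS_map D i₀ f₀ a).w.symm pullback.condition.symm ⁻¹ᵁ M.opens i
  compact i := by
    haveI := M.affine
    haveI : IsAffine ((AffLim.baseChange D i₀ f₀).obj l) :=
      inferInstanceAs (IsAffine (pullback f₀ (D.map l.hom)))
    haveI : IsAffine ((AffLim.baseChange D i₀ f₀).obj k) :=
      inferInstanceAs (IsAffine (pullback f₀ (D.map k.hom)))
    exact QuasiCompact.isCompact_preimage (f := pullback.map (fS D i₀ f₀ l) (pullback.snd M.hom (D.map a.left))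
      (fS D i₀ f₀ k) M.hom ((AffLim.baseChange D i₀ f₀).map a) (pullback.fst M.hom (D.map a.left)) (D.map a.left)
      (fS_map D i₀ f₀ a).w.symm pullback.condition.symm) _ (M.opens i).isOpen (M.compact i)
  hV i := by
    rw [← Scheme.Hom.comp_preimage]
    refine (M.hV i).trans (congrArg (fun φ => φ ⁻¹ᵁ M.opens i) ?_)
    exact (map_comp_map _ _ _ _ _ _ (FlatStage.vMap_map D c i₀ f₀ hX a) (pullback.lift_fst _ _ _)).symm

/-- The comparison between stages. -/
abbrev mMap (a : l ⟶ k) : pullback (fS D i₀ f₀ l) (M.push a).hom ⟶ pullback (fS D i₀ f₀ k) M.hom :=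
  pullback.map (fS D i₀ f₀ l) (pullback.snd M.hom (D.map a.left)) (fS D i₀ f₀ k) M.hom
    ((AffLim.baseChange D i₀ f₀).map a) (pullback.fst M.hom (D.map a.left)) (D.map a.left)
    (fS_map D i₀ f₀ a).w.symm pullback.condition.symm

theorem sq_mMap (a : l ⟶ k) : IsPullback (M.mMap a) (pullback.snd (fS D i₀ f₀ l) (M.push a).hom)
    (pullback.snd (fS D i₀ f₀ k) M.hom) (pullback.fst M.hom (D.map a.left)) :=
  cond (fS_map D i₀ f₀ a) (IsPullback.of_hasPullback M.hom (D.map a.left))

theorem isFinite_push (a : l ⟶ k) (i : ι) (h : IsFinite ((M.opens i).ι ≫ pullback.snd (fS D i₀ f₀ k) M.hom)) :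
    IsFinite (((M.push a).opens i).ι ≫ pullback.snd (fS D i₀ f₀ l) (M.push a).hom) := by
  haveI := h
  exact isFinite_preimage (M.sq_mMap a) (M.opens i)

end Model

variable (hc : IsLimit c)

include hc in
/-- A part which is finite in the limit is finite at some later stage. -/
theorem exists_finite_one [LocallyQuasiFinite f₀] [LocallyOfFinitePresentation f₀] {k : Over i₀}
    (M : Model D c i₀ f₀ hX g V k) (i : ι) (hfin : IsFinite ((V i).ι ≫ pullback.snd f g)) :
    ∃ (n : Over i₀) (φ : n ⟶ k),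
      IsFinite (((M.push φ).opens i).ι ≫ pullback.snd (fS D i₀ f₀ n) (M.push φ).hom) := by
  haveI := M.affine
  haveI : IsAffine ((AffLim.baseChange D i₀ f₀).obj k) :=
    inferInstanceAs (IsAffine (pullback f₀ (D.map k.hom)))
  haveI : CompactSpace ↥(M.opens i).toScheme := isCompact_iff_compactSpace.1 (M.compact i)
  haveI : QuasiSeparatedSpace ↥(M.opens i).toScheme :=
    QuasiSeparatedSpace.of_isOpenEmbedding (M.opens i).ι.isOpenEmbedding
  haveI : IsFinite ((M.m ⁻¹ᵁ M.opens i).ι ≫ pullback.snd f g) := (M.hV i) ▸ hfin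
  have hXi : IsPullback (M.m ∣_ M.opens i) ((M.m ⁻¹ᵁ M.opens i).ι ≫ pullback.snd f g)
      ((M.opens i).ι ≫ pullback.snd (fS D i₀ f₀ k) M.hom) M.q :=
    (isPullback_morphismRestrict M.m (M.opens i)).paste_vert M.sq_m
  obtain ⟨n, hn⟩ := AffLim.exists_isFinite_baseChange D c hc k.left
    ((M.opens i).ι ≫ pullback.snd (fS D i₀ f₀ k) M.hom) M.hom M.sq hXi
  let n' : Over i₀ := Over.mk (n.hom ≫ k.hom)
  let φ : n' ⟶ k := Over.homMk n.hom rfl
  refine ⟨n', φ, ?_⟩
  have h2 : IsPullback (M.mMap φ ∣_ M.opens i)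
      (((M.push φ).opens i).ι ≫ pullback.snd (fS D i₀ f₀ n') (M.push φ).hom)
      ((M.opens i).ι ≫ pullback.snd (fS D i₀ f₀ k) M.hom) (pullback.fst M.hom (D.map φ.left)) :=
    (isPullback_morphismRestrict (M.mMap φ) (M.opens i)).paste_vert (M.sq_mMap φ)
  exact (AffLim.prop_iff_of_isPullback @IsFinite
    (AffLim.isPullback_baseChangeMap D k.left _ M.hom n) h2 (Iso.refl _) (Category.id_comp _)).mp hn

include hc in
/-- A chart of the limit has a model with finite parts at some stage. -/
theorem exists_finite_model [LocallyQuasiFinite f₀] [LocallyOfFinitePresentation f₀] [IsAffine T] [Etale g]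
    [Finite ι] (hfin : ∀ i, IsFinite ((V i).ι ≫ pullback.snd f g)) :
    ∃ (k : Over i₀) (M : Model D c i₀ f₀ hX g V k),
      ∀ i, IsFinite ((M.opens i).ι ≫ pullback.snd (fS D i₀ f₀ k) M.hom) := by
  classical
  haveI : IsAffine c.pt := Scheme.isAffine_of_isLimit c hc
  -- the etale morphism
  obtain ⟨i, T₁, g₁, q₁, hT₁, hg₁, hsq₁⟩ := FPModelLib.exists_affine_model D c hc g
  haveI := hT₁; haveI := hg₁
  obtain ⟨k₁, hk₁⟩ := FlatStage.exists_etale D c i g₁ (𝟙 (D.obj i))
    (IsPullback.of_id_snd : IsPullback (c.π.app i) (𝟙 c.pt) (𝟙 (D.obj i)) (c.π.app i)) hsq₁ hc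
  haveI : Etale (pullback.snd g₁ (D.map k₁.hom)) := FPModelLib.prop_snd_of_baseChangeMap D g₁ k₁ hk₁
  obtain ⟨j, a, b, -⟩ := IsCofilteredOrEmpty.cone_objs i₀ k₁.left
  let k : Over i₀ := Over.mk a
  let g₂ := pullback.snd (pullback.snd g₁ (D.map k₁.hom)) (D.map b)
  let q₂ : T ⟶ pullback (pullback.snd g₁ (D.map k₁.hom)) (D.map b) :=
    pullback.lift (FlatStage.vMap D c i g₁ hsq₁ k₁) (g ≫ c.π.app j)
      (by rw [FlatStage.vMap_snd, Category.assoc, c.w])
  have hsq₂ : IsPullback q₂ g g₂ (c.π.app k.left) := by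
    refine IsPullback.of_right ?_ (pullback.lift_snd _ _ _) (IsPullback.of_hasPullback _ _)
    rw [pullback.lift_fst]
    show IsPullback _ g _ (c.π.app j ≫ D.map b)
    rw [c.w]
    refine IsPullback.of_right ?_ (FlatStage.vMap_snd D c i g₁ hsq₁ k₁) (IsPullback.of_hasPullback g₁ (D.map k₁.hom))
    rw [FlatStage.vMap_fst, c.w]
    exact hsq₁
  let m := pullback.map f g (fS D i₀ f₀ k) g₂ (FlatStage.vMap D c i₀ f₀ hX k) q₂ (c.π.app k.left)
    (fS_lim D c i₀ f₀ hX k).w.symm hsq₂.w.symm
  have hm : IsPullback m (pullback.snd f g) (pullback.snd (fS D i₀ f₀ k) g₂) q₂ :=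
    cond (fS_lim D c i₀ f₀ hX k) hsq₂
  -- the opens
  let e := pullback.snd (fS D i₀ f₀ k) g₂ ≫ g₂
  have he : IsPullback m (pullback.snd f g ≫ g) e (c.π.app k.left) := hm.paste_vert hsq₂
  haveI : ∀ i, CompactSpace ↥(V i).toScheme := fun i => by
    haveI := hfin i
    exact QuasiCompact.compactSpace_of_compactSpace ((V i).ι ≫ pullback.snd f g)
  obtain ⟨hcE⟩ := FlatStage.nonempty_isLimit_vCone D c k.left e he hc
  have hstage : ∀ i, ∃ (l : Over k.left) (W : ((AffLim.baseChange D k.left e).obj l).Opens),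
      IsCompact (W : Set ↑((AffLim.baseChange D k.left e).obj l)) ∧ FlatStage.vMap D c k.left e he l ⁻¹ᵁ W = V i := fun i => by
    obtain ⟨l, W, hWc, hW⟩ := exists_preimage_eq (AffLim.baseChange D k.left e) (FlatStage.vCone D c k.left e he) hcE
      (V i) (isCompact_iff_compactSpace.2 (show CompactSpace ↥(V i).toScheme from inferInstance))
    exact ⟨l, W, hWc, hW⟩
  choose ls W hWc hW using hstage
  obtain ⟨l, hl⟩ := exists_common ls
  let k' : Over i₀ := Over.mk (l.hom ≫ k.hom)
  let α : k' ⟶ k := Over.homMk l.hom rfl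
  let g₃ := pullback.snd g₂ (D.map l.hom)
  let ψ₀ : pullback (fS D i₀ f₀ k') g₃ ⟶ pullback (fS D i₀ f₀ k) g₂ :=
    pullback.map _ _ _ _ ((AffLim.baseChange D i₀ f₀).map α) (pullback.fst g₂ (D.map l.hom)) (D.map l.hom)
      (fS_map D i₀ f₀ α).w.symm pullback.condition.symm
  let ψ : pullback (fS D i₀ f₀ k') g₃ ⟶ (AffLim.baseChange D k.left e).obj l :=
    pullback.lift ψ₀ (pullback.snd (fS D i₀ f₀ k') g₃ ≫ g₃) (by
      simp only [e, ψ₀, pullback.lift_snd_assoc, Category.assoc]
      rw [pullback.condition])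
  let q₃ : T ⟶ pullback g₂ (D.map l.hom) :=
    pullback.lift q₂ (g ≫ c.π.app l.left) (by rw [Category.assoc, c.w]; exact hsq₂.w)
  have hsq₃ : IsPullback q₃ g g₃ (c.π.app k'.left) := by
    refine IsPullback.of_right ?_ (pullback.lift_snd _ _ _) (IsPullback.of_hasPullback _ _)
    rw [pullback.lift_fst]
    show IsPullback _ g _ (c.π.app l.left ≫ D.map l.hom)
    rw [c.w]; exact hsq₂
  have hψ : pullback.map f g (fS D i₀ f₀ k') g₃ (FlatStage.vMap D c i₀ f₀ hX k') q₃ (c.π.app k'.left)
      (fS_lim D c i₀ f₀ hX k').w.symm hsq₃.w.symm ≫ ψ = FlatStage.vMap D c k.left e he l := by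
    apply pullback.hom_ext
    · refine (Category.assoc _ _ _).trans ((congrArg (fun φ => _ ≫ φ) (pullback.lift_fst _ _ _)).trans ?_)
      refine Eq.trans ?_ (FlatStage.vMap_fst D c k.left e he l).symm
      exact map_comp_map _ _ _ _ _ _ (FlatStage.vMap_map D c i₀ f₀ hX α) (pullback.lift_fst _ _ _)
    · refine (Category.assoc _ _ _).trans ((congrArg (fun φ => _ ≫ φ) (pullback.lift_snd _ _ _)).trans ?_)
      refine Eq.trans ?_ (FlatStage.vMap_snd D c k.left e he l).symm
      refine ((Category.assoc _ _ _).symm.trans (congrArg (· ≫ g₃) (pullback.lift_snd _ _ _))).trans ?_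
      simp [q₃, g₃]
  haveI : Etale g₂ := inferInstance
  let M : Model D c i₀ f₀ hX g V k' :=
    { obj := pullback g₂ (D.map l.hom)
      hom := g₃
      q := q₃
      affine := inferInstance
      etale := inferInstance
      sq := hsq₃
      opens := fun i => ψ ⁻¹ᵁ ((AffLim.baseChange D k.left e).map (hl i).some ⁻¹ᵁ W i)
      compact := fun i => by
        haveI : ∀ j : Over i₀, IsAffine ((AffLim.baseChange D i₀ f₀).obj j) := fun j =>
          inferInstanceAs (IsAffine (pullback f₀ (D.map j.hom)))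
        haveI : ∀ j : Over k.left, IsAffine ((AffLim.baseChange D k.left e).obj j) := fun j =>
          inferInstanceAs (IsAffine (pullback e (D.map j.hom)))
        exact QuasiCompact.isCompact_preimage (f := ψ)
          ((AffLim.baseChange D k.left e).map (hl i).some ⁻¹ᵁ W i : Set ↑((AffLim.baseChange D k.left e).obj l))
          (Opens.isOpen _)
          (QuasiCompact.isCompact_preimage (f := (AffLim.baseChange D k.left e).map (hl i).some) _ (W i).isOpen (hWc i))
      hV := fun i => by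
        rw [← Scheme.Hom.comp_preimage, hψ, ← Scheme.Hom.comp_preimage, FlatStage.vMap_map, hW i] }
  -- finiteness of the parts
  haveI := Fintype.ofFinite ι
  suffices h : ∀ s : Finset ι, ∃ (n : Over i₀) (N : Model D c i₀ f₀ hX g V n),
      ∀ i ∈ s, IsFinite ((N.opens i).ι ≫ pullback.snd (fS D i₀ f₀ n) N.hom) by
    obtain ⟨n, N, hN⟩ := h Finset.univ
    exact ⟨n, N, fun i => hN i (Finset.mem_univ i)⟩
  intro s
  induction s using Finset.induction_on with
  | empty => exact ⟨k', M, fun i hi => absurd hi (Finset.notMem_empty i)⟩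
  | insert i s hi ih =>
    obtain ⟨n, N, hN⟩ := ih
    obtain ⟨n', φ, hφ⟩ := exists_finite_one hc N i (hfin i)
    refine ⟨n', N.push φ, fun i' hi' => ?_⟩
    rcases Finset.mem_insert.1 hi' with rfl | h
    · exact hφ
    · exact N.isFinite_push φ i' (hN i' h)

end Groth.Agent.EtaleSplit.Stage
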