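import Groth.Agent.EtaleSplit.Bound
import Groth.Agent.FlatLocus.FibreCrit
import Mathlib

/-!
Constructibility of the number of geometric points of a constructible set in the fibres.
-/

set_option autoImplicit false
set_option backward.isDefEq.respectTransparency false
set_option linter.style.haveILetI false

open AlgebraicGeometry CategoryTheory Limits Topology MoreMor

universe u

noncomputable section

namespace Groth.Agent.EtaleSplit

variable {X Y : Scheme.{u}} (f : X ⟶ Y)

theorem exists_power [LocallyOfFinitePresentation f] [QuasiCompact f] [QuasiSeparated f] :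
    ∀ k : ℕ, ∃ (P : Scheme.{u}) (π : P ⟶ Y) (_ : LocallyOfFinitePresentation π) (_ : QuasiCompact π)
      (_ : QuasiSeparated π) (pr : Fin k → (P ⟶ X)), (∀ i, pr i ≫ f = π) ∧
        ∀ (Ω : Type u) [Field Ω] (q : Spec (.of Ω) ⟶ Y) (p : Fin k → GPts f q),
          ∃ r : Spec (.of Ω) ⟶ P, r ≫ π = q ∧ ∀ i, r ≫ pr i = (p i).1 := by
  intro k
  induction k with
  | zero =>
    exact ⟨Y, 𝟙 Y, inferInstance, inferInstance, inferInstance, Fin.elim0, fun i => i.elim0,
      fun _ _ q _ => ⟨q, Category.comp_id _, fun i => i.elim0⟩⟩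
  | succ k ih =>
    obtain ⟨P, π, h1, h2, h3, pr, hpr, hlift⟩ := ih
    refine ⟨pullback π f, pullback.fst π f ≫ π, inferInstance, inferInstance, inferInstance,
      Fin.cons (pullback.snd π f) (fun i => pullback.fst π f ≫ pr i), fun i => ?_, fun Ω _ q p => ?_⟩
    · induction i using Fin.cases with
      | zero => rw [Fin.cons_zero, pullback.condition]
      | succ i => rw [Fin.cons_succ, Category.assoc, hpr]
    · obtain ⟨r, hr, hr'⟩ := hlift Ω q (fun i => p i.succ)
      refine ⟨pullback.lift r (p 0).1 (hr.trans (p 0).2.symm), ?_, fun i => ?_⟩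
      · rw [pullback.lift_fst_assoc, hr]
      · induction i using Fin.cases with
        | zero => rw [Fin.cons_zero, pullback.lift_snd]
        | succ i => rw [Fin.cons_succ, pullback.lift_fst_assoc, hr']

/-- The integral of an indicator counts geometric points. -/
theorem fibreIntegral_indicator_eq_card [LocallyQuasiFinite f] {Ω : Type u} [Field Ω] [IsAlgClosed Ω]
    (E : Set X) (q : Spec (.of Ω) ⟶ Y) (hfin : (f ⁻¹' {pt q}).Finite) :
    fibreIntegral f (E.indicator 1) (pt q) = (Nat.card {p : GPts f q | pt p.1 ∈ E} : ℤ) := by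
  classical
  have hA : {x | x ∈ E ∧ f x = pt q}.Finite := hfin.subset fun x hx => hx.2
  have h : {p : GPts f q | pt p.1 ∈ E}.Finite := finite_gpts_over f q E hA
  rw [← gint_eq f _ q (hfin.subset fun x hx => hx.2), gint,
    finsum_eq_sum_of_support_subset _ (s := h.toFinset) (by intro p hp; simpa using hp),
    Nat.card_coe_set_eq, Set.ncard_eq_toFinset_card _ h, Finset.cast_card]
  refine Finset.sum_congr rfl fun p hp => ?_
  rw [Set.indicator_of_mem (show pt p.1 ∈ E from (Set.Finite.mem_toFinset h).1 hp)]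
  rfl

theorem exists_equalizer {P : Scheme.{u}} (a b : P ⟶ X) (h : a ≫ f = b ≫ f) [LocallyOfFinitePresentation f]
    [QuasiSeparated f] :
    ∃ (Z : Scheme.{u}) (ι : Z ⟶ P), LocallyOfFinitePresentation ι ∧ QuasiCompact ι ∧ ι ≫ a = ι ≫ b ∧
      ∀ {T : Scheme.{u}} (r : T ⟶ P), r ≫ a = r ≫ b → ∃ t : T ⟶ Z, t ≫ ι = r := by
  haveI : LocallyOfFinitePresentation (pullback.diagonal f ≫ pullback.fst f f) := by
    rw [pullback.diagonal_fst]; infer_instance
  haveI : LocallyOfFinitePresentation (pullback.diagonal f) :=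
    FlatLocus.locallyOfFinitePresentation_of_comp (pullback.diagonal f) (pullback.fst f f)
  haveI : QuasiCompact (pullback.diagonal f) := QuasiSeparated.quasiCompact_diagonal
  refine ⟨pullback (pullback.lift a b h) (pullback.diagonal f), pullback.fst _ _, inferInstance, inferInstance,
    ?_, fun r hr => ⟨pullback.lift r (r ≫ a) ?_, pullback.lift_fst _ _ _⟩⟩
  · have h0 := pullback.condition (f := pullback.lift a b h) (g := pullback.diagonal f)
    have h1 := congrArg (· ≫ pullback.fst f f) h0
    have h2 := congrArg (· ≫ pullback.snd f f) h0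
    simp only [Category.assoc, pullback.lift_fst, pullback.lift_snd, pullback.diagonal_fst,
      pullback.diagonal_snd, Category.comp_id] at h1 h2
    rw [h1, h2]
  · apply pullback.hom_ext <;> simp [hr]

theorem eq_of_mem_range {Z P : Scheme.{u}} (ι : Z ⟶ P) (a b : P ⟶ X) (he : ι ≫ a = ι ≫ b) {Ω : Type u} [Field Ω]
    (r : Spec (.of Ω) ⟶ P) (hr : pt r ∈ Set.range ι) : r ≫ a = r ≫ b := by
  obtain ⟨z, hz⟩ := hr
  obtain ⟨w, -, hw⟩ := Scheme.Pullback.exists_preimage_pullback (f := ι) (g := r) z
    (IsLocalRing.closedPoint Ω) hz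
  let t : Spec ((pullback ι r).residueField w) ⟶ pullback ι r := (pullback ι r).fromSpecResidueField w
  let k : Spec ((pullback ι r).residueField w) ⟶ Spec (CommRingCat.of Ω) := t ≫ pullback.snd ι r
  haveI : Flat k := by
    rw [← Spec.map_preimage k]
    refine HasRingHomProperty.Spec_iff.2 ?_
    letI := (Spec.preimage k).hom.toAlgebra
    exact RingHom.flat_algebraMap_iff.2 (inferInstance : Module.Flat Ω _)
  haveI : Surjective k := ⟨fun y => ⟨IsLocalRing.closedPoint _, Subsingleton.elim _ _⟩⟩
  haveI : Epi k := Flat.epi_of_flat_of_surjective k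
  have hk : k ≫ r = (t ≫ pullback.fst ι r) ≫ ι := by
    simp only [k, Category.assoc, pullback.condition]
  rw [← cancel_epi k, ← Category.assoc, ← Category.assoc, hk]
  simp only [Category.assoc, he]

theorem isConstructible_count [CompactSpace Y] [QuasiSeparatedSpace Y]
    [LocallyQuasiFinite f] [LocallyOfFinitePresentation f] [QuasiCompact f] [QuasiSeparated f]
    {E : Set X} (hE : IsConstructible E) (k : ℕ) :
    IsConstructible {y : Y | (k : ℤ) ≤ fibreIntegral f (E.indicator 1) y} := by
  classical
  obtain ⟨P, π, h1, h2, h3, pr, hpr, hlift⟩ := exists_power f k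
  haveI : CompactSpace P := QuasiCompact.compactSpace_of_compactSpace π
  haveI : QuasiSeparatedSpace P := quasiSeparatedSpace_of_quasiSeparated π
  choose Z ι hι1 hι2 hι3 hι4 using fun ij : Fin k × Fin k =>
    exists_equalizer f (pr ij.1) (pr ij.2) ((hpr ij.1).trans (hpr ij.2).symm)
  let W : Set P := (⋂ i, pr i ⁻¹' E) ∩
    ⋂ ij ∈ (Finset.univ.filter fun ij : Fin k × Fin k => ij.1 ≠ ij.2), (Set.range (ι ij))ᶜ
  have hW : IsConstructible W := (IsConstructible.iInter fun i => Scheme.Hom.isConstructible_preimage (pr i) hE).inter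
    (IsConstructible.biInter (Finset.finite_toSet _) fun ij _ => by
      haveI := hι1 ij; haveI := hι2 ij
      rw [← Set.image_univ]
      exact (Scheme.Hom.isConstructible_image (ι ij) IsConstructible.univ).compl)
  suffices h : {y : Y | (k : ℤ) ≤ fibreIntegral f (E.indicator 1) y} = π '' W by
    rw [h]; exact Scheme.Hom.isConstructible_image π hW
  ext y
  constructor
  · intro hy
    have hy' : (k : ℤ) ≤ fibreIntegral f (E.indicator 1) (pt (geomPt y)) := by rwa [pt_geomPt]
    rw [fibreIntegral_indicator_eq_card f E _ (f.finite_preimage_singleton _), Nat.cast_le] at hy'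
    haveI : Finite {p : GPts f (geomPt y) | pt p.1 ∈ E} :=
      (finite_gpts_over f _ E ((f.finite_preimage_singleton _).subset fun x hx => hx.2)).to_subtype
    haveI := Fintype.ofFinite {p : GPts f (geomPt y) | pt p.1 ∈ E}
    obtain ⟨φ⟩ := Function.Embedding.nonempty_of_card_le (α := Fin k) (β := {p : GPts f (geomPt y) | pt p.1 ∈ E})
      (by simpa [Nat.card_eq_fintype_card] using hy')
    obtain ⟨r, hr, hr'⟩ := hlift _ (geomPt y) (fun i => (φ i).1)
    refine ⟨pt r, ⟨Set.mem_iInter.2 fun i => ?_, Set.mem_iInter₂.2 fun ij hij hmem => ?_⟩, ?_⟩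
    · show pr i (pt r) ∈ E
      rw [← pt_comp, hr' i]
      exact (φ i).2
    · have := eq_of_mem_range (ι ij) _ _ (hι3 ij) r hmem
      rw [hr', hr'] at this
      exact (Finset.mem_filter.1 hij).2 (φ.injective (Subtype.ext (Subtype.ext this)))
    · rw [← pt_comp, hr, pt_geomPt]
  · rintro ⟨w, ⟨hwE, hwD⟩, rfl⟩
    have hq : pt (geomPt w ≫ π) = π w := by rw [pt_comp, pt_geomPt]
    show (k : ℤ) ≤ fibreIntegral f (E.indicator 1) (π w)
    rw [← hq, fibreIntegral_indicator_eq_card f E _ (f.finite_preimage_singleton _), Nat.cast_le]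
    haveI : Finite {p : GPts f (geomPt w ≫ π) | pt p.1 ∈ E} :=
      (finite_gpts_over f _ E ((f.finite_preimage_singleton _).subset fun x hx => hx.2)).to_subtype
    refine le_of_eq_of_le (Nat.card_fin k).symm (Nat.card_le_card_of_injective (fun i =>
      ⟨⟨geomPt w ≫ pr i, by rw [Category.assoc, hpr]⟩, ?_⟩) ?_)
    · show pt (geomPt w ≫ pr i) ∈ E
      rw [pt_comp, pt_geomPt]
      exact Set.mem_iInter.1 hwE i
    · intro i j hij
      by_contra hne
      obtain ⟨t, ht⟩ := hι4 (i, j) (geomPt w) (congrArg (fun p => p.1.1) hij)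
      refine Set.mem_iInter₂.1 hwD (i, j) (Finset.mem_filter.2 ⟨Finset.mem_univ _, hne⟩) ⟨pt t, ?_⟩
      rw [← pt_comp, ht, pt_geomPt]

/-- The fibre integral of a function with finitely many constructible level sets is constructible. -/
theorem isConstructible_fibreIntegral [CompactSpace Y] [QuasiSeparatedSpace Y]
    [LocallyQuasiFinite f] [LocallyOfFinitePresentation f] [QuasiCompact f] [QuasiSeparated f]
    (w : X → ℤ) (hw : (Set.range w).Finite) (hwc : ∀ v, IsConstructible {x | w x = v}) (n : ℤ) :
    IsConstructible {y : Y | fibreIntegral f w y = n} := by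
  classical
  haveI : CompactSpace X := QuasiCompact.compactSpace_of_compactSpace f
  obtain ⟨N, hN⟩ := exists_bound_gpts f
  let c : ℤ → Y → ℤ := fun v y => fibreIntegral f ({x | w x = v}.indicator 1) y
  have hsum : ∀ y, fibreIntegral f w y = ∑ v ∈ hw.toFinset, v * c v y := by
    intro y
    rw [fibreIntegral_sum f hw.toFinset w (fun v x => v * ({x | w x = v}.indicator 1 x)) y
      (fun v _ => (f.finite_preimage_singleton y).subset fun x hx => hx.2) fun x _ => by
        rw [Finset.sum_eq_single (w x)]
        · simp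
        · intro v _ hv
          simp [Ne.symm hv]
        · intro hx; exact absurd (hw.mem_toFinset.2 ⟨x, rfl⟩) hx]
    refine Finset.sum_congr rfl fun v _ => ?_
    simp only [c, fibreIntegral, mul_assoc]
    exact (mul_finsum _ _).symm
  have hc : ∀ v y, 0 ≤ c v y ∧ c v y ≤ N := by
    intro v y
    have hy : c v y = _ := (congrArg (fibreIntegral f _) (pt_geomPt y).symm).trans
      (fibreIntegral_indicator_eq_card f {x | w x = v} (geomPt y) (f.finite_preimage_singleton _))
    rw [hy]
    refine ⟨Int.natCast_nonneg _, Nat.cast_le.2 ?_⟩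
    obtain ⟨hfin, hle⟩ := hN _ (geomPt y)
    exact (Nat.card_le_card_of_injective _ Subtype.val_injective).trans hle
  have hcm : ∀ v (m : ℕ), IsConstructible {y | c v y = m} := by
    intro v m
    have : {y | c v y = m} = {y | (m : ℤ) ≤ c v y} \ {y | ((m + 1 : ℕ) : ℤ) ≤ c v y} := by
      ext y; simp only [Set.mem_sdiff, Set.mem_setOf_eq]; omega
    rw [this]
    exact (isConstructible_count f (hwc v) m).sdiff (isConstructible_count f (hwc v) (m + 1))
  have heq : {y : Y | fibreIntegral f w y = n} =
      ⋃ g ∈ (Finset.univ.filter fun g : hw.toFinset → Fin (N + 1) => ∑ v : hw.toFinset, (v : ℤ) * (g v : ℕ) = n),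
        ⋂ v : hw.toFinset, {y | c v y = (g v : ℕ)} := by
    ext y
    simp only [Set.mem_setOf_eq, Set.mem_iUnion, Set.mem_iInter, Finset.mem_filter, Finset.mem_univ, true_and,
      exists_prop]
    rw [hsum, ← Finset.sum_coe_sort]
    constructor
    · intro h
      refine ⟨fun v => ⟨(c v y).toNat, by have := hc v y; omega⟩, ?_, fun v => ?_⟩
      · rw [← h]
        exact Finset.sum_congr rfl fun v _ => by rw [Int.toNat_of_nonneg (hc v y).1]
      · rw [Int.toNat_of_nonneg (hc v y).1]
    · rintro ⟨g, hg, hv⟩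
      rw [← hg]
      exact Finset.sum_congr rfl fun v _ => by rw [hv v]
  rw [heq]
  exact IsConstructible.biUnion (Finset.finite_toSet _) fun g _ => IsConstructible.iInter fun v => hcm v _

theorem IsWeighting.finite_range [CompactSpace X] [LocallyQuasiFinite f] [LocallyOfFiniteType f]
    {w : X → ℤ} (hw : IsWeighting f w) : (Set.range w).Finite := by
  classical
  obtain ⟨t, ht⟩ := isCompact_univ.elim_finite_subcover (fun O : X.affineOpens => ((O : X.Opens) : Set X))
    (fun O => O.1.isOpen) fun x _ => by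
      obtain ⟨O, hO, hx, -⟩ := exists_isAffineOpen_mem_and_subset (TopologicalSpace.Opens.mem_top x)
      exact Set.mem_iUnion.2 ⟨⟨O, hO⟩, hx⟩
  refine (Set.Finite.biUnion t.finite_toSet fun O _ => (IsWeighting.finite_values hw O.1 O.2).1).subset ?_
  rintro _ ⟨x, rfl⟩
  obtain ⟨O, hO, hx⟩ := Set.mem_iUnion₂.1 (ht (Set.mem_univ x))
  exact Set.mem_iUnion₂.2 ⟨O, hO, x, hx, rfl⟩

theorem isLocallyConstructible_fibreIntegral [LocallyQuasiFinite f] [LocallyOfFinitePresentation f]
    [QuasiCompact f] [QuasiSeparated f] {w : X → ℤ} (hw : IsWeighting f w) (n : ℤ) :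
    IsLocallyConstructible {y : Y | fibreIntegral f w y = n} := by
  refine IsLocallyConstructible.of_isOpenCover (U := fun U : Y.affineOpens => (U : Y.Opens))
    (iSup_affineOpens_eq_top Y) fun U => ?_
  haveI : CompactSpace U.1.toScheme := isCompact_iff_compactSpace.1 U.2.isCompact
  haveI : IsAffine U.1.toScheme := U.2
  let f' := pullback.snd f U.1.ι
  have hsq : IsPullback (pullback.fst f U.1.ι) f' f U.1.ι := IsPullback.of_hasPullback _ _
  haveI : CompactSpace ↥(pullback f U.1.ι) := QuasiCompact.compactSpace_of_compactSpace f'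
  haveI : QuasiSeparatedSpace ↥(pullback f U.1.ι) := quasiSeparatedSpace_of_quasiSeparated f'
  have hw' := IsWeighting.baseChange hw hsq
  have key := isConstructible_fibreIntegral f' _ (IsWeighting.finite_range f' hw')
    (fun v => (IsWeighting.isLocallyConstructible hw' v).isConstructible) n
  have e : {u : U.1.toScheme | fibreIntegral f' (fun x => w (pullback.fst f U.1.ι x)) u = n} =
      U.1.ι ⁻¹' {y : Y | fibreIntegral f w y = n} := by
    ext u
    simp only [Set.mem_setOf_eq, Set.mem_preimage]
    rw [fibreIntegral_baseChange hsq w u ((f.finite_preimage_singleton _).subset fun x hx => hx.2)]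
  exact (e ▸ key).isLocallyConstructible

end Groth.Agent.EtaleSplit
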