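import Groth.Agent.EtaleSplit.Nbhd
import Groth.Agent.ASp.CellExist

/-!
# Splitting off finite clopen parts over elementary étale neighbourhoods (separated case)
-/

set_option autoImplicit false
set_option backward.isDefEq.respectTransparency false
set_option linter.style.haveILetI false

open AlgebraicGeometry CategoryTheory Limits Topology

universe u

namespace Groth.Agent.EtaleSplit

variable {X S : Scheme.{u}} (f : X ⟶ S)

/-- Quasi-finite points are the isolated points of their fibres. -/
theorem isOpen_singleton_iff_quasiFiniteAt [LocallyOfFiniteType f] (s : S) (z : f.fiber s) :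
    IsOpen ({z} : Set ↑(f.fiber s)) ↔ f.QuasiFiniteAt (f.fiberι s z) := by
  obtain ⟨x, hx⟩ : ∃ x, f.fiberι s z = x := ⟨_, rfl⟩
  have hs : f x = s := hx ▸ (Set.ext_iff.1 (f.range_fiberι s) _).1 ⟨z, rfl⟩
  subst hs
  have hz : z = f.asFiber x := (f.fiberι (f x)).isEmbedding.injective (by rw [hx, f.fiberι_asFiber])
  rw [hx, hz]
  exact Scheme.Hom.quasiFiniteAt_iff_isOpen_singleton_asFiber.symm

/-- Over a point with trivial residue field extension there is exactly one point above a given point. -/
theorem eq_of_residue_bijective {U : Scheme.{u}} (g : U ⟶ S) (t : U) (ht : Function.Bijective (g.residueFieldMap t))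
    (v w : ↑(pullback f g)) (hv : pullback.snd f g v = t)
    (hbij : Function.Bijective ((pullback.fst f g).residueFieldMap v))
    (hw1 : pullback.fst f g w = pullback.fst f g v) (hw2 : pullback.snd f g w = t) : w = v := by
  haveI : IsIso ((pullback.fst f g).residueFieldMap v) := (ConcreteCategory.isIso_iff_bijective _).mpr hbij
  let σ : Spec (X.residueField (pullback.fst f g v)) ⟶ pullback f g :=
    Spec.map (inv ((pullback.fst f g).residueFieldMap v)) ≫ (pullback f g).fromSpecResidueField v
  have hσv : σ (IsLocalRing.closedPoint _) = v := by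
    rw [Scheme.Hom.comp_apply, Scheme.fromSpecResidueField_apply]
  have hσ : σ ≫ pullback.fst f g = X.fromSpecResidueField (pullback.fst f g v) := by
    rw [Category.assoc, ← Scheme.Hom.SpecMap_residueFieldMap_fromSpecResidueField, ← Category.assoc,
      ← Spec.map_comp, IsIso.hom_inv_id, Spec.map_id, Category.id_comp]
  rw [← hσv]
  exact eq_of_section f g _ t ht σ hσ (by rw [hσv, hv]) w hw1 hw2

/-- A finite open part of a separated morphism is closed. -/
theorem isClosed_of_isFinite_comp [IsSeparated f] (V : X.Opens) [IsFinite (V.ι ≫ f)] : IsClosed (V : Set X) := by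
  haveI : IsFinite V.ι := IsFinite.of_comp _ f
  simpa using V.ι.isClosedMap.isClosed_range

/-- Clopen finite parts through finitely many quasi-finite points, containing every point over them. -/
theorem exists_clopen_finite [LocallyOfFiniteType f] [IsSeparated f] (s : S) {ι : Type} [Finite ι] (x : ι → X)
    (hs : ∀ i, f (x i) = s) (hx : ∀ i, f.QuasiFiniteAt (x i)) :
    ∃ (U : Scheme.{u}) (g : U ⟶ S) (t : U), Hens2.IsEtaleNbhd g t s ∧
      ∃ (V : (pullback f g).Opens) (v : ι → ↑(pullback f g)), IsClopen (V : Set ↑(pullback f g)) ∧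
        IsFinite (V.ι ≫ pullback.snd f g) ∧ ∀ i, v i ∈ V ∧ pullback.snd f g (v i) = t ∧
          pullback.fst f g (v i) = x i ∧ Function.Bijective ((pullback.fst f g).residueFieldMap (v i)) ∧
          ∀ w, pullback.snd f g w = t → pullback.fst f g w = x i → w = v i := by
  haveI := Fintype.ofFinite ι
  obtain ⟨U, g, t, hnb, V, v, hV⟩ := exists_nbhd_finite_parts f s x hs hx
  choose hvV hfin hvt huniq hvx hbij using hV
  let pr := pullback.snd f g
  haveI : IsSeparated pr := MorphismProperty.pullback_snd (P := @IsSeparated) _ _ ‹_›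
  haveI : LocallyOfFiniteType pr := MorphismProperty.pullback_snd (P := @LocallyOfFiniteType) _ _ ‹_›
  let W : (pullback f g).Opens := ⨆ i, V i
  let V' : ι → W.toScheme.Opens := fun i => W.ι ⁻¹ᵁ V i
  haveI : LocallyQuasiFinite (W.ι ≫ pr) := by
    refine (IsZariskiLocalAtSource.iff_of_openCover (P := @LocallyQuasiFinite) (Scheme.Opens.iSupOpenCover V)).2
      fun i => ?_
    haveI := hfin i
    show LocallyQuasiFinite ((pullback f g).homOfLE (le_iSup V i) ≫ W.ι ≫ pr)
    rw [Scheme.homOfLE_ι_assoc]
    infer_instance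
  have hfin' : ∀ i, IsFinite ((V' i).ι ≫ W.ι ≫ pr) := fun i => by
    haveI := hfin i
    have h : (V' i).ι ≫ W.ι ≫ pr = (W.ι.isoImage (V' i)).hom ≫ (W.ι ''ᵁ V' i).ι ≫ pr := by
      rw [Scheme.Hom.isoImage_hom_ι_assoc]
    have he : W.ι ''ᵁ V' i = V i := by
      apply TopologicalSpace.Opens.ext
      show W.ι '' (W.ι ⁻¹' (V i : Set ↑(pullback f g))) = V i
      rw [Set.image_preimage_eq_inter_range, Scheme.Opens.range_ι]
      exact Set.inter_eq_left.2 (le_iSup V i : V i ≤ W)
    rw [h]
    haveI : IsFinite ((W.ι ''ᵁ V' i).ι ≫ pr) := by rw [he]; infer_instance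
    infer_instance
  haveI := ASp.Cell.isFinite_finset_sup (W.ι ≫ pr) V' hfin' Finset.univ
  have htop : Finset.univ.sup V' = ⊤ := by
    rw [Finset.sup_univ_eq_iSup, ← Scheme.Hom.preimage_iSup]
    exact TopologicalSpace.Opens.ext (Set.eq_univ_of_forall fun a => a.2)
  haveI : IsFinite (W.ι ≫ pr) := by
    have := this
    rw [htop] at this
    haveI := this
    rw [show W.ι ≫ pr = W.toScheme.topIso.inv ≫ (⊤ : W.toScheme.Opens).ι ≫ W.ι ≫ pr by
      rw [← Category.assoc, show W.toScheme.topIso.inv ≫ (⊤ : W.toScheme.Opens).ι = 𝟙 _ from W.toScheme.topIso.inv_hom_id, Category.id_comp]]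
    infer_instance
  refine ⟨U, g, t, hnb, W, v, ⟨isClosed_of_isFinite_comp pr W, W.2⟩, ‹_›, fun i =>
    ⟨(le_iSup V i : V i ≤ W) (hvV i), hvt i, hvx i, hbij i, fun w hw hwx => ?_⟩⟩
  exact eq_of_residue_bijective f g t hnb.residue_bijective (v i) w (hvt i) (hbij i)
    (hwx.trans (hvx i).symm) hw

end Groth.Agent.EtaleSplit
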