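import Mathlib
import Groth.Agent.EtaleSplit.Weighting

set_option autoImplicit false
set_option backward.isDefEq.respectTransparency false
set_option backward.defeqAttrib.useBackward true
set_option linter.style.haveILetI false

/-!
# Composition of weightings
-/

open AlgebraicGeometry CategoryTheory Limits MoreMor

open scoped Topology

universe u

namespace Groth.Agent.EtaleSplit

theorem finsum_sigma_int {α : Type*} {β : α → Type*} (F : (Σ a, β a) → ℤ)
    (h : (Function.support F).Finite) : ∑ᶠ s, F s = ∑ᶠ a, ∑ᶠ b, F ⟨a, b⟩ := by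
  classical
  rw [finsum_eq_sum_of_support_subset _
    (s := (h.toFinset.image Sigma.fst).sigma fun a =>
      h.toFinset.preimage (Sigma.mk a) sigma_mk_injective.injOn) (by
      rintro ⟨a, b⟩ hs
      simp only [Finset.coe_sigma, Set.mem_sigma_iff, Finset.mem_coe, Finset.mem_image,
        Set.Finite.mem_toFinset, Finset.mem_preimage]
      exact ⟨⟨⟨a, b⟩, hs, rfl⟩, hs⟩)]
  rw [Finset.sum_sigma]
  have h2 : ∀ a, ∑ᶠ b, F ⟨a, b⟩ =
      ∑ b ∈ h.toFinset.preimage (Sigma.mk a) sigma_mk_injective.injOn, F ⟨a, b⟩ := fun a =>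
    finsum_eq_sum_of_support_subset _ (by intro b hb; simpa using hb)
  simp only [h2]
  refine (finsum_eq_sum_of_support_subset _ ?_).symm
  intro a ha
  simp only [Finset.coe_image, Set.Finite.coe_toFinset, Set.mem_image]
  obtain ⟨b, hb, -⟩ := Finset.exists_ne_zero_of_sum_ne_zero ha
  exact ⟨⟨a, b⟩, by simpa using hb, rfl⟩

variable {Ω : Type u} [Field Ω]

/-- Geometric points of a composition. -/
noncomputable def gptsComp {X Y Z : Scheme.{u}} (f : X ⟶ Y) (g : Y ⟶ Z) (q : Spec (.of Ω) ⟶ Z) :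
    GPts (f ≫ g) q ≃ Σ r : GPts g q, GPts f r.1 where
  toFun p := ⟨⟨p.1 ≫ f, by rw [Category.assoc, p.2]⟩, ⟨p.1, rfl⟩⟩
  invFun s := ⟨s.2.1, by rw [← Category.assoc, s.2.2, s.1.2]⟩
  left_inv p := rfl
  right_inv s := by
    obtain ⟨⟨r, hr⟩, p, hp⟩ := s
    obtain rfl : p ≫ f = r := hp
    rfl

theorem fibreIntegral_comp {X Y Z : Scheme.{u}} (f : X ⟶ Y) (g : Y ⟶ Z) [LocallyQuasiFinite f]
    [LocallyQuasiFinite g] (a : X → ℤ) (b : Y → ℤ) (z : Z)
    (hfin : {x | a x ≠ 0 ∧ g (f x) = z}.Finite) :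
    fibreIntegral (f ≫ g) (fun x => a x * b (f x)) z =
      fibreIntegral g (fun y => b y * fibreIntegral f a y) z := by
  have hfin1 : {x | a x * b (f x) ≠ 0 ∧ (f ≫ g) x = z}.Finite :=
    hfin.subset fun x hx => ⟨left_ne_zero_of_mul hx.1, hx.2⟩
  have hfin2 : ∀ y, g y = z → {x | a x ≠ 0 ∧ f x = y}.Finite := fun y hy =>
    hfin.subset fun x hx => ⟨hx.1, by rw [hx.2]; exact hy⟩
  have hfin3 : {y | b y * fibreIntegral f a y ≠ 0 ∧ g y = z}.Finite := by
    refine (hfin.image f).subset fun y hy => ?_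
    obtain ⟨x, hx, hx0⟩ := exists_ne_zero_of_fibreIntegral f a y (right_ne_zero_of_mul hy.1)
    exact ⟨x, ⟨hx0, by rw [hx]; exact hy.2⟩, hx⟩
  let q := geomPt z
  have hq : pt q = z := pt_geomPt z
  suffices h : fibreIntegral (f ≫ g) (fun x => a x * b (f x)) (pt q) =
      fibreIntegral g (fun y => b y * fibreIntegral f a y) (pt q) by rwa [hq] at h
  rw [← gint_eq (f ≫ g) _ q (by rw [hq]; exact hfin1),
    ← gint_eq g _ q (by rw [hq]; exact hfin3), gint, gint]
  have hS : (Function.support fun s : Σ r : GPts g q, GPts f r.1 =>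
      a (pt s.2.1) * b (f (pt s.2.1))).Finite := by
    refine ((finite_gpts_over (f ≫ g) q {x | a x * b (f x) ≠ 0}
      (by rw [hq]; exact hfin1)).image (gptsComp f g q)).subset fun s hs => ?_
    exact ⟨(gptsComp f g q).symm s, hs, Equiv.apply_symm_apply _ _⟩
  refine Eq.trans (finsum_eq_of_bijective
    (g := fun s : Σ r : GPts g q, GPts f r.1 => a (pt s.2.1) * b (f (pt s.2.1)))
    (gptsComp f g q) (gptsComp f g q).bijective fun _ => rfl) ?_
  rw [finsum_sigma_int _ hS]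
  refine finsum_congr fun r => ?_
  have hr : g (pt r.1) = z := r.map_pt.trans hq
  rw [← gint_eq f a r.1 (hfin2 _ hr), gint, mul_finsum' _ _]
  · refine finsum_congr fun p => ?_
    rw [GPts.map_pt p, mul_comm]
  · exact (finite_gpts_over f r.1 {x | a x ≠ 0} (hfin2 _ hr)).subset fun p hp => hp

theorem IsWeighting.eventually_eq' {X Y : Scheme.{u}} {f : X ⟶ Y} [LocallyQuasiFinite f]
    [LocallyOfFiniteType f] {w : X → ℤ} (hw : IsWeighting f w) (U : X.Opens)
    [IsFinite (U.ι ≫ f)] (y : Y) :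
    ∀ᶠ v in 𝓝 y, fibreIntegral f ((U : Set X).indicator w) v =
      fibreIntegral f ((U : Set X).indicator w) y :=
  IsWeighting.eventually_eq hw (IsPullback.of_horiz_isIso (fst := 𝟙 X) (snd := f) (g := 𝟙 Y) ⟨by simp⟩) U y

set_option maxHeartbeats 800000 in
theorem comp_step {X Y Z : Scheme.{u}} (f : X ⟶ Y) (g : Y ⟶ Z) [LocallyQuasiFinite f]
    [LocallyOfFiniteType f] [LocallyQuasiFinite g] [LocallyOfFiniteType g] {wf : X → ℤ}
    {wg : Y → ℤ} (hf : IsWeighting f wf) (hg : IsWeighting g wg) (t : Z) {ι : Type*} [Fintype ι]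
    (U : X.Opens) (Ui : ι → X.Opens) (V : ι → Y.Opens) [IsFinite (U.ι ≫ f ≫ g)]
    [∀ i, IsFinite ((Ui i).ι ≫ f ≫ g)] [∀ i, IsFinite ((V i).ι ≫ g)]
    (hle : ∀ i, Ui i ≤ f ⁻¹ᵁ V i) (ha : ∀ x, x ∈ U → g (f x) = t → ∃ i, x ∈ Ui i)
    (hb : ∀ i x, x ∈ Ui i → g (f x) = t → x ∈ U)
    (hc : ∀ i j x, x ∈ Ui i → x ∈ Ui j → g (f x) = t → i = j)
    (hu : ∀ i y y', y ∈ V i → y' ∈ V i → g y = t → g y' = t → y = y') :
    ∀ᶠ v in 𝓝 t, fibreIntegral (f ≫ g) ((U : Set X).indicator fun x => wf x * wg (f x)) v =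
      fibreIntegral (f ≫ g) ((U : Set X).indicator fun x => wf x * wg (f x)) t := by
  classical
  let F : ι → Z → ℤ := fun i v =>
    fibreIntegral (f ≫ g) ((Ui i : Set X).indicator fun x => wf x * wg (f x)) v
  have hG : ∀ (i : ι) (y₀ : Y), y₀ ∈ V i → ∀ᶠ y in 𝓝 y₀,
      fibreIntegral f ((Ui i : Set X).indicator wf) y =
        fibreIntegral f ((Ui i : Set X).indicator wf) y₀ := by
    intro i y₀ hy₀
    have hpb := (isPullback_morphismRestrict f (V i)).flip
    let j := (f ⁻¹ᵁ V i).ι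
    have hr : Set.range ((j ⁻¹ᵁ Ui i).ι ≫ j) = Set.range (Ui i).ι := by
      ext x
      constructor
      · rintro ⟨z, rfl⟩; exact ⟨⟨_, z.2⟩, rfl⟩
      · rintro ⟨z, rfl⟩; exact ⟨⟨⟨z.1, hle i z.2⟩, z.2⟩, rfl⟩
    let e := IsOpenImmersion.isoOfRangeEq ((j ⁻¹ᵁ Ui i).ι ≫ j) (Ui i).ι hr
    haveI : IsFinite (((j ⁻¹ᵁ Ui i).ι ≫ f ∣_ V i) ≫ (V i).ι ≫ g) := by
      rw [Category.assoc, morphismRestrict_ι_assoc, ← Category.assoc,
        ← IsOpenImmersion.isoOfRangeEq_hom_fac ((j ⁻¹ᵁ Ui i).ι ≫ j) (Ui i).ι hr, Category.assoc]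
      infer_instance
    haveI : IsFinite ((j ⁻¹ᵁ Ui i).ι ≫ f ∣_ V i) := IsFinite.of_comp _ ((V i).ι ≫ g)
    have hbc : ∀ y : (V i).toScheme, fibreIntegral (f ∣_ V i)
        ((j ⁻¹ᵁ Ui i : Set _).indicator fun x => wf (j x)) y =
        fibreIntegral f ((Ui i : Set X).indicator wf) y.1 := fun y => by
      have hfin : {x | (Ui i : Set X).indicator wf x ≠ 0 ∧ f x = y.1}.Finite :=
        (finite_fibre_open (f ≫ g) (Ui i) (g y.1)).subset fun x hx =>
          ⟨Set.mem_of_indicator_ne_zero hx.1, congrArg g hx.2⟩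
      exact fibreIntegral_baseChange hpb ((Ui i : Set X).indicator wf) y hfin
    have h1 := IsWeighting.eventually_eq hf hpb (j ⁻¹ᵁ Ui i) ⟨y₀, hy₀⟩
    rw [nhds_subtype_eq_comap, Filter.eventually_comap] at h1
    filter_upwards [h1, (V i).2.mem_nhds hy₀] with y hy hyV
    have := hy ⟨y, hyV⟩ rfl
    rwa [hbc, hbc] at this
  have hF : ∀ i, ∀ᶠ v in 𝓝 t, F i v = F i t := by
    intro i
    have hFv : ∀ v, F i v = fibreIntegral g
        (fun y => wg y * fibreIntegral f ((Ui i : Set X).indicator wf) y) v := fun v => by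
      have := fibreIntegral_comp f g ((Ui i : Set X).indicator wf) wg v
        ((finite_fibre_open (f ≫ g) (Ui i) v).subset fun x hx =>
          ⟨Set.mem_of_indicator_ne_zero hx.1, hx.2⟩)
      rw [← this]
      refine finsum_congr fun x => ?_
      rw [Set.indicator_mul_left]
    by_cases hne : ∃ y₀, y₀ ∈ V i ∧ g y₀ = t
    · obtain ⟨y₀, hy₀, hy₀t⟩ := hne
      obtain ⟨O, hO, hOo, hy₀O⟩ := eventually_nhds_iff.mp (hG i y₀ hy₀)
      have hev := eventually_forall_of_fibre g (V i) O hOo t fun y hy hyt =>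
        hu i y₀ y hy₀ hy hy₀t hyt ▸ hy₀O
      let c := fibreIntegral f ((Ui i : Set X).indicator wf) y₀
      have hval : ∀ v, (∀ y, y ∈ V i → g y = v → y ∈ O) →
          F i v = fibreIntegral g ((V i : Set Y).indicator wg) v * c := by
        intro v hv
        rw [hFv, fibreIntegral, fibreIntegral, finsum_mul' _ _]
        · refine finsum_congr fun y => ?_
          by_cases hy : y.1 ∈ V i
          · rw [Set.indicator_of_mem (show y.1 ∈ (V i : Set Y) from hy),
              hO y.1 (hv y.1 hy y.2)]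
            ring
          · rw [Set.indicator_of_notMem (show y.1 ∉ (V i : Set Y) from hy), zero_mul, zero_mul]
            have : fibreIntegral f ((Ui i : Set X).indicator wf) y.1 = 0 := by
              by_contra h0
              obtain ⟨x, hx, hx0⟩ := exists_ne_zero_of_fibreIntegral f _ y.1 h0
              exact hy (hx ▸ hle i (Set.mem_of_indicator_ne_zero hx0))
            rw [this, mul_zero, zero_mul]
        · refine ((finite_fibre_open g (V i) v).preimage Subtype.val_injective.injOn).subset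
            fun y hy => ?_
          exact ⟨Set.mem_of_indicator_ne_zero (left_ne_zero_of_mul hy), y.2⟩
      filter_upwards [hev, IsWeighting.eventually_eq' hg (V i) t] with v hv hv'
      rw [hval v hv, hval t hev.self_of_nhds, hv']
    · have h0 := eventually_forall_of_fibre g (V i) ∅ isOpen_empty t
        fun y hy hyt => (hne ⟨y, hy, hyt⟩).elim
      have hzero : ∀ v, (∀ y, y ∈ V i → g y = v → y ∈ (∅ : Set Y)) → F i v = 0 := by
        intro v hv
        by_contra h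
        obtain ⟨x, hx, hx0⟩ := exists_ne_zero_of_fibreIntegral (f ≫ g) _ v h
        exact hv (f x) (hle i (Set.mem_of_indicator_ne_zero hx0)) hx
      filter_upwards [h0] with v hv
      rw [hzero v hv, hzero t h0.self_of_nhds]
  have hsum := eventually_integral_eq_sum (f ≫ g) (fun x => wf x * wg (f x)) t U Ui ha hb hc
  filter_upwards [hsum, Filter.eventually_all.mpr hF] with v hv hv'
  rw [hv, hsum.self_of_nhds]
  exact Finset.sum_congr rfl fun i _ => hv' i

theorem isPullback_mapPullback {X Y Z T : Scheme.{u}} (f : X ⟶ Y) (g : Y ⟶ Z) (h : X ⟶ Z)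
    (hh : f ≫ g = h) (a : T ⟶ Z) :
    IsPullback (pullback.fst h a)
      (pullback.map h a g a f (𝟙 T) (𝟙 Z) (by simp [hh]) (by simp)) f (pullback.fst g a) := by
  refine IsPullback.of_bot (v₂₁ := pullback.snd g a) (v₂₂ := g) ?_ ?_ (IsPullback.of_hasPullback g a)
  · simpa [hh] using IsPullback.of_hasPullback h a
  · simp

set_option maxHeartbeats 1600000 in
theorem IsWeighting.comp_eventually_eq {X Y Z : Scheme.{u}} (f : X ⟶ Y) (g : Y ⟶ Z)
    [LocallyQuasiFinite f] [LocallyOfFiniteType f] [LocallyQuasiFinite g] [LocallyOfFiniteType g]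
    {wf : X → ℤ} {wg : Y → ℤ} (hf : IsWeighting f wf) (hg : IsWeighting g wg) (U : X.Opens)
    [IsFinite (U.ι ≫ f ≫ g)] (z₀ : Z) :
    ∀ᶠ v in 𝓝 z₀, fibreIntegral (f ≫ g) ((U : Set X).indicator fun x => wf x * wg (f x)) v =
      fibreIntegral (f ≫ g) ((U : Set X).indicator fun x => wf x * wg (f x)) z₀ := by
  classical
  let q := geomPt z₀
  let ι := {p : GPts (f ≫ g) q // pt p.1 ∈ U}
  haveI : Finite ι :=
    (finite_gpts_over (f ≫ g) q U (finite_fibre_open (f ≫ g) U (pt q))).to_subtype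
  haveI := Fintype.ofFinite ι
  -- first localization
  obtain ⟨T₁, g₁, q₁, hq₁, V, _, hV⟩ := exists_split g q
    (fun i : ι => (⟨i.1.1 ≫ f, by rw [Category.assoc, i.1.2]⟩ : GPts g q)) (fun _ => ⊤)
    (fun _ => trivial) (fun _ => g.quasiFiniteAt _)
  haveI := fun i => (hV i).1
  let f₁ : pullback (f ≫ g) g₁ ⟶ pullback g g₁ :=
    pullback.map (f ≫ g) g₁ g g₁ f (𝟙 T₁) (𝟙 Z) (by simp) (by simp)
  have hf₁ : IsPullback (pullback.fst (f ≫ g) g₁) f₁ f (pullback.fst g g₁) :=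
    isPullback_mapPullback f g (f ≫ g) rfl g₁
  have hf₁s : f₁ ≫ pullback.snd g g₁ = pullback.snd (f ≫ g) g₁ := by simp [f₁]
  let p₁ : ∀ i : ι, GPts (pullback.snd (f ≫ g) g₁) q₁ := fun i =>
    ⟨pullback.lift i.1.1 q₁ (i.1.2.trans hq₁.symm), pullback.lift_snd _ _ _⟩
  have hp₁V : ∀ i, f₁ (pt (p₁ i).1) ∈ V i := fun i => by
    have h := (hV i).2.2.1
    rw [← pt_comp]
    convert h using 2
    apply pullback.hom_ext <;> simp [f₁, p₁]
  -- second localization
  obtain ⟨T₂, g₂, q₂, hq₂, Ui, _, hUi⟩ := exists_split (pullback.snd (f ≫ g) g₁) q₁ p₁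
    (fun i => (pullback.fst (f ≫ g) g₁ ⁻¹ᵁ U) ⊓ f₁ ⁻¹ᵁ V i)
    (fun i => ⟨by
      show pullback.fst (f ≫ g) g₁ (pt (p₁ i).1) ∈ U
      rw [← pt_comp, pullback.lift_fst]; exact i.2, hp₁V i⟩)
    (fun _ => Scheme.Hom.quasiFiniteAt _ _)
  haveI := fun i => (hUi i).1
  let P := pullback (pullback.snd (f ≫ g) g₁) g₂
  let Q := pullback (pullback.snd g g₁) g₂
  let f₂ : P ⟶ Q := pullback.map (pullback.snd (f ≫ g) g₁) g₂ (pullback.snd g g₁) g₂ f₁ (𝟙 T₂)
    (𝟙 T₁) (by simp [hf₁s]) (by simp)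
  have hf₂ : IsPullback (pullback.fst (pullback.snd (f ≫ g) g₁) g₂) f₂ f₁
      (pullback.fst (pullback.snd g g₁) g₂) :=
    isPullback_mapPullback f₁ (pullback.snd g g₁) _ hf₁s g₂
  have hf₂s : f₂ ≫ pullback.snd (pullback.snd g g₁) g₂ =
      pullback.snd (pullback.snd (f ≫ g) g₁) g₂ := by simp [f₂]
  have hcf : IsPullback (pullback.fst (pullback.snd (f ≫ g) g₁) g₂ ≫ pullback.fst (f ≫ g) g₁) f₂ f
      (pullback.fst (pullback.snd g g₁) g₂ ≫ pullback.fst g g₁) := hf₂.paste_horiz hf₁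
  have hcg : IsPullback (pullback.fst (pullback.snd g g₁) g₂ ≫ pullback.fst g g₁)
      (pullback.snd (pullback.snd g g₁) g₂) g (g₂ ≫ g₁) :=
    (IsPullback.of_hasPullback _ g₂).paste_horiz (IsPullback.of_hasPullback g g₁)
  have hch : IsPullback (pullback.fst (pullback.snd (f ≫ g) g₁) g₂ ≫ pullback.fst (f ≫ g) g₁)
      (f₂ ≫ pullback.snd (pullback.snd g g₁) g₂) (f ≫ g) (g₂ ≫ g₁) := by
    rw [hf₂s]
    exact (IsPullback.of_hasPullback _ g₂).paste_horiz (IsPullback.of_hasPullback (f ≫ g) g₁)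
  haveI : LocallyQuasiFinite f₂ := MorphismProperty.of_isPullback hcf ‹_›
  haveI : LocallyOfFiniteType f₂ := MorphismProperty.of_isPullback hcf ‹_›
  haveI : IsFinite (((pullback.fst (pullback.snd (f ≫ g) g₁) g₂ ≫ pullback.fst (f ≫ g) g₁) ⁻¹ᵁ
      U).ι ≫ f₂ ≫ pullback.snd (pullback.snd g g₁) g₂) := isFinite_preimage hch U
  haveI : ∀ i, IsFinite ((Ui i).ι ≫ f₂ ≫ pullback.snd (pullback.snd g g₁) g₂) := fun i => by
    rw [hf₂s]; infer_instance
  haveI := fun i => isFinite_preimage (IsPullback.of_hasPullback (pullback.snd g g₁) g₂) (V i)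
  have hgu : ∀ x : ↑P, pullback.snd (pullback.snd g g₁) g₂ (f₂ x) = pt q₂ →
      ∃ r : GPts (pullback.snd (pullback.snd (f ≫ g) g₁) g₂) q₂, pt r.1 = x := by
    intro x hx
    refine exists_gpt _ q₂ x ?_
    rw [← hf₂s]
    exact hx
  have huniq : ∀ (r : GPts (pullback.snd (pullback.snd (f ≫ g) g₁) g₂) q₂) (i : ι),
      pt r.1 ∈ Ui i → r.1 ≫ pullback.fst _ g₂ ≫ pullback.fst (f ≫ g) g₁ = i.1.1 := fun r i hr => by
    rw [(hUi i).2.2.2 r hr, pullback.lift_fst_assoc, pullback.lift_fst]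
  have key := comp_step f₂ (pullback.snd (pullback.snd g g₁) g₂)
    (IsWeighting.baseChange hf hcf) (IsWeighting.baseChange hg hcg) (pt q₂)
    ((pullback.fst (pullback.snd (f ≫ g) g₁) g₂ ≫ pullback.fst (f ≫ g) g₁) ⁻¹ᵁ U) Ui
    (fun i => pullback.fst (pullback.snd g g₁) g₂ ⁻¹ᵁ V i)
    (fun i x hx => by
      show pullback.fst (pullback.snd g g₁) g₂ (f₂ x) ∈ V i
      have : (f₂ ≫ pullback.fst (pullback.snd g g₁) g₂) x =
          (pullback.fst (pullback.snd (f ≫ g) g₁) g₂ ≫ f₁) x := by rw [hf₂.w]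
      rw [← Scheme.Hom.comp_apply, this]
      exact ((hUi i).2.1 hx).2)
    (fun x hx hxt => by
      obtain ⟨r, rfl⟩ := hgu x hxt
      let p : GPts (f ≫ g) q := ⟨r.1 ≫ pullback.fst _ g₂ ≫ pullback.fst (f ≫ g) g₁, by
        rw [Category.assoc, Category.assoc, pullback.condition, pullback.condition_assoc,
          reassoc_of% r.2, reassoc_of% hq₂, hq₁]⟩
      refine ⟨⟨p, hx⟩, ?_⟩
      have h := (hUi ⟨p, hx⟩).2.2.1
      convert h using 2
      apply pullback.hom_ext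
      · rw [pullback.lift_fst]
        apply pullback.hom_ext
        · simp [p₁, p]
        · simp only [p₁, Category.assoc, pullback.lift_snd]
          rw [pullback.condition, reassoc_of% r.2, hq₂]
      · rw [pullback.lift_snd, r.2])
    (fun i x hx _ => ((hUi i).2.1 hx).1)
    (fun i j x hxi hxj hxt => by
      obtain ⟨r, rfl⟩ := hgu x hxt
      exact Subtype.ext (Subtype.ext ((huniq r i hxi).symm.trans (huniq r j hxj))))
    (fun i y y' hy hy' hyt hyt' => by
      have hy1 : ∀ y, y ∈ pullback.fst (pullback.snd g g₁) g₂ ⁻¹ᵁ V i →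
          pullback.snd (pullback.snd g g₁) g₂ y = pt q₂ →
          ∃ r : GPts (pullback.snd (pullback.snd g g₁) g₂) q₂, pt r.1 = y ∧
            r.1 ≫ pullback.fst (pullback.snd g g₁) g₂ =
              pullback.lift (i.1.1 ≫ f) q₁ (by rw [Category.assoc, i.1.2, hq₁]) := by
        intro y hy hyt
        obtain ⟨r, rfl⟩ := exists_gpt (pullback.snd (pullback.snd g g₁) g₂) q₂ y hyt
        exact ⟨r, rfl, (hV i).2.2.2 ⟨r.1 ≫ pullback.fst _ g₂, by
          rw [Category.assoc, pullback.condition, reassoc_of% r.2, hq₂]⟩ hy⟩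
      obtain ⟨r, rfl, hr⟩ := hy1 y hy hyt
      obtain ⟨r', rfl, hr'⟩ := hy1 y' hy' hyt'
      have : r.1 = r'.1 := pullback.hom_ext (hr.trans hr'.symm) (r.2.trans r'.2.symm)
      rw [this])
  have hbc : ∀ v, fibreIntegral (f₂ ≫ pullback.snd (pullback.snd g g₁) g₂)
      (((pullback.fst (pullback.snd (f ≫ g) g₁) g₂ ≫ pullback.fst (f ≫ g) g₁) ⁻¹ᵁ U :
        Set _).indicator fun x =>
          wf ((pullback.fst (pullback.snd (f ≫ g) g₁) g₂ ≫ pullback.fst (f ≫ g) g₁) x) *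
          wg ((pullback.fst (pullback.snd g g₁) g₂ ≫ pullback.fst g g₁) (f₂ x))) v =
      fibreIntegral (f ≫ g) ((U : Set X).indicator fun x => wf x * wg (f x)) ((g₂ ≫ g₁) v) := by
    intro v
    rw [← fibreIntegral_baseChange hch _ v (finite_support_indicator (f ≫ g) U _ _)]
    congr 1
    funext x
    have : (pullback.fst (pullback.snd g g₁) g₂ ≫ pullback.fst g g₁) (f₂ x) =
        f ((pullback.fst (pullback.snd (f ≫ g) g₁) g₂ ≫ pullback.fst (f ≫ g) g₁) x) :=
      congr($(hcf.w) x).symm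
    simp only [Set.indicator_apply, this]
    rfl
  have ht : (g₂ ≫ g₁) (pt q₂) = z₀ := by
    rw [← pt_comp, reassoc_of% hq₂, hq₁, pt_geomPt]
  rw [← ht]
  refine Filter.mem_of_superset ((g₂ ≫ g₁).isOpenMap.image_mem_nhds key) ?_
  rintro _ ⟨v, hv, rfl⟩
  show fibreIntegral (f ≫ g) _ _ = _
  rw [← hbc, ← hbc]
  exact hv

theorem IsWeighting.comp {X Y Z : Scheme.{u}} (f : X ⟶ Y) (g : Y ⟶ Z)
    [LocallyQuasiFinite f] [LocallyOfFiniteType f] [LocallyQuasiFinite g] [LocallyOfFiniteType g]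
    {wf : X → ℤ} {wg : Y → ℤ} (hf : IsWeighting f wf) (hg : IsWeighting g wg) :
    IsWeighting (f ≫ g) (fun x => wf x * wg (f x)) := by
  intro T a _ U hU
  haveI := hU
  let f' : pullback (f ≫ g) a ⟶ pullback g a :=
    pullback.map (f ≫ g) a g a f (𝟙 T) (𝟙 Z) (by simp) (by simp)
  have hf' : IsPullback (pullback.fst (f ≫ g) a) f' f (pullback.fst g a) :=
    isPullback_mapPullback f g (f ≫ g) rfl a
  have hs : f' ≫ pullback.snd g a = pullback.snd (f ≫ g) a := by simp [f']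
  haveI : LocallyQuasiFinite f' := MorphismProperty.of_isPullback hf' ‹_›
  haveI : LocallyOfFiniteType f' := MorphismProperty.of_isPullback hf' ‹_›
  haveI : IsFinite (U.ι ≫ f' ≫ pullback.snd g a) := by rw [hs]; exact hU
  rw [IsLocallyConstant.iff_eventually_eq]
  intro v₀
  filter_upwards [IsWeighting.comp_eventually_eq f' (pullback.snd g a)
    (IsWeighting.baseChange hf hf') (IsWeighting.baseChange hg (IsPullback.of_hasPullback g a))
    U v₀] with v hv
  rw [fibreIntegral_open (pullback.snd (f ≫ g) a) U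
      (fun x => wf (pullback.fst (f ≫ g) a x) * wg (f (pullback.fst (f ≫ g) a x))) v
      (finite_fibre_open _ U v),
    fibreIntegral_open (pullback.snd (f ≫ g) a) U
      (fun x => wf (pullback.fst (f ≫ g) a x) * wg (f (pullback.fst (f ≫ g) a x))) v₀
      (finite_fibre_open _ U v₀)]
  rw [hs] at hv
  have hfun : ∀ x, wg (f (pullback.fst (f ≫ g) a x)) = wg (pullback.fst g a (f' x)) := fun x =>
    congrArg wg congr($(hf'.w) x)
  simp only [hfun]
  exact hv

end Groth.Agent.EtaleSplit
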